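import Cfsg.Agent.H751.IF.HexKill_m3
import Cfsg.Agent.MonsterX.ThOneClass
import Cfsg.Agent.KFacts.Th.Main
import Cfsg.Agent.H209.EPX.Defs_m3
import Cfsg.Agent.H956.IF.Central
import Cfsg.Agent.H30.IF.Frob_m3
import Cfsg.Agent.S0205
import Cfsg.Agent.AutOrth.Main
import Cfsg.Agent.LieClassical.OrthSimple
import Cfsg.Agent.LieClassical.OrthFinite
import Mathlib
import Cfsg.Prelude.Def_Classical
import Cfsg.Agent.AutOrth.SemiSim
import Cfsg.Agent.ClassicalGeometry.MinIndexMain
import Cfsg.Agent.S0806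
import Cfsg.Agent.TwoFusion.SLTwoFacts
import Cfsg.Agent.ClassicalGeometry.PSL2Basic
import Cfsg.Agent.ClassicalGeometry.SLTwoFour
import Cfsg.Agent.H112.Row2.OrthExt
import Cfsg.Agent.H74.SpN
import Cfsg.Agent.S0215
import Cfsg.Agent.H800.IFx.Gen_m3
import Cfsg.Agent.H383.Cov.Inv
import Cfsg.Agent.LieClassical.SympCount
import Cfsg.Agent.ClassicalGeometry.SympInvolutions
import Cfsg.Agent.S0245
import Cfsg.Agent.ClassicalGeometry.MinIndexFinal
import Cfsg.Agent.H964.NoHall.Tr
import Cfsg.Agent.ClassicalGeometry.SympGamma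
import Cfsg.Agent.ClassicalGeometry.SympAutExists
import Cfsg.Agent.ClassicalGeometry.SympAutOddA
import Cfsg.Agent.H886.FC.ClassB
import Cfsg.Agent.H567.FC.ZMap
import Cfsg.Agent.H198.FC.DefsB
import Cfsg.Agent.H602.FC.AutL
import Cfsg.Agent.Schreier.PSU
import Cfsg.Agent.S0242
import Cfsg.Agent.H406.IF.PSUEven_mg_m3
import Cfsg.Agent.H177.InvolOrth
import Cfsg.Agent.FastGrp
import Cfsg.Agent.Prune
set_option linter.all false

section
prune_inst 0x7f00000000000000000000000000000000000000000000000000000000000000000000000000000000000000000000000000000000000000000000000000000000000000000000000000000000000000003fffffffffffffffffffffffffffbeffbdffffffff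

section
prune_inst 0xfce8fba9f839dfdfff7e7fa798cffc39901fffa6dff94bbfe02bff2b9f23000fc5fbad09e000fe0ff6601410b87853f97eeeffe26bd87ffffd1ff41ffbee0ff5f7b508519488340fbc0ffe03f0778e7f000000000000000000000000000000000200000000

-- part: H672/IF/Th
section
set_option linter.all false
open scoped Cfsg.Agent.FastGrp

/-!
# S5719: the Thompson group (helper672)

`C(z) = Q.A₉`, `Q = 2^(1+8)`, one class of involutions, `|z^T| = 976841775 < 63^5`, so `|C(t) : C_A(t)| ≤ 62`.

* `Q_le_of` : `Q_t ≤ A` for the involutions `t` of `A` (the orbits of `A₉` on the spin module have 135 and 120 elements);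
* `cent_le` : `C(t) ≤ A` for the involutions `t` of `A`;
* `mem_of_conj` : `t^g ∈ A` implies `g ∈ A`, so `t` has only one fixed point.
-/

set_option autoImplicit false
set_option maxRecDepth 100000

namespace Cfsg.Agent.H672.IF.Th

open Subgroup Cfsg.Agent.ThType.SpinData Cfsg.Agent.ThType.SpinRep Cfsg.Agent.ThType.ElemE Cfsg.Agent.ThType.NormE
  Cfsg.Agent.H672.IF.ThOrb

section spin

variable {G : Type*} [Group G] {z : G} (S : SpinAt G z) {A : Subgroup G}

/-- the image of `Q ∩ A` in the spin module -/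
def V0 (A : Subgroup G) : AddSubgroup V where
  carrier := {v | ∃ x ∈ S.Q ⊓ A, S.π x = v}
  add_mem' := by
    rintro _ _ ⟨x, hx, rfl⟩ ⟨y, hy, rfl⟩
    exact ⟨x * y, mul_mem hx hy, S.π_mul x hx.1 y hy.1⟩
  zero_mem' := ⟨1, one_mem _, pi_one S⟩
  neg_mem' := by
    rintro _ ⟨x, hx, rfl⟩
    refine ⟨x, hx, ?_⟩
    exact (neg_eq_of_add_eq_zero_left (vadd_self _)).symm

theorem preim_V0 (hz : z ∈ A) : preim S (V0 S A) = S.Q ⊓ A := by
  ext x
  rw [mem_preim]
  constructor
  · rintro ⟨hx, y, hy, hxy⟩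
    refine ⟨hx, ?_⟩
    rcases pi_eq S hx hy.1 hxy.symm with h | h
    · rw [h]; exact hy.2
    · rw [h]; exact mul_mem hz hy.2
  · intro hx
    exact ⟨hx.1, x, hx, rfl⟩

/-- the orthogonal space -/
noncomputable def W (A : Subgroup G) : Submodule (ZMod 2) V :=
  B.orthogonal (AddSubgroup.toZModSubmodule 2 (V0 S A))

theorem card_W : Nat.card (V0 S A) * Nat.card (W S A) = 256 := by
  have h3 := LinearMap.BilinForm.finrank_add_finrank_orthogonal' (B := B) (AddSubgroup.toZModSubmodule 2 (V0 S A))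
  rw [ker_B, inf_bot_eq, finrank_bot, add_zero] at h3
  have h4 : Module.finrank (ZMod 2) V = 8 := by simp
  have : Fact (Nat.Prime 2) := ⟨Nat.prime_two⟩
  have h5 : Nat.card (V0 S A) = Nat.card (AddSubgroup.toZModSubmodule 2 (V0 S A)) := rfl
  rw [h5, W, Module.natCard_eq_pow_finrank (K := ZMod 2) (V := AddSubgroup.toZModSubmodule 2 (V0 S A)),
    Module.natCard_eq_pow_finrank (K := ZMod 2) (V := B.orthogonal (AddSubgroup.toZModSubmodule 2 (V0 S A))),
    Nat.card_zmod, ← pow_add, h3, h4]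
  norm_num

theorem mem_W {v : V} : v ∈ W S A ↔ ∀ w ∈ V0 S A, b0 w v = 0 := by
  rw [W, LinearMap.BilinForm.mem_orthogonal_iff]
  rfl

/-- the order of `C_A(z)` -/
theorem card_D (A : Subgroup G) : Nat.card (A.subgroupOf (C z)) =
    Nat.card (S.Q ⊓ A : Subgroup G) * Nat.card ((A.subgroupOf (C z)).map (phiHom S)) := by
  have h1 := Subgroup.card_mul_index ((phiHom S).comp (A.subgroupOf (C z)).subtype).ker
  rw [Subgroup.index_ker, MonoidHom.range_comp, Subgroup.range_subtype] at h1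
  rw [← h1]
  congr 1
  refine Nat.card_congr ⟨fun x => ⟨x.1.1.1, ?_, x.1.2⟩, fun x => ⟨⟨⟨x.1, Q_le_C S x.2.1⟩, x.2.2⟩, ?_⟩, ?_, ?_⟩
  · have h2 : S.φ x.1.1.1 = 1 := x.2
    exact (S.φ_eq_one _ (mem_C.1 x.1.1.2)).1 h2
  · exact phi_Q S x.2.1
  · intro x
    rfl
  · intro x
    rfl

theorem exists_ne (hz : z ∈ A) (hle : ¬ S.Q ≤ A) : ∃ w ∈ W S A, w ≠ 0 := by
  by_contra hcon
  push Not at hcon
  have h1 : Nat.card (W S A) = 1 := by
    rw [Nat.card_eq_one_iff_unique]
    exact ⟨⟨fun a b => Subtype.ext ((hcon a.1 a.2).trans (hcon b.1 b.2).symm)⟩, ⟨0⟩⟩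
  have h2 := card_W S (A := A)
  rw [h1, mul_one] at h2
  have h3 : V0 S A = ⊤ := by
    apply AddSubgroup.eq_top_of_card_eq
    rw [h2, Nat.card_eq_fintype_card]
    rfl
  have h4 := preim_V0 S hz
  rw [h3, preim_top] at h4
  apply hle
  rw [h4]
  exact inf_le_right

theorem stable {g : alternatingGroup (Fin 9)} (hg : g ∈ (A.subgroupOf (C z)).map (phiHom S)) {w : V} (hw : w ∈ W S A) :
    (S.ρ g).mulVec w ∈ W S A := by
  obtain ⟨c, hc, rfl⟩ := hg
  have hcz : (c : G) * z = z * c := mem_C.1 c.2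
  have hcz' : (c : G)⁻¹ * z = z * (c : G)⁻¹ := ((show Commute (c : G) z from hcz).inv_left).eq
  rw [mem_W]
  rintro _ ⟨x, hx, rfl⟩
  change b0 (S.π x) ((S.ρ (S.φ c)).mulVec w) = 0
  have h1 := b0_rho S.ρ_cyc (S.φ c)⁻¹ (S.π x) ((S.ρ (S.φ c)).mulVec w)
  rw [rho_inv_rho] at h1
  rw [← h1, ← phi_inv S _ hcz, ← S.act _ hcz' x hx.1]
  refine (mem_W S).1 hw _ ⟨_, ⟨conj_mem_Q S hcz' hx.1, ?_⟩, rfl⟩
  have hcA : (c : G) ∈ A := hc
  exact A.mul_mem (A.mul_mem (A.inv_mem hcA) hx.2) (A.inv_mem (A.inv_mem hcA))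

/-- **`Q ≤ A`.** -/
theorem Q_le_of (hz : z ∈ A) (hi : A.relIndex (C z) ≤ 62) : S.Q ≤ A := by
  by_contra hle
  obtain ⟨w, hw, hw0⟩ := exists_ne S hz hle
  have h1 := card_le S.ρ_cyc (R := (A.subgroupOf (C z)).map (phiHom S)) (W := (W S A : Set V))
    (fun g hg v hv => stable S hg hv) (W S A).zero_mem hw hw0
  have h2 := card_D S A
  have h3 : Nat.card (A.subgroupOf (C z)) * A.relIndex (C z) = 512 * 181440 := by
    rw [← card_C S]
    exact Subgroup.card_mul_index _
  have h4 : Nat.card (S.Q ⊓ A : Subgroup G) = 2 * Nat.card (V0 S A) := by rw [← preim_V0 S hz, card_preim]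
  have h5 := card_W S (A := A)
  have h6 : Nat.card ((W S A : Set V)) = Nat.card (W S A) := rfl
  rw [h6] at h1
  have h7 : 0 < Nat.card (W S A) := Nat.card_pos
  set n := A.relIndex (C z)
  set r := Nat.card ((A.subgroupOf (C z)).map (phiHom S))
  set v := Nat.card (V0 S A)
  set u := Nat.card (W S A)
  rw [h2, h4] at h3
  -- `r n = 181440 u`
  have h8 : r * n = 181440 * u := by
    have h9 : 512 * (r * n) = 512 * (181440 * u) := by
      calc 512 * (r * n) = 2 * (v * u) * r * n := by rw [h5]; ring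
        _ = (2 * v * r * n) * u := by ring
        _ = 512 * (181440 * u) := by rw [h3]; ring
    omega
  have h10 : 120 * (181440 * u) ≤ 181440 * (u - 1) * 62 := by
    calc 120 * (181440 * u) = 120 * r * n := by rw [← h8]; ring
      _ ≤ 181440 * (u - 1) * 62 := Nat.mul_le_mul h1 hi
  omega

/-- `Q_(gzg⁻¹) ∩ C(z)` is not contained in `Q`. -/
theorem false_of_bot [Finite G] {g : G} (hc : g * z * g⁻¹ ∈ S.Q) (hcz : g * z * g⁻¹ ≠ z)
    (h : ∀ x ∈ (conj S g).Q, x * z = z * x → x ∈ S.Q) : False := by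
  have hz := z_mem_conj S hc hcz
  obtain ⟨a, b, h1, h2, h3⟩ := exists_pair ((conj S g).π z)
  obtain ⟨x, hx, rfl⟩ := (conj S g).π_surj a
  obtain ⟨y, hy, rfl⟩ := (conj S g).π_surj b
  have hxz := (comm_iff (conj S g) hx hz).2 h1
  have hyz := (comm_iff (conj S g) hy hz).2 h2
  have hxQ := h x hx hxz
  have hyQ := h y hy hyz
  have h4 := (conj S g).comm x hx y hy
  rw [if_neg (by rw [h3]; decide)] at h4
  have h5 := S.comm x hxQ y hyQ
  rw [h4] at h5
  have h6 := mul_right_cancel h5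
  split_ifs at h6 with h7
  · exact (conj S g).z_ne h6
  · exact hcz h6

/-- **`C(z) ≤ A`.** -/
theorem cent_le [Finite G] (hall : ∀ (s : G) (S' : SpinAt G s), s ∈ A → S'.Q ≤ A) (hz : z ∈ A) {g : G}
    (hc : g * z * g⁻¹ ∈ S.Q) (hcz : g * z * g⁻¹ ≠ z) : C z ≤ A := by
  have hQA := hall z S hz
  set X : Set (C z) := {x | (x : G) ∈ (conj S g).Q} with hX
  have hN : Subgroup.normalClosure X ≤ A.subgroupOf (C z) := by
    change Subgroup.closure (Group.conjugatesOfSet X) ≤ _
    rw [Subgroup.closure_le]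
    intro x hx
    obtain ⟨a, ha, hax⟩ := Group.mem_conjugatesOfSet_iff.1 hx
    obtain ⟨c, rfl⟩ := isConj_iff.1 hax
    have hcz' : (c : G) * z = z * c := mem_C.1 c.2
    have h1 : ((c : G) * g) * z * ((c : G) * g)⁻¹ ∈ A := by
      apply hQA
      have h2 := conj_mem_Q S hcz' hc
      have h3 : ((c : G) * g) * z * ((c : G) * g)⁻¹ = (c : G) * (g * z * g⁻¹) * (c : G)⁻¹ := by group
      rwa [h3]
    refine hall _ (conj S ((c : G) * g)) h1 ?_
    rw [Subgroup.coe_subtype, mem_conj_Q]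
    have h4 : ((c : G) * g)⁻¹ * ((c * a * c⁻¹ : C z) : G) * ((c : G) * g) = g⁻¹ * (a : G) * g := by
      rw [Subgroup.coe_mul, Subgroup.coe_mul, Subgroup.coe_inv]
      group
    rw [h4]
    exact mem_conj_Q S |>.1 ha
  have hsurj : Function.Surjective (phiHom S) := by
    intro a
    obtain ⟨x, hx, rfl⟩ := S.φ_surj a
    exact ⟨⟨x, mem_C.2 hx⟩, rfl⟩
  have hs : IsSimpleGroup (alternatingGroup (Fin 9)) := alternatingGroup.isSimpleGroup (by simp)
  have hn : ((Subgroup.normalClosure X).map (phiHom S)).Normal := Subgroup.Normal.map inferInstance _ hsurj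
  rcases hn.eq_bot_or_eq_top with hb | ht
  · exfalso
    refine false_of_bot S hc hcz fun x hx hxz => ?_
    rw [← S.φ_eq_one x hxz]
    have h1 : phiHom S ⟨x, mem_C.2 hxz⟩ ∈ (Subgroup.normalClosure X).map (phiHom S) :=
      Subgroup.mem_map_of_mem _ (Subgroup.subset_normalClosure hx)
    rw [hb, Subgroup.mem_bot] at h1
    exact h1
  · intro c hcC
    have h1 : phiHom S ⟨c, hcC⟩ ∈ (Subgroup.normalClosure X).map (phiHom S) := by rw [ht]; trivial
    obtain ⟨n, hn, hnc⟩ := h1
    have h2 : phiHom S (⟨c, hcC⟩ * n⁻¹) = 1 := by rw [map_mul, map_inv, hnc, mul_inv_cancel]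
    have hcn : (c * (n : G)⁻¹) * z = z * (c * (n : G)⁻¹) := mem_C.1 ((⟨c, hcC⟩ : C z) * n⁻¹).2
    have h3 : c * (n : G)⁻¹ ∈ S.Q := (S.φ_eq_one (c * (n : G)⁻¹) hcn).1 h2
    have h4 : (n : G) ∈ A := hN hn
    have h5 := A.mul_mem (hQA h3) h4
    rwa [inv_mul_cancel_right] at h5

/-- `C(Q) = ⟨z⟩`. -/
theorem eq_of_comm {x : G} (hx : ∀ y ∈ S.Q, x * y = y * x) : x = 1 ∨ x = z := by
  have hxz : x * z = z * x := hx z S.z_mem
  have h1 : S.φ x = 1 := by
    apply ker_fix S.ρ_cyc
    intro v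
    obtain ⟨y, hy, rfl⟩ := S.π_surj v
    rw [← S.act x hxz y hy, hx y hy, mul_inv_cancel_right]
  have h2 : x ∈ S.Q := (S.φ_eq_one x hxz).1 h1
  rw [← S.π_eq_zero x h2]
  by_contra h3
  obtain ⟨w, hw⟩ := b0_nondeg _ h3
  obtain ⟨y, hy, rfl⟩ := S.π_surj w
  have h4 := not_comm S hy h2 hw
  rw [← hx y hy, mul_inv_cancel_right] at h4
  exact S.z_ne (right_eq_mul.1 h4)

open scoped Pointwise in
include S in
/-- **`A` controls the fusion of its involutions.** -/
theorem mem_of_conj [Finite G] (hodd : ¬ 2 ∣ (C z).index) (hA : ∀ g : G, g * z * g⁻¹ ∈ A → C (g * z * g⁻¹) ≤ A)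
    (hz : C z ≤ A) {g : G} (hg : g * z * g⁻¹ ∈ A) : g ∈ A := by
  have : Fact (Nat.Prime 2) := ⟨Nat.prime_two⟩
  have hQ2 : IsPGroup 2 (S.Q.subgroupOf (C z)) := by
    apply IsPGroup.comap_subtype
    exact IsPGroup.of_card (n := 9) (by rw [card_Q S]; norm_num)
  obtain ⟨P0, hP0⟩ := hQ2.exists_le_sylow
  have hP2 : IsPGroup 2 ((P0 : Subgroup (C z)).map (C z).subtype) := P0.isPGroup'.map _
  have hidx : ¬ 2 ∣ ((P0 : Subgroup (C z)).map (C z).subtype).index := by
    rw [Subgroup.index_map_subtype, Nat.prime_two.dvd_mul, not_or]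
    exact ⟨P0.not_dvd_index, hodd⟩
  set P : Sylow 2 G := hP2.toSylow hidx with hP
  have hPC : ∀ x ∈ P, x ∈ C z := by
    rintro _ ⟨x, -, rfl⟩
    exact x.2
  have hQP : ∀ x ∈ S.Q, x ∈ P := fun x hx =>
    ⟨⟨x, Q_le_C S hx⟩, hP0 (show (⟨x, Q_le_C S hx⟩ : C z) ∈ S.Q.subgroupOf (C z) from hx), rfl⟩
  have h1 : (P : Subgroup G) ≤ A := fun x hx => hz (hPC x hx)
  have h2 : ((g • P : Sylow 2 G) : Subgroup G) ≤ A := by
    intro x hx
    have hx' : x ∈ MulAut.conj g • (P : Subgroup G) := hx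
    rw [Subgroup.mem_pointwise_smul_iff_inv_smul_mem, ← map_inv, MulAut.smul_def, MulAut.conj_apply, inv_inv] at hx'
    have h3 := mem_C.1 (hPC _ hx')
    apply hA g hg
    rw [mem_C]
    calc x * (g * z * g⁻¹) = g * ((g⁻¹ * x * g) * z) * g⁻¹ := by group
      _ = g * (z * (g⁻¹ * x * g)) * g⁻¹ := by rw [h3]
      _ = g * z * g⁻¹ * x := by group
  obtain ⟨a, ha⟩ := MulAction.exists_smul_eq A (P.subtype h1) ((g • P).subtype h2)
  rw [Sylow.smul_subtype] at ha
  have h3 : (a : G) • P = g • P := Sylow.subtype_injective ha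
  have h4 : ((a : G)⁻¹ * g) • P = P := by rw [mul_smul, ← h3, inv_smul_smul]
  set n : G := (a : G)⁻¹ * g with hn
  have hnP : ∀ x ∈ P, n⁻¹ * x * n ∈ P := by
    intro x hx
    have hx' : x ∈ n • P := by rw [h4]; exact hx
    have hx'' : x ∈ MulAut.conj n • (P : Subgroup G) := hx'
    rwa [Subgroup.mem_pointwise_smul_iff_inv_smul_mem, ← map_inv, MulAut.smul_def, MulAut.conj_apply, inv_inv] at hx''
  have h5 : n * z * n⁻¹ = 1 ∨ n * z * n⁻¹ = z := by
    apply eq_of_comm S
    intro y hy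
    have h6 := mem_C.1 (hPC _ (hnP y (hQP y hy)))
    calc n * z * n⁻¹ * y = n * (z * (n⁻¹ * y * n)) * n⁻¹ := by group
      _ = n * ((n⁻¹ * y * n) * z) * n⁻¹ := by rw [h6]
      _ = y * (n * z * n⁻¹) := by group
  have h6 : n ∈ C z := by
    rw [mem_C]
    rcases h5 with h5 | h5
    · exfalso
      apply S.z_ne
      have h7 : z = n⁻¹ * (n * z * n⁻¹) * n := by group
      rw [h7, h5]
      group
    · rwa [mul_inv_eq_iff_eq_mul] at h5
  have h7 : g = a * n := by rw [hn]; group
  rw [h7]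
  exact A.mul_mem a.2 (hz h6)

end spin

open Cfsg.Agent.H209.Fxy Cfsg.Agent.Th.IndexUpper

theorem index_C {s : Cfsg.Spor.Th} (hs : orderOf s = 2) : (centralizer ({s} : Set Cfsg.Spor.Th)).index = 976841775 := by
  have h1 := (centralizer ({s} : Set Cfsg.Spor.Th)).card_mul_index
  rw [Cfsg.Agent.MonsterX.ThOneClass.card_centralizer hs, Cfsg.Agent.KFacts.Th.Main.ctx.card] at h1
  omega

theorem exists_spin_a : Nonempty (SpinAt Cfsg.Spor.Th (gTh 1)) := by
  have hs : IsSimpleGroup Cfsg.Spor.Th := Cfsg.Agent.Th.Main1700.isTh.1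
  have hf : Finite Cfsg.Spor.Th := Cfsg.Agent.KFacts.Th.Main.finite
  obtain ⟨Q, hn, h1, h2, h3, ⟨e⟩⟩ := Cfsg.Agent.MonsterX.ThOneClass.struct
  rcases Cfsg.Agent.ThType.ModMain.main (gTh 1) Cfsg.Agent.MonsterX.ThOneClass.orderOf_a Q h2 h1 h3 e with ⟨S, -⟩ | ⟨S, -⟩
  · exact ⟨S⟩
  · exact (Cfsg.Agent.ThType.FusN.false_of_nat S).elim

theorem exists_spin {s : Cfsg.Spor.Th} (hs : orderOf s = 2) : Nonempty (SpinAt Cfsg.Spor.Th s) := by
  obtain ⟨S⟩ := exists_spin_a
  obtain ⟨c, hc⟩ := isConj_iff.1 (Cfsg.Agent.MonsterX.ThOneClass.oneClass (gTh 1) s Cfsg.Agent.MonsterX.ThOneClass.orderOf_a hs)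
  rw [← hc]
  exact ⟨conj S c⟩

/-- **The row of `Th`.** -/
theorem kill_th : Kill Cfsg.Spor.Th := by
  intro A Γ h
  have hs : IsSimpleGroup Cfsg.Spor.Th := Cfsg.Agent.Th.Main1700.isTh.1
  have hf : Finite Cfsg.Spor.Th := Cfsg.Agent.KFacts.Th.Main.finite
  have ho1 := Cfsg.Agent.MonsterX.ThOneClass.orderOf_a
  have hna : ∃ a b : Cfsg.Spor.Th, a * b ≠ b * a := by
    obtain ⟨S⟩ := exists_spin_a
    by_contra hcon
    push Not at hcon
    obtain ⟨g, h1, h2⟩ := Cfsg.Agent.ThType.FusS.exists_conj_mem S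
    apply h2
    rw [hcon, inv_mul_cancel_left]
  obtain ⟨σ, hσ, ho, h3⟩ := h.ex
  obtain ⟨t, rfl⟩ := Cfsg.Agent.KFacts.Th.Main.inner σ
  have htA : t ∈ A := (h.conj t).1 hσ
  have ht2 : orderOf t = 2 := by rwa [H999.IFB.orderOf_conj hna] at ho
  -- the involutions of `A`
  have hrel : ∀ s : Cfsg.Spor.Th, s ∈ A → orderOf s = 2 → A.relIndex (C s) ≤ 62 := by
    intro s hsA hs2
    obtain ⟨-, -, -, -, h4⟩ := H999.IFB.IF.E2' h hna hsA hs2
    have h5 := (h4 (centralizer ({s} : Set Cfsg.Spor.Th)) le_rfl).1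
    rw [index_C hs2] at h5
    by_contra hcon
    push Not at hcon
    have h6 : 63 ^ 5 ≤ (A.relIndex (centralizer ({s} : Set Cfsg.Spor.Th))) ^ 5 := Nat.pow_le_pow_left hcon 5
    norm_num at h6
    omega
  have hord : ∀ (s : Cfsg.Spor.Th) (_ : SpinAt Cfsg.Spor.Th s), orderOf s = 2 := fun s S' =>
    orderOf_eq_prime (by rw [pow_two]; exact S'.z_sq) S'.z_ne
  have hall : ∀ (s : Cfsg.Spor.Th) (S' : SpinAt Cfsg.Spor.Th s), s ∈ A → S'.Q ≤ A := fun s S' hsA =>
    Q_le_of S' hsA (hrel s hsA (hord s S'))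
  have hcent : ∀ s : Cfsg.Spor.Th, s ∈ A → orderOf s = 2 → C s ≤ A := by
    intro s hsA hs2
    obtain ⟨S⟩ := exists_spin hs2
    obtain ⟨g, h1, h2⟩ := Cfsg.Agent.ThType.FusS.exists_conj_mem S
    exact cent_le S hall hsA h1 h2
  obtain ⟨S⟩ := exists_spin ht2
  have hmem : ∀ g : Cfsg.Spor.Th, g * t * g⁻¹ ∈ A → g ∈ A := fun g hg =>
    mem_of_conj S (by rw [show (C t).index = 976841775 from index_C ht2]; norm_num)
      (fun g hg => hcent _ hg (hord _ (conj S g))) (hcent t htA ht2) hg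
  have hsub : fixSet A (MulAut.conj t) ⊆ {((1 : Cfsg.Spor.Th) : Cfsg.Spor.Th ⧸ A)} := by
    rintro _ ⟨y, rfl, hy⟩
    rw [Set.mem_singleton_iff]
    symm
    rw [QuotientGroup.eq, inv_one, one_mul]
    have h4 : y⁻¹ * t * (y⁻¹)⁻¹ ∈ A := by
      rw [MulAut.conj_apply] at hy
      have h5 : y⁻¹ * t * (y⁻¹)⁻¹ = (y⁻¹ * (t * y * t⁻¹)) * t := by group
      rw [h5]
      exact A.mul_mem hy htA
    exact A.inv_mem_iff.1 (hmem _ h4)
  have h4 : fx A (MulAut.conj t) ≤ 1 := by
    rw [← Set.ncard_singleton ((1 : Cfsg.Spor.Th) : Cfsg.Spor.Th ⧸ A)]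
    exact Set.ncard_le_ncard hsub (Set.finite_singleton _)
  omega

/-- **The row of `Th`.** -/
theorem row_th : Row fun T => Cfsg.Spor.IsoTh T := by
  rintro T _ _ _ - ⟨e⟩ A Γ hA
  exact Kill.congr e.symm kill_th A Γ hA

end Cfsg.Agent.H672.IF.Th

private theorem dce_a3ffb7ae372f : _root_.True := by
  try have : _root_.True := by simp only [_root_.Cfsg.Agent.H672.IF.Th.W.eq_1]
  exact _root_.True.intro
end

-- part: H447/IFO/Solv
section
set_option linter.all false
open scoped Cfsg.Agent.FastGrp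

/-!
# S5719, `|A|` odd: a `Γ`-invariant elementary abelian subgroup (helper447)

By the odd order theorem `A` is solvable, so it contains a `Γ`-invariant elementary abelian `r`-group `R ≠ 1`,
and every element of `T` normalising `R` is in `A`, hence has odd order.
-/

set_option autoImplicit false

namespace Cfsg.Agent.H447.IFO

open Subgroup Cfsg.Agent.H209.Fxy
open scoped commutatorElement

variable {T : Type*} [Group T] {A : Subgroup T} {Γ : Subgroup (MulAut T)}

/-- the derived series of `A` inside `T` -/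
def Der (A : Subgroup T) : ℕ → Subgroup T
  | 0 => A
  | n + 1 => ⁅Der A n, Der A n⁆

theorem Der_eq (A : Subgroup T) (n : ℕ) : Der A n = (derivedSeries A n).map A.subtype := by
  induction n with
  | zero => rw [derivedSeries_zero, ← MonoidHom.range_eq_map, Subgroup.range_subtype]; rfl
  | succ n ih =>
    rw [derivedSeries_succ, map_commutator, ← ih]
    rfl

theorem Der_le (A : Subgroup T) (n : ℕ) : Der A n ≤ A := by
  rw [Der_eq]
  rintro _ ⟨x, -, rfl⟩
  exact x.2

theorem Der_map {σ : MulAut T} (h : A.map σ.toMonoidHom = A) (n : ℕ) :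
    (Der A n).map σ.toMonoidHom = Der A n := by
  induction n with
  | zero => exact h
  | succ n ih =>
    have h1 : Der A (n + 1) = ⁅Der A n, Der A n⁆ := rfl
    rw [h1, map_commutator, ih]

/-- **A `Γ`-invariant elementary abelian `r`-subgroup of `A`** (`|A|` odd). -/
theorem exists_elemAb [Finite T] (h : IF A Γ) (hodd : Odd (Nat.card A)) :
    ∃ (r : ℕ) (R : Subgroup T), r.Prime ∧ r ≠ 2 ∧ R ≤ A ∧ R ≠ ⊥ ∧ (∀ x ∈ R, x ^ r = 1) ∧
      (∀ x ∈ R, ∀ y ∈ R, x * y = y * x) ∧ (∀ σ ∈ Γ, ∀ x ∈ R, σ x ∈ R) := by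
  have hsol : Group.IsSolvable A := Cfsg.Agent.S0205.result hodd
  obtain ⟨n0, hn0⟩ := hsol.solvable
  have hex : ∃ n, Der A n = ⊥ := ⟨n0, by rw [Der_eq, hn0, Subgroup.map_bot]⟩
  classical
  have hfind := Nat.find_spec hex
  have hmin : ∀ k < Nat.find hex, Der A k ≠ ⊥ := fun k hk => Nat.find_min hex hk
  generalize Nat.find hex = n at hfind hmin
  rcases n with _ | k
  · exact absurd hfind h.ne_bot
  have hk := hmin k (Nat.lt_succ_self k)
  have hcomm : ∀ x ∈ Der A k, ∀ y ∈ Der A k, x * y = y * x := by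
    intro x hx y hy
    have h1 : ⁅x, y⁆ ∈ Der A (k + 1) := commutator_mem_commutator hx hy
    rw [hfind, mem_bot] at h1
    exact commutatorElement_eq_one_iff_mul_comm.1 h1
  have hne : Nat.card (Der A k) ≠ 1 := by
    intro h1
    exact hk (Subgroup.card_eq_one.1 h1)
  obtain ⟨r, hr, hrd⟩ := Nat.exists_prime_and_dvd hne
  have hr2 : r ≠ 2 := by
    rintro rfl
    have h1 : 2 ∣ Nat.card A := hrd.trans (Subgroup.card_dvd_of_le (Der_le A k))
    exact (Nat.not_even_iff_odd.2 hodd) (even_iff_two_dvd.2 h1)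
  let R : Subgroup T :=
    { carrier := {x | x ∈ Der A k ∧ x ^ r = 1}
      one_mem' := ⟨one_mem _, one_pow _⟩
      mul_mem' := by
        rintro x y ⟨hx, hx1⟩ ⟨hy, hy1⟩
        refine ⟨mul_mem hx hy, ?_⟩
        have hc : Commute x y := hcomm x hx y hy
        rw [hc.mul_pow, hx1, hy1, one_mul]
      inv_mem' := by
        rintro x ⟨hx, hx1⟩
        exact ⟨inv_mem hx, by rw [inv_pow, hx1, inv_one]⟩ }
  refine ⟨r, R, hr, hr2, ?_, ?_, ?_, ?_, ?_⟩
  · rintro x ⟨hx, -⟩
    exact Der_le A k hx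
  · intro h1
    have : Fact r.Prime := ⟨hr⟩
    obtain ⟨x, hx⟩ := exists_prime_orderOf_dvd_card' r hrd
    have h2 : (x : T) ∈ R := ⟨x.2, by
      rw [← hx, ← Subgroup.orderOf_coe, pow_orderOf_eq_one]⟩
    rw [h1, mem_bot] at h2
    have h3 : x = 1 := Subtype.ext h2
    rw [h3, orderOf_one] at hx
    exact hr.one_lt.ne hx
  · rintro x ⟨-, hx⟩
    exact hx
  · rintro x ⟨hx, -⟩ y ⟨hy, -⟩
    exact hcomm x hx y hy
  · rintro σ hσ x ⟨hx, hx1⟩
    have hA : A.map σ.toMonoidHom = A := by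
      ext a
      constructor
      · rintro ⟨b, hb, rfl⟩
        exact (h.inv σ hσ b).2 hb
      · intro ha
        refine ⟨σ⁻¹ a, (h.inv σ⁻¹ (Γ.inv_mem hσ) a).2 ha, ?_⟩
        change σ (σ⁻¹ a) = a
        exact MulAut.apply_inv_self _ σ a
    refine ⟨?_, ?_⟩
    · rw [← Der_map hA k]
      exact ⟨x, hx, rfl⟩
    · rw [← map_pow, hx1, map_one]

/-- every element normalising `R` is in `A`: it has odd order -/
theorem odd_orderOf [Finite T] [IsSimpleGroup T] (h : IF A Γ) (hodd : Odd (Nat.card A)) {R : Subgroup T}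
    (hRA : R ≤ A) (hR : R ≠ ⊥) (hinv : ∀ σ ∈ Γ, ∀ x ∈ R, σ x ∈ R) {x : T} (hx : ∀ k ∈ R, x * k * x⁻¹ ∈ R) :
    Odd (orderOf x) := by
  have h1 : x ∈ A := Cfsg.Agent.H680.Fxy.IF.norm h hRA hinv hR hx
  have h2 : orderOf x ∣ Nat.card A := by
    rw [show orderOf x = orderOf (⟨x, h1⟩ : A) from (Subgroup.orderOf_mk x h1).symm]
    exact orderOf_dvd_natCard _
  exact Odd.of_dvd_nat hodd h2

/-- An element inverting an element of odd order `≠ 1` has even order. -/
theorem even_orderOf_of_inv {x k : T} (hk : k ≠ 1) {r : ℕ} (hr : Odd r) (hkr : k ^ r = 1)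
    (hx : x * k * x⁻¹ = k⁻¹) [Finite T] : Even (orderOf x) := by
  by_contra hcon
  rw [Nat.not_even_iff_odd] at hcon
  obtain ⟨j, hj⟩ := hcon
  have h1 : MulAut.conj x k = k⁻¹ := hx
  have h2 : ∀ i : ℕ, MulAut.conj (x ^ (2 * i)) k = k := by
    intro i
    induction i with
    | zero => rw [mul_zero, pow_zero, map_one, MulAut.one_apply]
    | succ i ih =>
      have e : x ^ (2 * (i + 1)) = x ^ (2 * i) * (x * x) := by rw [← pow_two, ← pow_add]; ring_nf
      rw [e, map_mul, map_mul, MulAut.mul_apply, MulAut.mul_apply, h1, map_inv, h1, inv_inv, ih]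
  have h3 : MulAut.conj (x ^ (orderOf x)) k = k := by rw [pow_orderOf_eq_one, map_one, MulAut.one_apply]
  rw [hj, pow_succ, map_mul, MulAut.mul_apply, h1, map_inv, h2] at h3
  -- k⁻¹ = k
  have h4 : k ^ 2 = 1 := by
    rw [pow_two]
    nth_rewrite 1 [← h3]
    exact inv_mul_cancel k
  have h5 : orderOf k ∣ 2 := orderOf_dvd_of_pow_eq_one h4
  have h6 : orderOf k ∣ r := orderOf_dvd_of_pow_eq_one hkr
  have h7 : orderOf k ∣ Nat.gcd 2 r := Nat.dvd_gcd h5 h6
  have h8 : Nat.gcd 2 r = 1 := Nat.coprime_two_left.2 hr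
  rw [h8, Nat.dvd_one, orderOf_eq_one_iff] at h7
  exact hk h7

end Cfsg.Agent.H447.IFO
end

-- part: H429/IFO/Frame_mg
section
prune_inst 0x10500120482000000000000660001c429a0000020008000000000d020488240080002820b81004001820000440300068110000000040000004000400011c00800080000080080000000006000000000000000000000000000000000000000000000000000
set_option linter.all false
open scoped Cfsg.Agent.FastGrp

-- part: H429/IFO/Frame
section
/-!
# S5719, `|A|` odd, orthogonal groups: the frame (helper429)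

`V` a quadratic space over a finite field, `T = P Q = E Q / Z(E Q)`.
* `hatSet R r` : the elements `g` of `E Q` with `g ^ r = 1` and image in `R` (the lift of the `r`-group `R`);
* `Semi Q Γ` : every element of `Γ` is induced by a semisimilarity;
* `kill_of_norm`, `kill_of_set` : contradictions from an involution of `T` normalising `R`, resp. a
  canonical set of operators.
-/

set_option autoImplicit false

namespace Cfsg.Agent.H429.IFO

open QuadraticMap Subgroup Cfsg.Agent.LieClassical.OrthCore Cfsg.Agent.LieClassical.OrthTrans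
  Cfsg.Agent.LieClassical.OrthSimple Cfsg.Agent.AutOrth.SemiSim Cfsg.Agent.ClassicalGeometry.OrthAut1
  Cfsg.Agent.H209.Fxy
open scoped commutatorElement

/-! ### Groups whose centre has exponent two -/

section groups

variable {G : Type*} [Group G]

theorem eq_one_of_odd {z : G} (hz : z * z = 1) {r : ℕ} (hr : Odd r) (h : z ^ r = 1) : z = 1 := by
  obtain ⟨k, rfl⟩ := hr
  rwa [pow_succ, pow_mul, pow_two, hz, one_pow, one_mul] at h

theorem exists_lift (hZ : ∀ z ∈ center G, z * z = 1) {x : G ⧸ center G} {r : ℕ} (hr : Odd r) (hx : x ^ r = 1) :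
    ∃ g : G, (g : G ⧸ center G) = x ∧ g ^ r = 1 := by
  obtain ⟨g, rfl⟩ := QuotientGroup.mk_surjective x
  have h1 : g ^ r ∈ center G := by
    rw [← QuotientGroup.eq_one_iff]
    exact hx
  have h2 := hZ _ h1
  refine ⟨g * g ^ r, ?_, ?_⟩
  · change ((g : G ⧸ center G)) * (g : G ⧸ center G) ^ r = _
    rw [hx, mul_one]
  · have hc : Commute g (g ^ r) := Commute.self_pow g r
    rw [hc.mul_pow]
    obtain ⟨k, hk⟩ := hr
    have h3 : (g ^ r) ^ r = g ^ r := by
      nth_rewrite 2 [hk]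
      rw [pow_succ, pow_mul, pow_two, h2, one_pow, one_mul]
    rw [h3, h2]

theorem lift_comm (hZ : ∀ z ∈ center G, z * z = 1) {g h : G} {r : ℕ} (hr : Odd r) (hh : h ^ r = 1)
    (hc : (g : G ⧸ center G) * (h : G ⧸ center G) = (h : G ⧸ center G) * (g : G ⧸ center G)) : g * h = h * g := by
  have h1 : ⁅g, h⁆ ∈ center G := by
    rw [← QuotientGroup.eq_one_iff]
    have : ((⁅g, h⁆ : G) : G ⧸ center G) = ⁅(g : G ⧸ center G), (h : G ⧸ center G)⁆ := rfl
    rw [this, commutatorElement_eq_one_iff_mul_comm]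
    exact hc
  have h2 : ⁅g, h⁆ * h = g * h * g⁻¹ := by
    rw [commutatorElement_def]
    group
  have h3 : (⁅g, h⁆ * h) ^ r = 1 := by
    rw [h2, conj_pow, hh, mul_one, mul_inv_cancel]
  have h4 : Commute ⁅g, h⁆ h := (mem_center_iff.1 h1 h).symm
  rw [h4.mul_pow, hh, mul_one] at h3
  have h5 := eq_one_of_odd (hZ _ h1) hr h3
  exact commutatorElement_eq_one_iff_mul_comm.1 h5

end groups

variable {F V : Type*} [Field F] [AddCommGroup V] [Module F V] {Q : QuadraticForm F V}

theorem exists_norm_one (hG : Good Q) : ∃ v : V, Q v = 1 := by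
  obtain ⟨x, y, h⟩ := hG.exists_hyp
  exact ⟨x + y, by rw [Q_add, h.left, h.right, h.pair, add_zero, zero_add]⟩

/-- a scalar isometry has square one -/
theorem scalar_sq (hG : Good Q) {g : V ≃ₗ[F] V} (hg : g ∈ O Q) {c : F} (hc : ∀ v, g v = c • v) : c * c = 1 := by
  obtain ⟨v, hv⟩ := exists_norm_one hG
  have h1 := hg v
  rw [hc, QuadraticMap.map_smul, hv, smul_eq_mul, mul_one] at h1
  exact h1

theorem center_sq (hG : Good Q) (z : ↥(E Q)) (hz : z ∈ center ↥(E Q)) : z * z = 1 := by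
  obtain ⟨c, hc⟩ := center_scalar hG hz
  have h1 := scalar_sq hG (E_le_O z.2) hc
  apply ext_E
  intro v
  change (z : V ≃ₗ[F] V) ((z : V ≃ₗ[F] V) v) = v
  rw [hc, hc, smul_smul, h1, one_smul]

/-- **The lift of the `r`-group `R`.** -/
def hatSet (R : Subgroup (P Q)) (r : ℕ) : Set (V ≃ₗ[F] V) :=
  {g | ∃ hg : g ∈ E Q, g ^ r = 1 ∧ (((⟨g, hg⟩ : ↥(E Q)) : P Q)) ∈ R}

section hat

variable {R : Subgroup (P Q)} {r : ℕ}

theorem hat_O {g : V ≃ₗ[F] V} (h : g ∈ hatSet R r) : g ∈ O Q := E_le_O h.1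

theorem hat_pow {g : V ≃ₗ[F] V} (h : g ∈ hatSet R r) : g ^ r = 1 := h.2.1

theorem hat_inv {g : V ≃ₗ[F] V} (h : g ∈ hatSet R r) : g⁻¹ ∈ hatSet R r :=
  ⟨inv_mem h.1, by rw [inv_pow, h.2.1, inv_one], R.inv_mem h.2.2⟩

theorem hat_comm (hG : Good Q) (hr : Odd r) (hcomm : ∀ x ∈ R, ∀ y ∈ R, x * y = y * x) {g h : V ≃ₗ[F] V}
    (hg : g ∈ hatSet R r) (hh : h ∈ hatSet R r) : g * h = h * g := by
  have h1 := lift_comm (center_sq hG) (g := (⟨g, hg.1⟩ : ↥(E Q))) (h := ⟨h, hh.1⟩) hr (Subtype.ext hh.2.1)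
    (hcomm _ hg.2.2 _ hh.2.2)
  exact congrArg Subtype.val h1

/-- every element of `R` lifts -/
theorem exists_hat (hG : Good Q) (hr : Odd r) (hpow : ∀ x ∈ R, x ^ r = 1) {x : P Q} (hx : x ∈ R) :
    ∃ (g : V ≃ₗ[F] V) (hg : g ∈ hatSet R r), (((⟨g, hg.1⟩ : ↥(E Q)) : P Q)) = x := by
  obtain ⟨g, h1, h2⟩ := exists_lift (center_sq hG) hr (hpow x hx)
  refine ⟨g, ⟨g.2, congrArg Subtype.val h2, ?_⟩, h1⟩
  have : (((⟨(g : V ≃ₗ[F] V), g.2⟩ : ↥(E Q)) : P Q)) = x := h1
  rw [this]
  exact hx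

theorem exists_hat_ne (hG : Good Q) (hr : Odd r) (hpow : ∀ x ∈ R, x ^ r = 1) (hR : R ≠ ⊥) :
    ∃ g ∈ hatSet R r, g ≠ 1 := by
  obtain ⟨x, hx⟩ := Subgroup.ne_bot_iff_exists_ne_one.1 hR
  obtain ⟨g, hg, he⟩ := exists_hat hG hr hpow x.2
  refine ⟨g, hg, ?_⟩
  rintro rfl
  apply hx
  apply Subtype.ext
  rw [← he]
  rfl

end hat

/-- the set `S` of operators is preserved by `g` -/
def Nm (S : Set (Module.End F V)) (g : V → V) : Prop := ∀ a ∈ S, ∃ b ∈ S, ∀ v, b (g v) = g (a v)

theorem Nm.mul {S : Set (Module.End F V)} {g h : V ≃ₗ[F] V} (hg : Nm S g) (hh : Nm S h) : Nm S ⇑(g * h) := by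
  intro a ha
  obtain ⟨b, hb, h1⟩ := hh a ha
  obtain ⟨c, hc, h2⟩ := hg b hb
  refine ⟨c, hc, fun v => ?_⟩
  change c (g (h v)) = g (h (a v))
  rw [h2, h1]

theorem Nm.one {S : Set (Module.End F V)} : Nm S ⇑(1 : V ≃ₗ[F] V) := fun a ha => ⟨a, ha, fun _ => rfl⟩

theorem Nm.pow {S : Set (Module.End F V)} {g : V ≃ₗ[F] V} (hg : Nm S g) (n : ℕ) : Nm S ⇑(g ^ n) := by
  induction n with
  | zero => exact Nm.one
  | succ n ih => rw [pow_succ]; exact ih.mul hg

theorem Nm.inv [Finite (V ≃ₗ[F] V)] {S : Set (Module.End F V)} {g : V ≃ₗ[F] V} (hg : Nm S g) : Nm S ⇑(g⁻¹) := by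
  have h1 : g⁻¹ = g ^ (orderOf g - 1) := by
    have h2 : g ^ (orderOf g - 1) * g = 1 := by
      rw [← pow_succ, Nat.sub_add_cancel (orderOf_pos g), pow_orderOf_eq_one]
    exact (eq_inv_of_mul_eq_one_left h2).symm
  rw [h1]
  exact hg.pow _

/-- Every element of `Γ` is induced by a semisimilarity. -/
def Semi (Q : QuadraticForm F V) (Γ : Subgroup (MulAut (P Q))) : Prop :=
  ∀ α ∈ Γ, ∃ (M : V ≃+ V) (σ : F ≃+* F) (c : F) (hM : IsSemi Q M σ c),
    ∀ g : ↥(E Q), α (g : P Q) = ((conjE hM g : ↥(E Q)) : P Q)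

theorem finite_equiv [Finite F] (hG : Good Q) : Finite (V ≃ₗ[F] V) := by
  have : FiniteDimensional F V := Module.finite_of_finrank_pos (by have := hG.dim; omega)
  have : Finite V := Module.finite_of_finite F
  exact Finite.of_injective (fun f : V ≃ₗ[F] V => (f : V → V)) fun _ _ h => DFunLike.coe_injective h

theorem finite_P [Finite F] (hG : Good Q) : Finite (P Q) := by
  have := finite_equiv hG
  exact Quotient.finite _

theorem simple_P (hG : Good Q) : IsSimpleGroup (P Q) := good_isSimpleGroup hG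

/-- the image of `x` has order two -/
theorem orderOf_two (hG : Good Q) {x : V ≃ₗ[F] V} (hx : x ∈ E Q) (hx2 : ∃ c : F, ∀ v, x (x v) = c • v)
    (hx1 : ¬ ∃ c : F, ∀ v, x v = c • v) : orderOf (((⟨x, hx⟩ : ↥(E Q)) : P Q)) = 2 := by
  rw [orderOf_eq_prime_iff]
  constructor
  · rw [pow_two]
    change (((⟨x, hx⟩ * ⟨x, hx⟩ : ↥(E Q))) : P Q) = 1
    rw [QuotientGroup.eq_one_iff]
    obtain ⟨c, hc⟩ := hx2
    exact mem_center_of_scalar (c := c) hc
  · intro h
    rw [QuotientGroup.eq_one_iff] at h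
    exact hx1 (center_scalar hG h)

section kill

variable [Finite F] {A : Subgroup (P Q)} {Γ : Subgroup (MulAut (P Q))} {R : Subgroup (P Q)} {r : ℕ}

/-- **An involution of `T` normalising a canonical set of operators.** -/
theorem kill_of_set (hG : Good Q) (h : IF A Γ) (hodd : Odd (Nat.card A)) (hΓ : Semi Q Γ)
    (hinv : ∀ σ ∈ Γ, ∀ x ∈ R, σ x ∈ R) (S : Set (Module.End F V))
    (hS : ∀ (M : V ≃+ V) (σ : F ≃+* F) (c : F) (hM : IsSemi Q M σ c),
      (∀ g ∈ hatSet R r, conjL hM g ∈ hatSet R r) → Nm S M)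
    {x : V ≃ₗ[F] V} (hx : x ∈ E Q) (hx2 : ∃ c : F, ∀ v, x (x v) = c • v) (hx1 : ¬ ∃ c : F, ∀ v, x v = c • v)
    (hxS : Nm S x) (hprop : ∃ g ∈ E Q, ¬ Nm S ⇑(g : V ≃ₗ[F] V)) : False := by
  have := finite_P hG
  have := finite_equiv hG
  have := simple_P hG
  -- the stabiliser
  let B' : Subgroup ↥(E Q) :=
    { carrier := {g | Nm S ⇑(g : V ≃ₗ[F] V)}
      mul_mem' := fun {a b} ha hb => Nm.mul ha hb
      one_mem' := Nm.one
      inv_mem' := fun {a} ha => Nm.inv ha }
  let B : Subgroup (P Q) := B'.map (QuotientGroup.mk' _)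
  have key : ∀ (M : V ≃+ V) (σ : F ≃+* F) (c : F) (hM : IsSemi Q M σ c) (α : MulAut (P Q)),
      (∀ x ∈ R, α x ∈ R) → (∀ g : ↥(E Q), α (g : P Q) = ((conjE hM g : ↥(E Q)) : P Q)) → Nm S M := by
    intro M σ c hM α hα hg
    refine hS M σ c hM fun g hgR => ⟨conjL_mem_E hM hgR.1, ?_, ?_⟩
    · have h1 : conjL hM g ^ r = conjL hM (g ^ r) := (map_pow (conjLHom hM) g r).symm
      rw [h1, hgR.2.1]
      exact map_one (conjLHom hM)
    · have h1 := hα _ hgR.2.2
      rw [hg] at h1
      exact h1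
  have hAB : A ≤ B := by
    intro a ha
    obtain ⟨g, rfl⟩ := QuotientGroup.mk_surjective a
    refine ⟨g, ?_, rfl⟩
    have hM : IsSemi Q ((g : V ≃ₗ[F] V).toAddEquiv) (RingEquiv.refl F) 1 :=
      ⟨one_ne_zero, fun a v => map_smul (g : V ≃ₗ[F] V) a v, fun v => by
        rw [one_mul]
        exact E_le_O g.2 v⟩
    refine key _ _ _ hM (MulAut.conj (g : P Q)) (hinv _ ((h.conj _).2 ha)) fun k => ?_
    rw [MulAut.conj_apply]
    change (((g * k * g⁻¹ : ↥(E Q))) : P Q) = _
    rfl
  have hBinv : ∀ α ∈ Γ, ∀ b ∈ B, α b ∈ B := by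
    rintro α hα _ ⟨g, hg, rfl⟩
    obtain ⟨M, σ, c, hM, hMg⟩ := hΓ α hα
    refine ⟨conjE hM g, ?_, (hMg g).symm⟩
    have h1 : Nm S M := key M σ c hM α (hinv α hα) hMg
    have h2 : Nm S M.symm := by
      refine key M.symm σ.symm _ hM.symm α⁻¹ (hinv _ (Γ.inv_mem hα)) fun k => ?_
      have h3 : α (((conjE hM.symm k : ↥(E Q)) : P Q)) = (k : P Q) := by
        rw [hMg]
        congr 1
        exact (conjE hM).right_inv k
      rw [← h3]
      exact MulAut.inv_apply_self _ α _
    intro a ha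
    obtain ⟨a1, ha1, e1⟩ := h2 a ha
    obtain ⟨a2, ha2, e2⟩ := hg a1 ha1
    obtain ⟨a3, ha3, e3⟩ := h1 a2 ha2
    refine ⟨a3, ha3, fun v => ?_⟩
    change a3 (M ((g : V ≃ₗ[F] V) (M.symm v))) = M ((g : V ≃ₗ[F] V) (M.symm (a v)))
    rw [e3, e2, e1]
  rcases h.max B hAB hBinv with h1 | h1
  · have h2 : (((⟨x, hx⟩ : ↥(E Q)) : P Q)) ∈ A := by
      rw [← h1]
      exact ⟨⟨x, hx⟩, hxS, rfl⟩
    have h3 : 2 ∣ Nat.card A := by
      rw [← orderOf_two hG hx hx2 hx1, ← Subgroup.orderOf_mk (((⟨x, hx⟩ : ↥(E Q)) : P Q)) h2]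
      exact _root_.orderOf_dvd_natCard _
    exact (Nat.not_even_iff_odd.2 hodd) (even_iff_two_dvd.2 h3)
  · obtain ⟨g, hg, hgN⟩ := hprop
    apply hgN
    have h2 : (((⟨g, hg⟩ : ↥(E Q)) : P Q)) ∈ B := by rw [h1]; trivial
    obtain ⟨g', hg', he⟩ := h2
    have h3 : g'⁻¹ * ⟨g, hg⟩ ∈ center ↥(E Q) := QuotientGroup.eq.1 he
    obtain ⟨c, hc⟩ := center_scalar hG h3
    have h4 : ∀ v, g v = (g' : V ≃ₗ[F] V) (c • v) := by
      intro v
      rw [← hc v]
      change g v = (((g' * (g'⁻¹ * ⟨g, hg⟩) : ↥(E Q))) : V ≃ₗ[F] V) v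
      rw [mul_inv_cancel_left]
    intro a ha
    obtain ⟨b, hb, e⟩ := hg' a ha
    refine ⟨b, hb, fun v => ?_⟩
    rw [h4, h4, e, map_smul]

end kill

end Cfsg.Agent.H429.IFO
end

-- part: H283/Fxo/Two
section
/-!
# S5719, `|A|` odd, orthogonal groups: two or more coarse blocks (helper283)

`R` a commutative group of isometries of `V` of odd exponent, `Alg R = F[R]`, `Idm Q R` the set of the self-adjoint
idempotents of `F[R]`. If `Idm Q R` contains an idempotent `≠ 0, 1` then there are two vectors `u`, `v` with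
`Q u = Q v ≠ 0`, `polar Q u v = 0` such that every idempotent of `Idm Q R` fixes or kills `u`, and `v`; so the product of the
two reflections is an involution of `Ω(V) = E Q` centralising `Idm Q R`, and `E Q` does not normalise `Idm Q R`.
-/

set_option autoImplicit false

namespace Cfsg.Agent.H283.Fxo

open QuadraticMap Module
open Cfsg.Agent.LieClassical.OrthCore Cfsg.Agent.LieClassical.OrthTrans Cfsg.Agent.LieClassical.OrthSimple

variable {F V : Type*} [Field F] [AddCommGroup V] [Module F V]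

/-- the algebra generated by a set of linear automorphisms -/
def Alg (R : Set (V ≃ₗ[F] V)) : Subalgebra F (Module.End F V) :=
  Algebra.adjoin F {a | ∃ x ∈ R, a = (x : V →ₗ[F] V)}

/-- self-adjoint endomorphisms -/
def SA (Q : QuadraticForm F V) (a : Module.End F V) : Prop := ∀ v w, polar Q (a v) w = polar Q v (a w)

/-- the self-adjoint idempotents of `F[R]` -/
def Idm (Q : QuadraticForm F V) (R : Set (V ≃ₗ[F] V)) : Set (Module.End F V) :=
  {e | e ∈ Alg R ∧ e * e = e ∧ SA Q e}

variable {Q : QuadraticForm F V} {R : Set (V ≃ₗ[F] V)}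

theorem alg_comm (hR : ∀ x ∈ R, ∀ y ∈ R, x * y = y * x) {a b : Module.End F V} (ha : a ∈ Alg R) (hb : b ∈ Alg R) :
    a * b = b * a := by
  have h1 : ∀ s ∈ {a : Module.End F V | ∃ x ∈ R, a = (x : V →ₗ[F] V)}, ∀ b ∈ Alg R, s * b = b * s := by
    rintro _ ⟨x, hx, rfl⟩ b hb
    induction hb using Algebra.adjoin_induction with
    | mem s hs =>
      obtain ⟨y, hy, rfl⟩ := hs
      have h2 := hR x hx y hy
      ext v
      exact LinearEquiv.congr_fun h2 v
    | algebraMap c => exact (Algebra.commutes c _).symm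
    | add s t _ _ hs ht => rw [mul_add, add_mul, hs, ht]
    | mul s t _ _ hs ht => rw [← mul_assoc, hs, mul_assoc, ht, mul_assoc]
  induction ha using Algebra.adjoin_induction with
  | mem s hs => exact h1 s hs b hb
  | algebraMap c => exact Algebra.commutes c _
  | add s t _ _ hs ht => rw [mul_add, add_mul, hs, ht]
  | mul s t _ _ hs ht => rw [mul_assoc, ht, ← mul_assoc, hs, mul_assoc]

theorem Idm.mul (hR : ∀ x ∈ R, ∀ y ∈ R, x * y = y * x) {e f : Module.End F V} (he : e ∈ Idm Q R)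
    (hf : f ∈ Idm Q R) : e * f ∈ Idm Q R := by
  have hc : e * f = f * e := alg_comm hR he.1 hf.1
  refine ⟨mul_mem he.1 hf.1, ?_, ?_⟩
  · rw [mul_assoc, ← mul_assoc f e f, ← hc, mul_assoc, hf.2.1, ← mul_assoc, he.2.1]
  · intro v w
    rw [Module.End.mul_apply, he.2.2, hf.2.2, ← Module.End.mul_apply, ← hc]

theorem Idm.one_sub {e : Module.End F V} (he : e ∈ Idm Q R) : 1 - e ∈ Idm Q R := by
  refine ⟨sub_mem (one_mem _) he.1, ?_, ?_⟩
  · rw [mul_sub, mul_one, sub_mul, one_mul, he.2.1, sub_self, sub_zero]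
  · intro v w
    rw [LinearMap.sub_apply, LinearMap.sub_apply, polar_sub_left, polar_sub_right, he.2.2]
    rfl

section

variable [FiniteDimensional F V]

/-- minimal idempotents -/
theorem exists_min (hR : ∀ x ∈ R, ∀ y ∈ R, x * y = y * x) {e : Module.End F V} (he : e ∈ Idm Q R) (h0 : e ≠ 0) :
    ∃ f ∈ Idm Q R, f ≠ 0 ∧ e * f = f ∧ ∀ d ∈ Idm Q R, d * f = 0 ∨ d * f = f := by
  classical
  have hex : ∃ n : ℕ, ∃ f ∈ Idm Q R, f ≠ 0 ∧ e * f = f ∧ finrank F (LinearMap.range f) = n :=
    ⟨_, e, he, h0, he.2.1, rfl⟩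
  obtain ⟨f, hf, hf0, hef, hn⟩ := Nat.find_spec hex
  refine ⟨f, hf, hf0, hef, fun d hd => ?_⟩
  by_cases hd0 : d * f = 0
  · exact Or.inl hd0
  right
  have hdf := Idm.mul hR hd hf
  have hc : d * f = f * d := alg_comm hR hd.1 hf.1
  have h1 : e * (d * f) = d * f := by
    rw [hc, ← mul_assoc, hef]
  have h2 : Nat.find hex ≤ finrank F (LinearMap.range (d * f)) := Nat.find_min' hex ⟨_, hdf, hd0, h1, rfl⟩
  have h3 : LinearMap.range (d * f) ≤ LinearMap.range f := by
    rw [hc]
    rintro _ ⟨v, rfl⟩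
    exact ⟨d v, rfl⟩
  have h4 : LinearMap.range (d * f) = LinearMap.range f :=
    Submodule.eq_of_le_of_finrank_le h3 (by rw [hn]; exact h2)
  ext v
  have h5 : f v ∈ LinearMap.range (d * f) := by rw [h4]; exact ⟨v, rfl⟩
  obtain ⟨w, hw⟩ := h5
  have h6 : (d * f) (f v) = f v := by
    rw [← hw]
    exact LinearMap.congr_fun hdf.2.1 w
  have h7 : (d * f) (f v) = (d * f) v := by
    show d (f (f v)) = d (f v)
    rw [show f (f v) = f v from LinearMap.congr_fun hf.2.1 v]
  rw [← h7, h6]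

omit [FiniteDimensional F V] in
/-- there are nonsingular vectors in the range of an idempotent -/
theorem exists_nonsing_range (hQ : Nondeg Q) {e : Module.End F V} (he : e * e = e) (hs : SA Q e) {w : V}
    (hw : e w = w) (h0 : w ≠ 0) : ∃ y, e y = y ∧ polar Q w y ≠ 0 := by
  obtain ⟨y, hy⟩ := hQ.exists_polar_ne h0
  refine ⟨e y, LinearMap.congr_fun he y, ?_⟩
  rw [← hs, hw]
  exact hy

omit [FiniteDimensional F V] in
theorem exists_Q_ne (hQ : Nondeg Q) {e : Module.End F V} (he : e * e = e) (hs : SA Q e) (h0 : e ≠ 0) :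
    ∃ u, e u = u ∧ Q u ≠ 0 := by
  by_contra hcon
  push Not at hcon
  apply h0
  ext v
  by_contra hv
  have h1 : e (e v) = e v := LinearMap.congr_fun he v
  obtain ⟨y, hy, hp⟩ := exists_nonsing_range hQ he hs h1 hv
  apply hp
  rw [polar, hcon (e v + y) (by rw [map_add, h1, hy]), hcon _ h1, hcon _ hy, sub_zero, sub_zero]

omit [FiniteDimensional F V] in
/-- in odd characteristic a block of dimension at least two represents every nonzero value -/
theorem universal [Finite F] (h2 : (2 : F) ≠ 0) (hQ : Nondeg Q) {e : Module.End F V} (he : e * e = e) (hs : SA Q e)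
    {u w : V} (hu : e u = u) (hQu : Q u ≠ 0) (hw : e w = w) (hw0 : w ≠ 0) (huw : polar Q u w = 0) (t : F) :
    ∃ v, e v = v ∧ Q v = t := by
  -- a nonsingular vector orthogonal to `u`
  have hb : ∃ b, e b = b ∧ polar Q u b = 0 ∧ Q b ≠ 0 := by
    by_contra hcon
    push Not at hcon
    obtain ⟨y, hy, hp⟩ := exists_nonsing_range hQ he hs hw hw0
    set! y' : V := y - (polar Q u y / (2 * Q u)) • u with hy'
    have h1 : e y' = y' := by rw [hy', map_sub, map_smul, hy, hu]
    have h3 : polar Q u y' = 0 := by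
      rw [hy', polar_sub_right, polar_smul_right, polar_self', smul_eq_mul, div_mul_cancel₀ _ (mul_ne_zero h2 hQu),
        sub_self]
    have h4 : polar Q w y' ≠ 0 := by
      rw [hy', polar_sub_right, polar_smul_right, polar_comm Q w u, huw, smul_zero, sub_zero]
      exact hp
    apply h4
    rw [polar, hcon (w + y') (by rw [map_add, hw, h1]) (by rw [polar_add_right, huw, h3, add_zero]), hcon w hw huw,
      hcon y' h1 h3, sub_zero, sub_zero]
  obtain ⟨b, hb1, hb2, hb3⟩ := hb
  have := Fintype.ofFinite F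
  classical
  -- x² Q u + y² Q b = t
  have hxy : ∃ x y : F, Q u * x ^ 2 + Q b * y ^ 2 = t := by
    have hodd : Fintype.card F % 2 = 1 := by
      have h5 : ringChar F ≠ 2 := by
        intro h
        apply h2
        have h6 : ((2 : ℕ) : F) = 0 := by
          rw [← h]
          exact ringChar.Nat.cast_ringChar
        exact_mod_cast h6
      exact FiniteField.odd_card_of_char_ne_two h5
    obtain ⟨x, y, hxy⟩ := FiniteField.exists_root_sum_quadratic
      (f := Polynomial.C (Q u) * Polynomial.X ^ 2 - Polynomial.C t) (g := Polynomial.C (Q b) * Polynomial.X ^ 2)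
      (by
        rw [Polynomial.degree_sub_C]
        · exact Polynomial.degree_C_mul_X_pow 2 hQu
        · rw [Polynomial.degree_C_mul_X_pow 2 hQu]
          norm_num)
      (Polynomial.degree_C_mul_X_pow 2 hb3) hodd
    refine ⟨x, y, ?_⟩
    simp only [Polynomial.eval_sub, Polynomial.eval_mul, Polynomial.eval_C, Polynomial.eval_pow,
      Polynomial.eval_X] at hxy
    linear_combination hxy
  obtain ⟨x, y, hxy⟩ := hxy
  refine ⟨x • u + y • b, ?_, ?_⟩
  · rw [map_add, map_smul, map_smul, hu, hb1]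
  · rw [Q_add, QuadraticMap.map_smul, QuadraticMap.map_smul, polar_smul_left, polar_smul_right, hb2, ← hxy]
    simp only [smul_eq_mul]
    ring

/-- **Two vectors in different blocks, with the same value of `Q`.** -/
theorem exists_uv [Finite F] (hQ : Nondeg Q) (hRO : ∀ x ∈ R, x ∈ O Q) (hR : ∀ x ∈ R, ∀ y ∈ R, x * y = y * x)
    {r : ℕ} (hr : Odd r) (hRr : ∀ x ∈ R, x ^ r = 1) {e : Module.End F V} (he : e ∈ Idm Q R) (h0 : e ≠ 0)
    (h1 : e ≠ 1) :
    ∃ u v : V, Q u ≠ 0 ∧ Q u = Q v ∧ polar Q u v = 0 ∧ (∀ d ∈ Idm Q R, d u = u ∨ d u = 0) ∧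
      (∀ d ∈ Idm Q R, d v = v ∨ d v = 0) ∧ ∃ d ∈ Idm Q R, d u = u ∧ d v = 0 := by
  obtain ⟨f, hf, hf0, hef, hfm⟩ := exists_min hR he h0
  obtain ⟨g, hg, hg0, heg, hgm⟩ := exists_min hR (Idm.one_sub he) (sub_ne_zero.2 (Ne.symm h1))
  -- the two blocks are orthogonal
  have hfu : ∀ u, f u = u → ∀ d ∈ Idm Q R, d u = u ∨ d u = 0 := by
    intro u hu d hd
    rcases hfm d hd with h | h
    · right
      rw [← hu]
      exact LinearMap.congr_fun h u
    · left
      nth_rewrite 1 [← hu]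
      rw [← hu]
      nth_rewrite 1 [hu]
      exact (LinearMap.congr_fun h u).trans rfl
  have hgu : ∀ u, g u = u → ∀ d ∈ Idm Q R, d u = u ∨ d u = 0 := by
    intro u hu d hd
    rcases hgm d hd with h | h
    · right
      rw [← hu]
      exact LinearMap.congr_fun h u
    · left
      nth_rewrite 1 [← hu]
      rw [← hu]
      nth_rewrite 1 [hu]
      exact (LinearMap.congr_fun h u).trans rfl
  have heu : ∀ u, f u = u → e u = u := by
    intro u hu
    have h2 := LinearMap.congr_fun hef u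
    rw [Module.End.mul_apply, hu] at h2
    exact h2
  have hev : ∀ v, g v = v → e v = 0 := by
    intro v hv
    have h2 := LinearMap.congr_fun heg v
    rw [Module.End.mul_apply, hv, LinearMap.sub_apply, Module.End.one_apply] at h2
    exact sub_eq_self.1 h2
  have hperp : ∀ u v, f u = u → g v = v → polar Q u v = 0 := by
    intro u v hu hv
    rw [← heu u hu, he.2.2, hev v hv, polar_zero_right]
  -- it is enough to find `u`, `v`
  have key : (∃ u v, f u = u ∧ g v = v ∧ Q u ≠ 0 ∧ Q u = Q v) → ∃ u v : V, Q u ≠ 0 ∧ Q u = Q v ∧ polar Q u v = 0 ∧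
      (∀ d ∈ Idm Q R, d u = u ∨ d u = 0) ∧
      (∀ d ∈ Idm Q R, d v = v ∨ d v = 0) ∧ ∃ d ∈ Idm Q R, d u = u ∧ d v = 0 := by
    rintro ⟨u, v, hu, hv, hq, hqq⟩
    exact ⟨u, v, hq, hqq, hperp u v hu hv, hfu u hu, hgu v hv, e, he, heu u hu, hev v hv⟩
  obtain ⟨u, hu, hQu⟩ := exists_Q_ne hQ hf.2.1 hf.2.2 hf0
  obtain ⟨v, hv, hQv⟩ := exists_Q_ne hQ hg.2.1 hg.2.2 hg0
  apply key
  by_cases h2 : (2 : F) = 0
  · -- characteristic two: scale
    have : CharP F 2 := by
      refine CharTwo.of_one_ne_zero_of_two_eq_zero one_ne_zero h2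
    obtain ⟨c, hc⟩ : ∃ c : F, c ^ 2 = Q u / Q v := by
      have := Fintype.ofFinite F
      obtain ⟨c, hc⟩ := FiniteField.isSquare_of_char_two (by
        exact ringChar.eq F 2) (Q u / Q v)
      exact ⟨c, by rw [hc, pow_two]⟩
    refine ⟨u, c • v, hu, by rw [map_smul, hv], hQu, ?_⟩
    rw [QuadraticMap.map_smul, smul_eq_mul, ← pow_two, hc, div_mul_cancel₀ _ hQv]
  · by_cases hfd : ∃ w, f w = w ∧ w ≠ 0 ∧ polar Q u w = 0
    · obtain ⟨w, hw, hw0, hp⟩ := hfd
      obtain ⟨u', hu', hq⟩ := universal h2 hQ hf.2.1 hf.2.2 hu hQu hw hw0 hp (Q v)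
      exact ⟨u', v, hu', hv, by rw [hq]; exact hQv, hq⟩
    by_cases hgd : ∃ w, g w = w ∧ w ≠ 0 ∧ polar Q v w = 0
    · obtain ⟨w, hw, hw0, hp⟩ := hgd
      obtain ⟨v', hv', hq⟩ := universal h2 hQ hg.2.1 hg.2.2 hv hQv hw hw0 hp (Q u)
      exact ⟨u, v', hu, hv', hQu, hq.symm⟩
    exfalso
    push Not at hfd hgd
    -- both blocks are one-dimensional
    have line : ∀ (f : Module.End F V) (u : V), f ∈ Idm Q R → f u = u → Q u ≠ 0 →
        (∀ w, f w = w → w ≠ 0 → polar Q u w ≠ 0) → ∀ x ∈ R, x u = u := by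
      intro f u hf hu hQu hd x hx
      have hfx : f (x u) = x u := by
        have h3 : f * (x : V →ₗ[F] V) = (x : V →ₗ[F] V) * f :=
          alg_comm hR hf.1 (Algebra.subset_adjoin ⟨x, hx, rfl⟩)
        have h4 := LinearMap.congr_fun h3 u
        rw [Module.End.mul_apply, Module.End.mul_apply, hu] at h4
        exact h4
      -- `x u` is a multiple of `u`
      set! c : F := polar Q u (x u) / (2 * Q u) with hc
      have h5 : x u = c • u := by
        by_contra h6
        refine hd (x u - c • u) (by rw [map_sub, map_smul, hfx, hu]) (sub_ne_zero.2 h6) ?_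
        rw [polar_sub_right, polar_smul_right, polar_self', smul_eq_mul, hc,
          div_mul_cancel₀ _ (mul_ne_zero h2 hQu), sub_self]
      have h6 : c * c = 1 := by
        have h7 := mem_O.1 (hRO x hx) u
        rw [h5, QuadraticMap.map_smul, smul_eq_mul] at h7
        exact mul_right_cancel₀ hQu (by rw [h7, one_mul])
      have h7 : ∀ n : ℕ, (x ^ n) u = c ^ n • u := by
        intro n
        induction n with
        | zero => rw [pow_zero, pow_zero, one_smul]; rfl
        | succ n ih =>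
          rw [pow_succ, pow_succ]
          show (x ^ n) (x u) = _
          rw [h5, map_smul, ih, smul_smul, mul_comm]
      have h8 : c ^ r = 1 := by
        have h9 := h7 r
        rw [hRr x hx] at h9
        have h10 : u = c ^ r • u := h9
        have h11 : u ≠ 0 := by
          rintro rfl
          exact hQu (QuadraticMap.map_zero Q)
        have h12 : (c ^ r - 1) • u = 0 := by rw [sub_smul, one_smul, ← h10, sub_self]
        exact sub_eq_zero.1 ((smul_eq_zero.1 h12).resolve_right h11)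
      have h9 : c = 1 := by
        obtain ⟨k, rfl⟩ := hr
        rw [pow_succ, pow_mul, pow_two, h6, one_pow, one_mul] at h8
        exact h8
      rw [h5, h9, one_smul]
    have hxu := line f u hf hu hQu hfd
    have hxv := line g v hg hv hQv hgd
    -- `F[R]` acts in the same way on `u` and `v`
    have h3 : ∀ a ∈ Alg R, ∃ c : F, a u = c • u ∧ a v = c • v := by
      intro a ha
      induction ha using Algebra.adjoin_induction with
      | mem s hs =>
        obtain ⟨x, hx, rfl⟩ := hs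
        refine ⟨1, ?_, ?_⟩
        · rw [one_smul]; exact hxu x hx
        · rw [one_smul]; exact hxv x hx
      | algebraMap c => exact ⟨c, rfl, rfl⟩
      | add s t _ _ hs ht =>
        obtain ⟨c, hc1, hc2⟩ := hs
        obtain ⟨d, hd1, hd2⟩ := ht
        refine ⟨c + d, ?_, ?_⟩
        · rw [LinearMap.add_apply, hc1, hd1, add_smul]
        · rw [LinearMap.add_apply, hc2, hd2, add_smul]
      | mul s t _ _ hs ht =>
        obtain ⟨c, hc1, hc2⟩ := hs
        obtain ⟨d, hd1, hd2⟩ := ht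
        refine ⟨d * c, ?_, ?_⟩
        · rw [Module.End.mul_apply, hd1, map_smul, hc1, smul_smul]
        · rw [Module.End.mul_apply, hd2, map_smul, hc2, smul_smul]
    obtain ⟨c, hc1, hc2⟩ := h3 e he.1
    have hu0 : u ≠ 0 := by
      rintro rfl
      exact hQu (QuadraticMap.map_zero Q)
    have hv0 : v ≠ 0 := by
      rintro rfl
      exact hQv (QuadraticMap.map_zero Q)
    rw [heu u hu] at hc1
    rw [hev v hv] at hc2
    have h4 : c = 0 := (smul_eq_zero.1 hc2.symm).resolve_right hv0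
    rw [h4, zero_smul] at hc1
    exact hu0 hc1

end

/-- a reflection in a vector fixed or killed by `d` commutes with `d` -/
theorem refl_comm_of {d : Module.End F V} (hd : SA Q d) {u : V} (hQu : Q u ≠ 0) (h : d u = u ∨ d u = 0) (v : V) :
    refl Q u hQu (d v) = d (refl Q u hQu v) := by
  rw [refl_apply, refl_apply, map_sub, map_smul]
  rcases h with h | h
  · rw [← hd u v, h]
  · rw [← hd u v, h, polar_zero_left, mul_zero, zero_smul, smul_zero]

/-- the linear automorphisms in `Ω(V)` normalising a set of endomorphisms -/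
def Nrm (Q : QuadraticForm F V) (D : Set (Module.End F V)) : Prop :=
  ∀ g ∈ E Q, ∀ d ∈ D, (g : V →ₗ[F] V) * d * ((g⁻¹ : V ≃ₗ[F] V) : V →ₗ[F] V) ∈ D

/-- **Two or more coarse blocks**: an involution of `Ω(V)`, not a scalar, centralising the self-adjoint idempotents. -/
theorem exists_invol [Finite F] (hG : Good Q) (hRO : ∀ x ∈ R, x ∈ O Q)
    (hR : ∀ x ∈ R, ∀ y ∈ R, x * y = y * x) {r : ℕ} (hr : Odd r) (hRr : ∀ x ∈ R, x ^ r = 1) {e : Module.End F V}
    (he : e ∈ Idm Q R) (h0 : e ≠ 0) (h1 : e ≠ 1) :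
    (∃ x ∈ E Q, x * x = 1 ∧ (¬ ∃ c : F, ∀ v : V, x v = c • v) ∧ ∀ d ∈ Idm Q R, ∀ v, x (d v) = d (x v)) ∧
      ¬ Nrm Q (Idm Q R) := by
  have : FiniteDimensional F V := Module.finite_of_finrank_pos (by have := hG.dim; omega)
  obtain ⟨u, v, hQu, hQuv, hp, hdu, hdv, d₀, hd₀, hd₀u, hd₀v⟩ := exists_uv hG.nondeg hRO hR hr hRr he h0 h1
  have hQv : Q v ≠ 0 := by rw [← hQuv]; exact hQu
  have hu0 : u ≠ 0 := by
    rintro rfl
    exact hQu (QuadraticMap.map_zero Q)
  have hv0 : v ≠ 0 := by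
    rintro rfl
    exact hQv (QuadraticMap.map_zero Q)
  have hx : refl Q u hQu * refl Q v hQv ∈ E Q := hG.refl_mul_refl_mem hQv hQu hQuv.symm
  have hxx : refl Q u hQu * refl Q v hQv * (refl Q u hQu * refl Q v hQv) = 1 := by
    have h2 := refl_comm hQu hQv hp
    calc refl Q u hQu * refl Q v hQv * (refl Q u hQu * refl Q v hQv)
        = refl Q u hQu * refl Q v hQv * (refl Q v hQv * refl Q u hQu) := by rw [h2]
      _ = refl Q u hQu * (refl Q v hQv * refl Q v hQv) * refl Q u hQu := by group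
      _ = 1 := by rw [refl_mul_self, mul_one, refl_mul_self]
  have hns : ¬ ∃ c : F, ∀ w : V, (refl Q u hQu * refl Q v hQv) w = c • w := by
    rintro ⟨c, hc⟩
    -- there is a vector orthogonal to `u` and `v`
    obtain ⟨w, hw0, hw⟩ := exists_perp_ne (Q := Q) ![u, v] (by have := hG.dim; omega)
    have hwu : polar Q u w = 0 := hw 0
    have hwv : polar Q v w = 0 := hw 1
    have h2 := hc w
    have h3 : (refl Q u hQu * refl Q v hQv) w = w := by
      show refl Q u hQu (refl Q v hQv w) = w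
      rw [refl_apply, refl_apply, hwv, mul_zero, zero_smul, sub_zero, hwu, mul_zero, zero_smul, sub_zero]
    rw [h3] at h2
    have h4 : c = 1 := by
      have h5 : (c - 1) • w = 0 := by rw [sub_smul, one_smul, ← h2, sub_self]
      exact sub_eq_zero.1 ((smul_eq_zero.1 h5).resolve_right hw0)
    -- so the product is trivial: but it moves a vector
    obtain ⟨y, hy⟩ := hG.nondeg.exists_polar_ne hu0
    have h5 := hc (d₀ y)
    rw [h4, one_smul] at h5
    have h6 : polar Q v (d₀ y) = 0 := by rw [← hd₀.2.2, hd₀v, polar_zero_left]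
    have h7 : (refl Q u hQu * refl Q v hQv) (d₀ y) = d₀ y - ((Q u)⁻¹ * polar Q u (d₀ y)) • u := by
      show refl Q u hQu (refl Q v hQv (d₀ y)) = _
      rw [refl_apply hQv, h6, mul_zero, zero_smul, sub_zero, refl_apply]
    rw [h7, sub_eq_self, smul_eq_zero] at h5
    rcases h5 with h5 | h5
    · rcases mul_eq_zero.1 h5 with h6 | h6
      · exact hQu (inv_eq_zero.1 h6)
      · rw [← hd₀.2.2, hd₀u] at h6
        exact hy h6
    · exact hu0 h5
  have hcomm : ∀ d ∈ Idm Q R, ∀ w, (refl Q u hQu * refl Q v hQv) (d w) = d ((refl Q u hQu * refl Q v hQv) w) := by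
    intro d hd w
    show refl Q u hQu (refl Q v hQv (d w)) = d (refl Q u hQu (refl Q v hQv w))
    rw [refl_comm_of hd.2.2 hQv (hdv d hd), refl_comm_of hd.2.2 hQu (hdu d hd)]
  refine ⟨⟨_, hx, hxx, hns, hcomm⟩, ?_⟩
  intro hN
  -- the centraliser of the idempotents in `E Q` is normal
  let K : Subgroup (V ≃ₗ[F] V) :=
    { carrier := {g | g ∈ E Q ∧ ∀ d ∈ Idm Q R, ∀ w, g (d w) = d (g w)}
      one_mem' := ⟨one_mem _, fun d _ w => rfl⟩
      mul_mem' := by
        rintro a b ⟨ha, ha'⟩ ⟨hb, hb'⟩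
        refine ⟨mul_mem ha hb, fun d hd w => ?_⟩
        show a (b (d w)) = d (a (b w))
        rw [hb' d hd, ha' d hd]
      inv_mem' := by
        rintro a ⟨ha, ha'⟩
        refine ⟨inv_mem ha, fun d hd w => ?_⟩
        apply a.injective
        rw [ha' d hd]
        show a (a.symm (d w)) = d (a (a.symm w))
        rw [LinearEquiv.apply_symm_apply, LinearEquiv.apply_symm_apply] }
  have hK : ∀ g ∈ E Q, ∀ n ∈ K, g * n * g⁻¹ ∈ K := by
    rintro g hg n ⟨hn, hn'⟩
    refine ⟨mul_mem (mul_mem hg hn) (inv_mem hg), fun d hd w => ?_⟩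
    have h2 := hN g⁻¹ (inv_mem hg) d hd
    rw [inv_inv] at h2
    have h3 := hn' _ h2 (g⁻¹ w)
    have h4 : ∀ z : V, g (g⁻¹ z) = z := fun z => LinearEquiv.apply_symm_apply g z
    have h5 : ∀ z : V, g⁻¹ (g z) = z := fun z => LinearEquiv.symm_apply_apply g z
    have h6 : ∀ z : V, (((g⁻¹ : V ≃ₗ[F] V) : V →ₗ[F] V) * d * (g : V →ₗ[F] V)) z = g⁻¹ (d (g z)) := fun z => rfl
    rw [h6, h6, h4] at h3
    show g (n (g⁻¹ (d w))) = d (g (n (g⁻¹ w)))
    rw [h3, h4]
  rcases good_normal_dichotomy hG (N := K) (fun g hg => hg.1) hK with h2 | h2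
  · exact hns (h2 _ ⟨hx, hcomm⟩)
  · obtain ⟨g, hg, hgu⟩ := hG.trans_norm hu0 hv0 hQuv
    have h3 : g ∈ K := by rw [h2]; exact hg
    have h4 := h3.2 d₀ hd₀ u
    rw [hd₀u, hgu, hd₀v] at h4
    exact hv0 h4

end Cfsg.Agent.H283.Fxo
end

-- part: H79/Co3/Par
section
/-!
# S1920, box PAR: parity lemmas (helper79)

`V` a space with a symmetric form `B`, characteristic not 2, `U` a nondegenerate subspace, all maps preserve `U`.

* `even_of_alt`: a nondegenerate skew form lives on an even dimensional space;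
* `even_of_skew`: `N` skew and injective on `U`: `finrank U` is even;
* `even_of_nonsq`: `N ^ 2 = l` not a square: `finrank U` is even (`U` any invariant subspace);
* `even_of_anticomm`: `N₁ N₂ = - N₂ N₁`, both injective: `finrank U` is even (`U` any invariant subspace);
* `four_of_skew_skew`: `N₁`, `N₂` skew, anticommuting, squares nonzero scalars: `4 ∣ finrank U`;
* `four_of_skew_nonsq`: `N₁` skew, injective, `N₂` selfadjoint, commuting with `N₁`, `N₂ ^ 2` not a square: `4 ∣ finrank U`;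
* `nd_inf_eig`, `nd_inf_eig_neg`: the eigenspaces of a selfadjoint `N`, `N ^ 2 = ν ^ 2`, on `U` are nondegenerate.

The second half: the same for similitudes of `quadFormPlus m F` (matrices).
-/

set_option autoImplicit false
set_option linter.unusedSectionVars false

namespace Cfsg.Agent.H79.Co3

open Module LinearMap

section abs

variable {F V : Type*} [Field F] [AddCommGroup V] [Module F V] [FiniteDimensional F V]

/-- a nondegenerate skew form -/
theorem even_of_alt (h2 : (2 : F) ≠ 0) (β : V →ₗ[F] V →ₗ[F] F) (hs : ∀ u v, β u v = - β v u)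
    (hn : ∀ u, (∀ v, β u v = 0) → u = 0) : Even (finrank F V) := by
  by_contra hodd
  rw [Nat.not_even_iff_odd] at hodd
  let b := Module.finBasis F V
  let A : Matrix (Fin (finrank F V)) (Fin (finrank F V)) F := fun i j => β (b i) (b j)
  have hA : A.transpose = -A := by
    ext i j
    exact hs _ _
  have h1 : A.det = -A.det := by
    conv_lhs => rw [← Matrix.det_transpose, hA, Matrix.det_neg, Fintype.card_fin, hodd.neg_one_pow, neg_one_mul]
  have h3 : A.det = 0 := by
    have h4 : (2 : F) * A.det = 0 := by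
      rw [two_mul]
      nth_rewrite 2 [h1]
      exact add_neg_cancel _
    exact (mul_eq_zero.1 h4).resolve_left h2
  obtain ⟨v, hv, hvA⟩ := Matrix.exists_vecMul_eq_zero_iff.2 h3
  apply hv
  have h5 : ∑ i, v i • b i = 0 := by
    apply hn
    intro w
    have h6 : ∀ j, β (∑ i, v i • b i) (b j) = 0 := by
      intro j
      rw [map_sum, LinearMap.sum_apply]
      have := congrFun hvA j
      rw [Matrix.vecMul, dotProduct] at this
      rw [← Pi.zero_apply (M := fun _ => F) j, ← this]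
      refine Finset.sum_congr rfl fun i _ => ?_
      rw [map_smul, LinearMap.smul_apply, smul_eq_mul]
    have h7 : β (∑ i, v i • b i) = 0 := b.ext h6
    rw [h7]
    rfl
  ext i
  exact (Fintype.linearIndependent_iff.1 b.linearIndependent) v h5 i

variable {B : V →ₗ[F] V →ₗ[F] F} {U : Submodule F V} {N N₁ N₂ : V →ₗ[F] V} {l l₁ l₂ ν : F}

end abs

section mat

open Cfsg

variable {m : ℕ} {F : Type*} [Field F] {U : Submodule F (Fin m ⊕ Fin m → F)}
  {M M₁ M₂ : Matrix (Fin m ⊕ Fin m) (Fin m ⊕ Fin m) F} {l l₁ l₂ ν : F}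

end mat

end Cfsg.Agent.H79.Co3
end

-- part: H283/Fxo/TwoSemi
section
/-!
# S5719, `|A|` odd, orthogonal groups: semisimilarities, and odd dimension (helper283)

* `idm_semi` : a semisimilarity normalising `R` normalises `Idm Q R`.
* `exists_idm_of_odd` : in odd dimension (odd characteristic) there is a self-adjoint idempotent `≠ 0, 1` in `F[R]`.
-/

set_option autoImplicit false

namespace Cfsg.Agent.H283.Fxo

open QuadraticMap Module
open Cfsg.Agent.LieClassical.OrthCore Cfsg.Agent.LieClassical.OrthTrans Cfsg.Agent.LieClassical.OrthSimple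
  Cfsg.Agent.AutOrth.SemiSim

variable {F V : Type*} [Field F] [AddCommGroup V] [Module F V] {Q : QuadraticForm F V} {R : Set (V ≃ₗ[F] V)}

/-- conjugation of an endomorphism by a semisimilarity -/
def cj {M : V ≃+ V} {σ : F ≃+* F} {c : F} (hM : IsSemi Q M σ c) (a : Module.End F V) : Module.End F V where
  toFun v := M (a (M.symm v))
  map_add' x y := by simp
  map_smul' t x := by
    rw [hM.symm.smul, map_smul, hM.smul, RingEquiv.apply_symm_apply, RingHom.id_apply]

theorem cj_apply {M : V ≃+ V} {σ : F ≃+* F} {c : F} (hM : IsSemi Q M σ c) (a : Module.End F V) (v : V) :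
    cj hM a (M v) = M (a v) := by
  show M (a (M.symm (M v))) = M (a v)
  rw [AddEquiv.symm_apply_apply]

theorem cj_mem {M : V ≃+ V} {σ : F ≃+* F} {c : F} (hM : IsSemi Q M σ c) (hR : ∀ g ∈ R, conjL hM g ∈ R)
    {a : Module.End F V} (ha : a ∈ Alg R) : cj hM a ∈ Alg R := by
  induction ha using Algebra.adjoin_induction with
  | mem s hs =>
    obtain ⟨x, hx, rfl⟩ := hs
    exact Algebra.subset_adjoin ⟨_, hR x hx, by ext v; rfl⟩
  | algebraMap t =>
    have h1 : cj hM (algebraMap F (Module.End F V) t) = algebraMap F (Module.End F V) (σ t) := by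
      ext v
      obtain ⟨w, rfl⟩ := M.surjective v
      rw [cj_apply]
      show M (t • w) = σ t • M w
      exact hM.smul t w
    rw [h1]
    exact algebraMap_mem _ _
  | add s t _ _ hs ht =>
    have h1 : cj hM (s + t) = cj hM s + cj hM t := by
      ext v
      obtain ⟨w, rfl⟩ := M.surjective v
      rw [LinearMap.add_apply, cj_apply, cj_apply, cj_apply, LinearMap.add_apply, map_add]
    rw [h1]
    exact add_mem hs ht
  | mul s t _ _ hs ht =>
    have h1 : cj hM (s * t) = cj hM s * cj hM t := by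
      ext v
      obtain ⟨w, rfl⟩ := M.surjective v
      rw [Module.End.mul_apply, cj_apply, cj_apply, cj_apply, Module.End.mul_apply]
    rw [h1]
    exact mul_mem hs ht

/-- **A semisimilarity normalising `R` normalises `Idm Q R`.** -/
theorem idm_semi {M : V ≃+ V} {σ : F ≃+* F} {c : F} (hM : IsSemi Q M σ c) (hR : ∀ g ∈ R, conjL hM g ∈ R) :
    ∀ a ∈ Idm Q R, ∃ b ∈ Idm Q R, ∀ v, b (M v) = M (a v) := by
  intro a ha
  refine ⟨cj hM a, ⟨cj_mem hM hR ha.1, ?_, ?_⟩, cj_apply hM a⟩
  · ext v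
    obtain ⟨w, rfl⟩ := M.surjective v
    rw [Module.End.mul_apply, cj_apply, cj_apply]
    congr 1
    exact LinearMap.congr_fun ha.2.1 w
  · intro v w
    obtain ⟨v, rfl⟩ := M.surjective v
    obtain ⟨w, rfl⟩ := M.surjective w
    rw [cj_apply, cj_apply, hM.polar, hM.polar, ha.2.2]

section Odd

/-- the average over a finite subgroup -/
noncomputable def av (H : Subgroup (V ≃ₗ[F] V)) [Fintype H] : Module.End F V :=
  (Fintype.card H : F)⁻¹ • ∑ y : H, ((y : V ≃ₗ[F] V) : V →ₗ[F] V)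

variable {H : Subgroup (V ≃ₗ[F] V)} [Fintype H]

theorem mul_av {h : V ≃ₗ[F] V} (hh : h ∈ H) : (h : V →ₗ[F] V) * av H = av H := by
  rw [av, mul_smul_comm, Finset.mul_sum]
  congr 1
  refine Fintype.sum_equiv (Equiv.mulLeft (⟨h, hh⟩ : H)) _ _ ?_
  intro y
  rfl

theorem av_mul_av (hc : (Fintype.card H : F) ≠ 0) : av H * av H = av H := by
  have h1 : av H * av H = (Fintype.card H : F)⁻¹ • ∑ y : H, ((y : V ≃ₗ[F] V) : V →ₗ[F] V) * av H := by
    conv_lhs => arg 1; rw [av]
    rw [smul_mul_assoc, Finset.sum_mul]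
  rw [h1, Finset.sum_congr rfl fun y _ => mul_av y.2, Finset.sum_const, Finset.card_univ, ← Nat.cast_smul_eq_nsmul F,
    smul_smul, inv_mul_cancel₀ hc, one_smul]

theorem av_SA (hO : ∀ x ∈ H, x ∈ O Q) : SA Q (av H) := by
  intro v w
  have h1 : ∀ y : H, polar Q (((y : V ≃ₗ[F] V) : V →ₗ[F] V) v) w =
      polar Q v ((((y⁻¹ : H) : V ≃ₗ[F] V) : V →ₗ[F] V) w) := by
    intro y
    have h2 := polar_map (hO _ (y⁻¹).2) ((y : V ≃ₗ[F] V) v) w
    have h3 : ((y⁻¹ : H) : V ≃ₗ[F] V) ((y : V ≃ₗ[F] V) v) = v := LinearEquiv.symm_apply_apply (y : V ≃ₗ[F] V) v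
    rw [h3] at h2
    exact h2.symm
  rw [av, LinearMap.smul_apply, LinearMap.smul_apply, polar_smul_left, polar_smul_right, LinearMap.sum_apply,
    LinearMap.sum_apply]
  congr 1
  have e1 : polar Q (∑ y : H, ((y : V ≃ₗ[F] V) : V →ₗ[F] V) v) w =
      ∑ y : H, polar Q (((y : V ≃ₗ[F] V) : V →ₗ[F] V) v) w := by
    have := map_sum (polarBilin Q).flip.flip (fun y : H => ((y : V ≃ₗ[F] V) : V →ₗ[F] V) v) Finset.univ
    have h4 : ∀ u, polar Q u w = (polarBilin Q).flip w u := fun u => rfl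
    rw [h4, map_sum]
    rfl
  have e2 : polar Q v (∑ y : H, ((y : V ≃ₗ[F] V) : V →ₗ[F] V) w) =
      ∑ y : H, polar Q v (((y : V ≃ₗ[F] V) : V →ₗ[F] V) w) := by
    have h4 : ∀ u, polar Q v u = (polarBilin Q) v u := fun u => rfl
    rw [h4, map_sum]
    rfl
  rw [e1, e2, Finset.sum_congr rfl fun y _ => h1 y]
  exact Fintype.sum_equiv (Equiv.inv H) _ _ fun y => rfl

/-- **Odd dimension**: there is a self-adjoint idempotent `≠ 0, 1`. -/
theorem exists_idm_of_odd [Finite F] (h2 : (2 : F) ≠ 0) (hQ : Nondeg Q) (hn : Odd (finrank F V))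
    (hRO : ∀ x ∈ R, x ∈ O Q) {r : ℕ} (hr : r.Prime) (hr2 : r ≠ 2) (hrF : (r : F) ≠ 0) {x : V ≃ₗ[F] V}
    (hx : x ∈ R) (hxr : x ^ r = 1) (hx1 : x ≠ 1) : ∃ e ∈ Idm Q R, e ≠ 0 ∧ e ≠ 1 := by
  classical
  have hfd : FiniteDimensional F V := Module.finite_of_finrank_pos hn.pos
  have hfin : Finite (V ≃ₗ[F] V) := by
    have : Finite V := Module.finite_of_finite F
    exact Finite.of_injective (fun g : V ≃ₗ[F] V => (g : V → V)) DFunLike.coe_injective
  have : Fact r.Prime := ⟨hr⟩
  have hord : orderOf x = r := orderOf_eq_prime hxr hx1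
  have := Fintype.ofFinite (Subgroup.zpowers x)
  have hcard : (Fintype.card (Subgroup.zpowers x) : F) ≠ 0 := by
    rw [← Nat.card_eq_fintype_card, Nat.card_zpowers, hord]
    exact hrF
  have hO : ∀ y ∈ Subgroup.zpowers x, y ∈ O Q := by
    intro y hy
    exact (Subgroup.zpowers_le.2 (hRO x hx)) hy
  have hpow : ∀ k : ℕ, ((x ^ k : V ≃ₗ[F] V) : V →ₗ[F] V) ∈ Alg R := by
    intro k
    have h3 : ((x ^ k : V ≃ₗ[F] V) : V →ₗ[F] V) = ((x : V →ₗ[F] V) ^ k : Module.End F V) := by
      induction k with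
      | zero => rfl
      | succ k ih =>
        rw [pow_succ, pow_succ, ← ih]
        rfl
    rw [h3]
    have h4 : (x : V →ₗ[F] V) ∈ Alg R := Algebra.subset_adjoin ⟨x, hx, rfl⟩
    exact pow_mem h4 k
  refine ⟨av (Subgroup.zpowers x), ⟨?_, av_mul_av hcard, av_SA hO⟩, ?_, ?_⟩
  · refine Subalgebra.smul_mem _ (sum_mem fun y _ => ?_) _
    obtain ⟨k, hk⟩ := (Subgroup.mem_zpowers_iff.1 y.2)
    obtain ⟨k', hk'⟩ : ∃ k' : ℕ, x ^ k' = (y : V ≃ₗ[F] V) := by
      have h3 : (y : V ≃ₗ[F] V) ∈ Submonoid.powers x := (mem_powers_iff_mem_zpowers).2 y.2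
      exact h3
    rw [← hk']
    exact hpow k'
  · intro h0
    -- no fixed vector
    have hfix : ∀ v, x v = v → v = 0 := by
      intro v hv
      have h3 : ∀ y ∈ Subgroup.zpowers x, y v = v := by
        intro y hy
        have h4 : Subgroup.zpowers x ≤ MulAction.stabilizer (V ≃ₗ[F] V) v := Subgroup.zpowers_le.2 hv
        exact h4 hy
      have h4 : av (Subgroup.zpowers x) v = v := by
        rw [av, LinearMap.smul_apply, LinearMap.sum_apply]
        have h5 : ∀ y : Subgroup.zpowers x, ((y : V ≃ₗ[F] V) : V →ₗ[F] V) v = v := fun y => h3 y y.2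
        rw [Finset.sum_congr rfl fun y _ => h5 y, Finset.sum_const, Finset.card_univ, ← Nat.cast_smul_eq_nsmul F,
          smul_smul, inv_mul_cancel₀ hcard, one_smul]
      rw [h0] at h4
      exact h4.symm
    let β : V →ₗ[F] V →ₗ[F] F := (polarBilin Q).comp ((x : V →ₗ[F] V) - ((x⁻¹ : V ≃ₗ[F] V) : V →ₗ[F] V))
    have hβ : ∀ u v, β u v = polar Q (x u) v - polar Q (x⁻¹ u) v := by
      intro u v
      show polar Q (x u - x⁻¹ u) v = _
      rw [polar_sub_left]
    have hadj : ∀ u v, polar Q (x u) v = polar Q u (x⁻¹ v) := by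
      intro u v
      have h3 := polar_map (hRO x hx) u (x⁻¹ v)
      have h4 : x (x⁻¹ v) = v := LinearEquiv.apply_symm_apply x v
      rw [h4] at h3
      exact h3
    have heven : Even (finrank F V) := by
      refine H79.Co3.even_of_alt h2 β ?_ ?_
      · intro u v
        rw [hβ, hβ, hadj, hadj]
        have h3 : polar Q (x⁻¹ u) v = polar Q v (x⁻¹ u) := polar_comm Q _ _
        have h4 : polar Q (x⁻¹ v) u = polar Q u (x⁻¹ v) := polar_comm Q _ _
        rw [h3, h4]
        ring
      · intro u hu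
        -- `x u = x⁻¹ u`
        have h3 : x u - x⁻¹ u = 0 := by
          apply hQ
          intro y
          exact hu y
        have h4 : x (x u) = u := by
          rw [sub_eq_zero.1 h3]
          exact LinearEquiv.apply_symm_apply x u
        apply hfix
        obtain ⟨k, hk⟩ := hr.odd_of_ne_two hr2
        have h5 : ∀ n : ℕ, (x ^ (2 * n)) u = u := by
          intro n
          induction n with
          | zero => rfl
          | succ n ih =>
            rw [show 2 * (n + 1) = 2 * n + 1 + 1 by ring, pow_succ, pow_succ]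
            show (x ^ (2 * n)) (x (x u)) = u
            rw [h4, ih]
        have h6 : (x ^ r) u = u := by rw [hxr]; rfl
        rw [hk, pow_succ'] at h6
        have h7 : x ((x ^ (2 * k)) u) = u := h6
        rw [h5] at h7
        exact h7
    exact (Nat.not_even_iff_odd.2 hn) heven
  · intro h1
    apply hx1
    have h3 := mul_av (H := Subgroup.zpowers x) (Subgroup.mem_zpowers x)
    rw [h1, mul_one] at h3
    ext v
    exact LinearMap.congr_fun h3 v

end Odd

end Cfsg.Agent.H283.Fxo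
end

-- part: H626/IFO/Defs
section
/-!
# S5719, `|A|` odd, orthogonal groups: the target property `EvN` (helper626)
-/

set_option autoImplicit false

namespace Cfsg.Agent.H626.IFO

open QuadraticMap Cfsg.Agent.LieClassical.OrthCore

/-- some element of `Ω(Q)` normalising `R` has even order modulo scalars -/
def EvN {F V : Type*} [Field F] [AddCommGroup V] [Module F V] (Q : QuadraticForm F V)
    (R : Subgroup (V ≃ₗ[F] V)) : Prop :=
  ∃ y ∈ E Q, (∀ x ∈ R, y * x * y⁻¹ ∈ R) ∧ ∀ k : ℕ, Odd k → ¬ ∃ c : F, ∀ v, (y ^ k) v = c • v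

/-- an involution of `Ω(Q)` normalising `R`, different from `1` and `-1` -/
theorem EvN.of_inv {F V : Type*} [Field F] [AddCommGroup V] [Module F V] {Q : QuadraticForm F V}
    {R : Subgroup (V ≃ₗ[F] V)} {y : V ≃ₗ[F] V} (hy : y ∈ E Q) (hn : ∀ x ∈ R, y * x * y⁻¹ ∈ R) (h2 : y * y = 1)
    (hs : ¬ ∃ c : F, ∀ v, y v = c • v) : EvN Q R := by
  refine ⟨y, hy, hn, fun k hk => ?_⟩
  obtain ⟨j, rfl⟩ := hk
  have h1 : y ^ (2 * j + 1) = y := by rw [pow_succ, pow_mul, pow_two, h2, one_pow, one_mul]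
  rw [h1]
  exact hs

end Cfsg.Agent.H626.IFO
end

-- part: H626/IFO/Inv
section
/-!
# S5719, `|A|` odd, orthogonal groups: an isometry inverting an abelian group of odd order (helper626)

On a cyclic block `F[R] u` the map `x u ↦ x⁻¹ u` is automatically an isometry. `exists_inv`.
-/

set_option autoImplicit false

namespace Cfsg.Agent.H626.IFO

open QuadraticMap Cfsg.Agent.LieClassical.OrthCore Module

variable {F V : Type*} [Field F] [AddCommGroup V] [Module F V] {Q : QuadraticForm F V}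

/-- two spanning families with the same values of `Q` and of its polar form differ by an isometry -/
theorem exists_isom {ι : Type*} (hQ : Nondeg Q) (p p' : ι → V) (h1 : ∀ i, Q (p i) = Q (p' i))
    (h2 : ∀ i j, polar Q (p i) (p j) = polar Q (p' i) (p' j)) (hp : Submodule.span F (Set.range p) = ⊤)
    (hp' : Submodule.span F (Set.range p') = ⊤) : ∃ g ∈ O Q, ∀ i, g (p i) = p' i := by
  classical
  set! P := Finsupp.linearCombination F p with hPdef
  set! P' := Finsupp.linearCombination F p' with hPdef'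
  have hP : Function.Surjective P := by
    rw [← LinearMap.range_eq_top, Finsupp.range_linearCombination]
    exact hp
  have hP' : Function.Surjective P' := by
    rw [← LinearMap.range_eq_top, Finsupp.range_linearCombination]
    exact hp'
  have hB : ∀ a b, polar Q (P a) (P b) = polar Q (P' a) (P' b) := by
    intro a b
    induction a using Finsupp.induction_linear with
    | zero => rw [map_zero, map_zero, polar_zero_left, polar_zero_left]
    | add a a' ha ha' => rw [map_add, polar_add_left, ha, ha', map_add, polar_add_left]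
    | single i c =>
      induction b using Finsupp.induction_linear with
      | zero => rw [map_zero, map_zero, polar_zero_right, polar_zero_right]
      | add b b' hb hb' => rw [map_add, polar_add_right, hb, hb', map_add, polar_add_right]
      | single j d =>
        rw [hPdef, hPdef', Finsupp.linearCombination_single, Finsupp.linearCombination_single,
          Finsupp.linearCombination_single, Finsupp.linearCombination_single, polar_smul_left, polar_smul_left,
          polar_smul_right, polar_smul_right, h2]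
  have hQQ : ∀ a, Q (P a) = Q (P' a) := by
    intro a
    induction a using Finsupp.induction_linear with
    | zero => rw [map_zero P, map_zero P']
    | add a a' ha ha' => rw [map_add, Q_add, ha, ha', hB, map_add, Q_add]
    | single i c =>
      rw [hPdef, hPdef', Finsupp.linearCombination_single, Finsupp.linearCombination_single,
        QuadraticMap.map_smul, QuadraticMap.map_smul, h1]
  have hker : LinearMap.ker P = LinearMap.ker P' := by
    ext a
    rw [LinearMap.mem_ker, LinearMap.mem_ker]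
    constructor
    · intro h
      apply hQ
      intro y
      obtain ⟨b, rfl⟩ := hP' y
      rw [← hB, h, polar_zero_left]
    · intro h
      apply hQ
      intro y
      obtain ⟨b, rfl⟩ := hP y
      rw [hB, h, polar_zero_left]
  let g : V ≃ₗ[F] V := (P.quotKerEquivOfSurjective hP).symm ≪≫ₗ
    (Submodule.quotEquivOfEq _ _ hker) ≪≫ₗ (P'.quotKerEquivOfSurjective hP')
  have hg : ∀ a, g (P a) = P' a := by
    intro a
    have h3 : (P.quotKerEquivOfSurjective hP).symm (P a) = Submodule.Quotient.mk a := by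
      rw [LinearEquiv.symm_apply_eq]
      rfl
    change (P'.quotKerEquivOfSurjective hP') ((Submodule.quotEquivOfEq _ _ hker)
      ((P.quotKerEquivOfSurjective hP).symm (P a))) = P' a
    rw [h3]
    rfl
  refine ⟨g, ?_, fun i => ?_⟩
  · intro v
    obtain ⟨a, rfl⟩ := hP v
    rw [hg, hQQ]
  · have h3 := hg (Finsupp.single i 1)
    rw [hPdef, hPdef', Finsupp.linearCombination_single, Finsupp.linearCombination_single, one_smul, one_smul] at h3
    exact h3

/-- `W` is nondegenerate -/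
def ND (Q : QuadraticForm F V) (W : Submodule F V) : Prop := ∀ w ∈ W, (∀ v ∈ W, polar Q w v = 0) → w = 0

/-- the orthogonal space -/
def perp (Q : QuadraticForm F V) (W : Submodule F V) : Submodule F V where
  carrier := {v | ∀ w ∈ W, polar Q v w = 0}
  zero_mem' := fun w _ => polar_zero_left Q w
  add_mem' := by
    intro a b ha hb w hw
    rw [polar_add_left, ha w hw, hb w hw, add_zero]
  smul_mem' := by
    intro c a ha w hw
    rw [polar_smul_left, ha w hw, smul_zero]

theorem mem_perp {W : Submodule F V} {v : V} : v ∈ perp Q W ↔ ∀ w ∈ W, polar Q v w = 0 := Iff.rfl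

theorem split [FiniteDimensional F V] {W : Submodule F V} (hW : ND Q W) (v : V) :
    ∃ w ∈ W, ∃ z ∈ perp Q W, v = w + z := by
  let φ : W →ₗ[F] Module.Dual F W := (LinearMap.lcomp F F W.subtype) ∘ₗ (polarBilin Q) ∘ₗ W.subtype
  have hφ : ∀ a b : W, φ a b = polar Q (a : V) (b : V) := fun a b => rfl
  have hinj : Function.Injective φ := by
    rw [injective_iff_map_eq_zero]
    intro a ha
    apply Subtype.ext
    apply hW a a.2
    intro b hb
    have h1 := hφ a ⟨b, hb⟩
    rw [ha] at h1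
    exact h1.symm
  have hsurj : Function.Surjective φ :=
    (LinearMap.injective_iff_surjective_of_finrank_eq_finrank (by exact (Subspace.dual_finrank_eq).symm)).1 hinj
  obtain ⟨w, hw⟩ := hsurj ((LinearMap.lcomp F F W.subtype) (polarBilin Q v))
  refine ⟨w, w.2, v - w, ?_, by abel⟩
  intro b hb
  have h1 : φ w ⟨b, hb⟩ = polar Q v b := by rw [hw]; rfl
  rw [hφ] at h1
  rw [polar_sub_left, h1, sub_self]

theorem perp_perp_le {W : Submodule F V} : W ≤ perp Q (perp Q W) := by
  intro w hw v hv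
  rw [polar_comm]
  exact hv w hw

theorem nd_perp [FiniteDimensional F V] (hQ : Nondeg Q) {W : Submodule F V} (hW : ND Q W) : ND Q (perp Q W) := by
  intro w hw h
  apply hQ
  intro y
  obtain ⟨a, ha, z, hz, rfl⟩ := split hW y
  rw [polar_add_right, hw a ha, h z hz, add_zero]

/-- `U` splits off a nondegenerate subspace -/
theorem nd_inf [FiniteDimensional F V] {U W : Submodule F V} (hU : ND Q U) (hWU : W ≤ U) (hW : ND Q W) :
    ND Q (U ⊓ perp Q W) ∧ U ≤ W ⊔ (U ⊓ perp Q W) := by
  have h1 : ∀ y ∈ U, ∃ a ∈ W, ∃ z ∈ U ⊓ perp Q W, y = a + z := by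
    intro y hy
    obtain ⟨a, ha, z, hz, h⟩ := split hW y
    refine ⟨a, ha, z, ⟨?_, hz⟩, h⟩
    have : z = y - a := by rw [h]; abel
    rw [this]
    exact U.sub_mem hy (hWU ha)
  refine ⟨?_, ?_⟩
  · intro w hw h
    apply hU w hw.1
    intro y hy
    obtain ⟨a, ha, z, hz, rfl⟩ := h1 y hy
    rw [polar_add_right, hw.2 a ha, h z hz, add_zero]
  · intro y hy
    obtain ⟨a, ha, z, hz, rfl⟩ := h1 y hy
    exact Submodule.add_mem_sup ha hz

variable {R : Subgroup (V ≃ₗ[F] V)}

/-- `R`-invariant subspaces -/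
def Inv (R : Subgroup (V ≃ₗ[F] V)) (W : Submodule F V) : Prop := ∀ x ∈ R, ∀ w ∈ W, x w ∈ W

/-- the fixed space of `R` -/
def Fx (R : Subgroup (V ≃ₗ[F] V)) : Submodule F V where
  carrier := {v | ∀ x ∈ R, x v = v}
  zero_mem' := fun x _ => map_zero x
  add_mem' := by
    intro a b ha hb x hx
    rw [map_add, ha x hx, hb x hx]
  smul_mem' := by
    intro c a ha x hx
    rw [map_smul, ha x hx]

/-- the cyclic block `F[R] u` -/
def cyc (R : Subgroup (V ≃ₗ[F] V)) (u : V) : Submodule F V := Submodule.span F {w | ∃ x ∈ R, w = x u}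

theorem mem_cyc {x : V ≃ₗ[F] V} (hx : x ∈ R) (u : V) : x u ∈ cyc R u := Submodule.subset_span ⟨x, hx, rfl⟩

theorem self_mem_cyc (u : V) : u ∈ cyc R u := mem_cyc (one_mem R) u

theorem inv_cyc (u : V) : Inv R (cyc R u) := by
  intro x hx w hw
  induction hw using Submodule.span_induction with
  | mem w h =>
    obtain ⟨y, hy, rfl⟩ := h
    exact mem_cyc (mul_mem hx hy) u
  | zero => rw [map_zero]; exact zero_mem _
  | add a b _ _ ha hb => rw [map_add]; exact add_mem ha hb
  | smul c a _ ha => rw [map_smul]; exact Submodule.smul_mem _ _ ha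

theorem cyc_le {U : Submodule F V} (hU : Inv R U) {u : V} (hu : u ∈ U) : cyc R u ≤ U := by
  apply Submodule.span_le.2
  rintro _ ⟨x, hx, rfl⟩
  exact hU x hx u hu

theorem inv_inf {U W : Submodule F V} (hU : Inv R U) (hW : Inv R W) : Inv R (U ⊓ W) :=
  fun x hx w hw => ⟨hU x hx w hw.1, hW x hx w hw.2⟩

theorem polar_inv (hR : R ≤ O Q) {x : V ≃ₗ[F] V} (hx : x ∈ R) (a b : V) : polar Q (x a) b = polar Q a (x⁻¹ b) := by
  have h1 := polar_map (hR hx) a (x⁻¹ b)
  rw [← h1]
  congr 1
  exact (LinearEquiv.apply_symm_apply x b).symm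

theorem inv_perp (hR : R ≤ O Q) {W : Submodule F V} (hW : Inv R W) : Inv R (perp Q W) := by
  intro x hx v hv w hw
  rw [polar_inv hR hx]
  exact hv _ (hW _ (inv_mem hx) w hw)

/-- averaging an endomorphism over `R` -/
noncomputable def av (R : Subgroup (V ≃ₗ[F] V)) [Fintype R] (π : V →ₗ[F] V) : V →ₗ[F] V :=
  (Fintype.card R : F)⁻¹ • ∑ x : R, ((x : V ≃ₗ[F] V) : V →ₗ[F] V) ∘ₗ π ∘ₗ (((x : V ≃ₗ[F] V)⁻¹ : V ≃ₗ[F] V) : V →ₗ[F] V)

theorem av_apply [Fintype R] (π : V →ₗ[F] V) (v : V) :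
    av R π v = (Fintype.card R : F)⁻¹ • ∑ x : R, (x : V ≃ₗ[F] V) (π (((x : V ≃ₗ[F] V)⁻¹ : V ≃ₗ[F] V) v)) := by
  rw [av, LinearMap.smul_apply, LinearMap.sum_apply]
  rfl

theorem av_comm [Fintype R] (π : V →ₗ[F] V) {y : V ≃ₗ[F] V} (hy : y ∈ R) (v : V) : y (av R π v) = av R π (y v) := by
  rw [av_apply, av_apply, map_smul, map_sum]
  congr 1
  refine Fintype.sum_equiv (Equiv.mulLeft (⟨y, hy⟩ : R)) _ _ ?_
  intro x
  change y ((x : V ≃ₗ[F] V) (π ((x : V ≃ₗ[F] V)⁻¹ v))) = (y * (x : V ≃ₗ[F] V)) (π ((y * (x : V ≃ₗ[F] V))⁻¹ (y v)))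
  rw [LinearEquiv.mul_apply, mul_inv_rev, LinearEquiv.mul_apply]
  congr 3
  congr 1
  exact (LinearEquiv.symm_apply_apply y v).symm

theorem av_mem [Fintype R] {π : V →ₗ[F] V} {D : Submodule F V} (hD : Inv R D) (hπ : ∀ v, π v ∈ D) (v : V) :
    av R π v ∈ D := by
  rw [av_apply]
  exact D.smul_mem _ (D.sum_mem fun x _ => hD x x.2 _ (hπ _))

theorem av_id [Fintype R] (hcard : (Fintype.card R : F) ≠ 0) {π : V →ₗ[F] V} {D : Submodule F V} (hD : Inv R D)
    (hπ : ∀ v ∈ D, π v = v) {v : V} (hv : v ∈ D) : av R π v = v := by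
  rw [av_apply]
  have h1 : ∀ x : R, (x : V ≃ₗ[F] V) (π (((x : V ≃ₗ[F] V)⁻¹ : V ≃ₗ[F] V) v)) = v := by
    intro x
    rw [hπ _ (hD _ (inv_mem x.2) v hv)]
    exact LinearEquiv.apply_symm_apply (x : V ≃ₗ[F] V) v
  rw [Finset.sum_congr rfl (fun x _ => h1 x), Finset.sum_const, Finset.card_univ, ← Nat.cast_smul_eq_nsmul F,
    smul_smul, inv_mul_cancel₀ hcard, one_smul]

/-- a nonzero nondegenerate cyclic block -/
theorem exists_cyc [FiniteDimensional F V] [Fintype R] (hR : R ≤ O Q) (hcard : (Fintype.card R : F) ≠ 0)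
    (hodd : ∀ x ∈ R, ∀ v, x (x v) = v → x v = v) {U : Submodule F V} (hU : ND Q U) (hUi : Inv R U)
    (hU0 : U ⊓ Fx R = ⊥) (hne : U ≠ ⊥) : ∃ u ∈ U, u ≠ 0 ∧ ND Q (cyc R u) := by
  obtain ⟨u0, hu0, x0, hx0, h0⟩ : ∃ u ∈ U, ∃ x ∈ R, polar Q (x u) u ≠ 0 := by
    by_contra hcon
    push Not at hcon
    have h1 : ∀ u ∈ U, ∀ x ∈ R, x u + x⁻¹ u = 0 := by
      intro u hu x hx
      apply hU _ (U.add_mem (hUi x hx u hu) (hUi _ (inv_mem hx) u hu))
      intro w hw
      have h2 := hcon (u + w) (U.add_mem hu hw) x hx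
      rw [map_add, polar_add_left, polar_add_right, polar_add_right, hcon u hu x hx, hcon w hw x hx, zero_add,
        add_zero, polar_inv hR hx w u, polar_comm Q w] at h2
      rw [polar_add_left]
      exact h2
    apply hne
    rw [Submodule.eq_bot_iff]
    intro u hu
    have h2 : u ∈ U ⊓ Fx R := by
      refine ⟨hu, fun x hx => ?_⟩
      apply hodd x hx
      have h3 := h1 u hu 1 (one_mem R)
      rw [inv_one] at h3
      have h3' : u + u = 0 := h3
      have h4 := h1 (x u) (hUi x hx u hu) x hx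
      have h5 : (x⁻¹ : V ≃ₗ[F] V) (x u) = u := LinearEquiv.symm_apply_apply x u
      rw [h5] at h4
      rw [eq_neg_of_add_eq_zero_left h4]
      exact (eq_neg_of_add_eq_zero_left h3').symm
    rw [hU0] at h2
    exact h2
  set! C := cyc R u0 with hC
  set! D := C ⊓ perp Q C with hD
  have hDi : Inv R D := inv_inf (inv_cyc u0) (inv_perp hR (inv_cyc u0))
  obtain ⟨D', hD'⟩ := Submodule.exists_isCompl D
  let π0 : V →ₗ[F] V := D.subtype ∘ₗ (D.projectionOnto D' hD')
  have hπ0 : ∀ v, π0 v ∈ D := fun v => (D.projectionOnto D' hD' v).2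
  have hπ1 : ∀ v ∈ D, π0 v = v := by
    intro v hv
    change ((D.projectionOnto D' hD' v : D) : V) = v
    rw [Submodule.projectionOnto_apply_left hD' ⟨v, hv⟩]
  set! π := av R π0 with hπ
  have hπm : ∀ v, π v ∈ D := av_mem hDi hπ0
  have hπi : ∀ v ∈ D, π v = v := fun v hv => av_id hcard hDi hπ1 hv
  have hπc : ∀ x ∈ R, ∀ v, x (π v) = π (x v) := fun x hx v => av_comm π0 hx v
  set! u1 := u0 - π u0 with hu1
  have hu1C : u1 ∈ C := C.sub_mem (self_mem_cyc u0) (hπm u0).1
  -- the block of `u1`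
  have hle : cyc R u1 ≤ C := cyc_le (inv_cyc u0) hu1C
  have hmem : ∀ c ∈ C, c - π c ∈ cyc R u1 := by
    intro c hc
    induction hc using Submodule.span_induction with
    | mem w h =>
      obtain ⟨y, hy, rfl⟩ := h
      have : y u0 - π (y u0) = y u1 := by rw [hu1, map_sub, hπc y hy]
      rw [this]
      exact mem_cyc hy u1
    | zero => rw [map_zero, sub_zero]; exact zero_mem _
    | add a b _ _ ha hb =>
      rw [map_add, add_sub_add_comm]
      exact add_mem ha hb
    | smul c a _ ha =>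
      rw [map_smul, ← smul_sub]
      exact Submodule.smul_mem _ _ ha
  have hker : ∀ c ∈ cyc R u1, π c = 0 := by
    intro c hc
    induction hc using Submodule.span_induction with
    | mem w h =>
      obtain ⟨y, hy, rfl⟩ := h
      rw [← hπc y hy, hu1, map_sub, hπi _ (hπm u0), sub_self, map_zero]
    | zero => rw [map_zero]
    | add a b _ _ ha hb => rw [map_add, ha, hb, add_zero]
    | smul c a _ ha => rw [map_smul, ha, smul_zero]
  have hnd : ND Q (cyc R u1) := by
    intro w hw h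
    have h1 : w ∈ D := by
      refine ⟨hle hw, fun c hc => ?_⟩
      have h2 := h _ (hmem c hc)
      have h3 : polar Q w (π c) = 0 := by
        rw [polar_comm]
        exact (hπm c).2 w (hle hw)
      rw [polar_sub_right, h3, sub_zero] at h2
      exact h2
    rw [← hπi w h1, hker w hw]
  have hu1U : u1 ∈ U := (cyc_le hUi hu0) hu1C
  refine ⟨u1, hu1U, ?_, hnd⟩
  intro h1
  have h2 : π u0 = u0 := by
    rw [hu1, sub_eq_zero] at h1
    exact h1.symm
  have h3 : u0 ∈ D := by rw [← h2]; exact hπm u0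
  apply h0
  rw [polar_comm]
  exact h3.2 _ (mem_cyc hx0 u0)

/-- an orthogonal family of cyclic blocks -/
structure Fam (Q : QuadraticForm F V) (R : Subgroup (V ≃ₗ[F] V)) (U : Submodule F V) (S : Set V) : Prop where
  mem : ∀ u ∈ S, u ∈ U
  ne : ∀ u ∈ S, u ≠ 0
  nd : ∀ u ∈ S, ND Q (cyc R u)
  orth : ∀ u ∈ S, ∀ u' ∈ S, u ≠ u' → ∀ x ∈ R, ∀ y ∈ R, polar Q (x u) (y u') = 0
  span : U ≤ Submodule.span F {w | ∃ u ∈ S, ∃ x ∈ R, w = x u}

theorem exists_fam [FiniteDimensional F V] [Fintype R] (hR : R ≤ O Q) (hcard : (Fintype.card R : F) ≠ 0)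
    (hodd : ∀ x ∈ R, ∀ v, x (x v) = v → x v = v) (n : ℕ) : ∀ {U : Submodule F V}, finrank F U ≤ n → ND Q U →
    Inv R U → U ⊓ Fx R = ⊥ → ∃ S, Fam Q R U S := by
  induction n with
  | zero =>
    intro U hn _ _ _
    have h1 : U = ⊥ := Submodule.finrank_eq_zero.1 (Nat.le_zero.1 hn)
    exact ⟨∅, fun u h => h.elim, fun u h => h.elim, fun u h => h.elim, fun u h => h.elim, by rw [h1]; exact bot_le⟩
  | succ n ih =>
    intro U hn hU hUi hU0
    by_cases hne : U = ⊥
    · exact ⟨∅, fun u h => h.elim, fun u h => h.elim, fun u h => h.elim, fun u h => h.elim, by rw [hne]; exact bot_le⟩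
    obtain ⟨u, hu, hu0, hnd⟩ := exists_cyc hR hcard hodd hU hUi hU0 hne
    obtain ⟨h1, h2⟩ := nd_inf hU (cyc_le hUi hu) hnd
    have hlt : finrank F ↥(U ⊓ perp Q (cyc R u)) ≤ n := by
      have h3 : U ⊓ perp Q (cyc R u) < U := by
        refine lt_of_le_of_ne inf_le_left ?_
        intro h4
        have h5 : u ∈ U ⊓ perp Q (cyc R u) := by rw [h4]; exact hu
        apply hu0
        apply hnd u (self_mem_cyc u)
        exact h5.2
      have h4 := Submodule.finrank_lt_finrank_of_lt h3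
      omega
    obtain ⟨S, hS⟩ := ih hlt h1 (inv_inf hUi (inv_perp hR (inv_cyc u)))
      (by rw [eq_bot_iff]; intro v hv; rw [← hU0]; exact ⟨hv.1.1, hv.2⟩)
    refine ⟨insert u S, ?_, ?_, ?_, ?_, ?_⟩
    · rintro v (rfl | hv)
      · exact hu
      · exact (hS.mem v hv).1
    · rintro v (rfl | hv)
      · exact hu0
      · exact hS.ne v hv
    · rintro v (rfl | hv)
      · exact hnd
      · exact hS.nd v hv
    · rintro v (rfl | hv) w (rfl | hw) hvw x hx y hy
      · exact absurd rfl hvw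
      · rw [polar_comm]
        exact (inv_perp hR (inv_cyc v) y hy w (hS.mem w hw).2) _ (mem_cyc hx v)
      · exact (inv_perp hR (inv_cyc w) x hx v (hS.mem v hv).2) _ (mem_cyc hy w)
      · exact hS.orth v hv w hw hvw x hx y hy
    · refine h2.trans (sup_le ?_ ?_)
      · apply Submodule.span_mono
        rintro _ ⟨x, hx, rfl⟩
        exact ⟨u, Set.mem_insert _ _, x, hx, rfl⟩
      · refine hS.span.trans (Submodule.span_mono ?_)
        rintro _ ⟨v, hv, x, hx, rfl⟩
        exact ⟨v, Set.mem_insert_of_mem _ hv, x, hx, rfl⟩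

/-- **The inverting isometry** of a nondegenerate `R`-invariant subspace without fixed vectors. -/
theorem exists_inv [FiniteDimensional F V] [Fintype R] (hQ : Nondeg Q) (hR : R ≤ O Q)
    (hc : ∀ x ∈ R, ∀ y ∈ R, x * y = y * x) (hcard : (Fintype.card R : F) ≠ 0)
    (hodd : ∀ x ∈ R, ∀ v, x (x v) = v → x v = v) {W : Submodule F V} (hW : ND Q W) (hWi : Inv R W)
    (hW0 : W ⊓ Fx R = ⊥) :
    ∃ g ∈ O Q, (∀ v, g (g v) = v) ∧ (∀ v ∈ perp Q W, g v = v) ∧ (∀ v ∈ W, g v ∈ W) ∧
      ∀ x ∈ R, ∀ v ∈ W, g (x v) = (x⁻¹ : V ≃ₗ[F] V) (g v) := by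
  obtain ⟨S, hS⟩ := exists_fam hR hcard hodd _ le_rfl hW hWi hW0
  let p : ((S × R) ⊕ perp Q W) → V := Sum.elim (fun i => (i.2 : V ≃ₗ[F] V) (i.1 : V)) (fun v => (v : V))
  let p' : ((S × R) ⊕ perp Q W) → V :=
    Sum.elim (fun i => ((i.2 : V ≃ₗ[F] V)⁻¹ : V ≃ₗ[F] V) (i.1 : V)) (fun v => (v : V))
  have hrp : Set.range p = Set.range p' := by
    ext v
    constructor
    · rintro ⟨⟨u, x⟩ | v, rfl⟩
      · refine ⟨Sum.inl (u, x⁻¹), ?_⟩
        change (((x⁻¹ : R) : V ≃ₗ[F] V)⁻¹ : V ≃ₗ[F] V) (u : V) = (x : V ≃ₗ[F] V) (u : V)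
        rw [Subgroup.coe_inv, inv_inv]
      · exact ⟨Sum.inr v, rfl⟩
    · rintro ⟨⟨u, x⟩ | v, rfl⟩
      · exact ⟨Sum.inl (u, x⁻¹), rfl⟩
      · exact ⟨Sum.inr v, rfl⟩
  have hsp : Submodule.span F (Set.range p) = ⊤ := by
    rw [eq_top_iff]
    intro v _
    obtain ⟨w, hw, z, hz, rfl⟩ := split hW v
    apply add_mem
    · refine (Submodule.span_mono ?_) (hS.span hw)
      rintro _ ⟨u, hu, x, hx, rfl⟩
      exact ⟨Sum.inl (⟨u, hu⟩, ⟨x, hx⟩), rfl⟩
    · exact Submodule.subset_span ⟨Sum.inr ⟨z, hz⟩, rfl⟩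
  have hpm : ∀ i : S × R, p (Sum.inl i) ∈ W := fun i => hWi _ i.2.2 _ (hS.mem _ i.1.2)
  have hpm' : ∀ i : S × R, p' (Sum.inl i) ∈ W := fun i => hWi _ (inv_mem i.2.2) _ (hS.mem _ i.1.2)
  obtain ⟨g, hg, hgp⟩ := exists_isom hQ p p' (by
      rintro (⟨u, x⟩ | v)
      · change Q ((x : V ≃ₗ[F] V) (u : V)) = Q (((x : V ≃ₗ[F] V)⁻¹ : V ≃ₗ[F] V) (u : V))
        rw [hR x.2, hR (inv_mem x.2)]
      · rfl) (by
      rintro (⟨u, x⟩ | v) (⟨u', x'⟩ | v')
      · change polar Q ((x : V ≃ₗ[F] V) (u : V)) ((x' : V ≃ₗ[F] V) (u' : V)) =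
          polar Q (((x : V ≃ₗ[F] V)⁻¹ : V ≃ₗ[F] V) (u : V)) (((x' : V ≃ₗ[F] V)⁻¹ : V ≃ₗ[F] V) (u' : V))
        by_cases huu : (u : V) = u'
        · rw [huu, polar_inv hR x.2, ← LinearEquiv.mul_apply, polar_inv hR (inv_mem x.2), inv_inv,
            ← LinearEquiv.mul_apply, hc _ x.2 _ (inv_mem x'.2)]
          have h1 : ((x' : V ≃ₗ[F] V)⁻¹ * (x : V ≃ₗ[F] V)) = ((x : V ≃ₗ[F] V)⁻¹ * (x' : V ≃ₗ[F] V))⁻¹ := by
            rw [mul_inv_rev, inv_inv]
          rw [h1, ← polar_inv hR (mul_mem (inv_mem x.2) x'.2), polar_comm]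
        · rw [hS.orth _ u.2 _ u'.2 huu _ x.2 _ x'.2, hS.orth _ u.2 _ u'.2 huu _ (inv_mem x.2) _ (inv_mem x'.2)]
      · change polar Q (p (Sum.inl (u, x))) (v' : V) = polar Q (p' (Sum.inl (u, x))) (v' : V)
        rw [polar_comm, v'.2 _ (hpm _), polar_comm, v'.2 _ (hpm' _)]
      · change polar Q (v : V) (p (Sum.inl (u', x'))) = polar Q (v : V) (p' (Sum.inl (u', x')))
        rw [v.2 _ (hpm _), v.2 _ (hpm' _)]
      · rfl) hsp (by rw [← hrp]; exact hsp)
  have hgu : ∀ u ∈ S, ∀ x ∈ R, g (x u) = (x⁻¹ : V ≃ₗ[F] V) u := fun u hu x hx => hgp (Sum.inl (⟨u, hu⟩, ⟨x, hx⟩))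
  have hgv : ∀ v ∈ perp Q W, g v = v := fun v hv => hgp (Sum.inr ⟨v, hv⟩)
  -- induction over `W`
  have key : ∀ v ∈ W, g v ∈ W ∧ g (g v) = v ∧ ∀ x ∈ R, g (x v) = (x⁻¹ : V ≃ₗ[F] V) (g v) := by
    intro v hv
    have hv' := hS.span hv
    clear hv
    induction hv' using Submodule.span_induction with
    | mem w h =>
      obtain ⟨u, hu, y, hy, rfl⟩ := h
      refine ⟨?_, ?_, ?_⟩
      · rw [hgu u hu y hy]
        exact hWi _ (inv_mem hy) _ (hS.mem u hu)
      · rw [hgu u hu y hy, hgu u hu _ (inv_mem hy), inv_inv]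
      · intro x hx
        have h1 := hgu u hu _ (mul_mem hx hy)
        rw [LinearEquiv.mul_apply] at h1
        rw [h1, hgu u hu y hy, ← LinearEquiv.mul_apply, mul_inv_rev, hc _ (inv_mem hy) _ (inv_mem hx)]
    | zero => exact ⟨by rw [map_zero]; exact zero_mem _, by rw [map_zero, map_zero],
        fun x _ => by rw [map_zero, map_zero, map_zero]⟩
    | add a b _ _ ha hb =>
      refine ⟨?_, ?_, ?_⟩
      · rw [map_add]
        exact add_mem ha.1 hb.1
      · rw [map_add, map_add, ha.2.1, hb.2.1]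
      · intro x hx
        rw [map_add, map_add, ha.2.2 x hx, hb.2.2 x hx, map_add, map_add]
    | smul c a _ ha =>
      refine ⟨?_, ?_, ?_⟩
      · rw [map_smul]
        exact Submodule.smul_mem _ _ ha.1
      · rw [map_smul, map_smul, ha.2.1]
      · intro x hx
        rw [map_smul, map_smul, ha.2.2 x hx, map_smul, map_smul]
  refine ⟨g, hg, ?_, hgv, fun v hv => (key v hv).1, fun x hx v hv => (key v hv).2.2 x hx⟩
  intro v
  obtain ⟨w, hw, z, hz, rfl⟩ := split hW v
  rw [map_add, map_add, (key w hw).2.1, hgv z hz, hgv z hz]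

end Cfsg.Agent.H626.IFO
end

private theorem dce_ce65adb263a8 : _root_.True := by
  try have : _root_.True := by simp only [_root_.Cfsg.Agent.H283.Fxo.av.eq_1]
  try have : _root_.True := by simp only [_root_.Cfsg.quadFormPlus.eq_1]
  try have : _root_.True := by simp only [_root_.Cfsg.Agent.H626.IFO.av.eq_1]
  exact _root_.True.intro
end

-- part: H447/IFO/PSpOdd
section
prune_inst 0x31700520246202000018058471001c62b6000402004b0400844001060c80cc0220040e21ab30050010b808c40030006811000090426000000e000000011d00a080015006b2080104260019800000000000000000000000000000000000000004000000000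
set_option linter.all false
open scoped Cfsg.Agent.FastGrp

/-!
# S5719, `PSp_2m(q)`, `|A|` odd (helper447)

`psp_oddA` : no counterexample to S5719 in `PSp_2m(q)`, `m ≥ 2`, with `A` of odd order.
-/

set_option autoImplicit false
set_option linter.unusedSectionVars false

namespace Cfsg.Agent.H447.IFO

open Cfsg Cfsg.Agent.H209.Fxy
open scoped Matrix
open Cfsg.Agent.ClassicalGeometry.SympBasic Cfsg.Agent.ClassicalGeometry.SympSiegel
  Cfsg.Agent.ClassicalGeometry.SympAutSemi Cfsg.Agent.ClassicalGeometry.SympAutExists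

variable {F : Type*} [Field F] {m : ℕ}

local notation "V" => (Fin m ⊕ Fin m → F)
local notation "G" => Matrix.symplecticGroup (Fin m) F
local notation "f" => sympForm m F

/-- the fixed space -/
def fixS (H : Subgroup G) : Submodule F V where
  carrier := {v | ∀ h ∈ H, h • v = v}
  zero_mem' := fun h _ => smul_zero' h
  add_mem' := fun {a b} ha hb h hh => by rw [smul_add', ha h hh, hb h hh]
  smul_mem' := fun c v hv h hh => by rw [smul_smul', hv h hh]

/-- the radical of the fixed space -/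
def radS (H : Subgroup G) : Submodule F V := fixS H ⊓ perp (sympBilin m F) (fixS H)

theorem eq_top_of_perp {W : Submodule F V} (h : perp (sympBilin m F) W = ⊥) : W = ⊤ := by
  by_contra hW
  obtain ⟨φ, hφ, hWφ⟩ := Submodule.exists_le_ker_of_lt_top W (lt_top_iff_ne_top.2 hW)
  have hinj : Function.Injective ((sympBilin m F).flip : V →ₗ[F] Module.Dual F V) := by
    rw [injective_iff_map_eq_zero]
    intro n hn
    apply eq_zero_of_forall_sympForm_left
    intro w
    exact LinearMap.congr_fun hn w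
  have hsurj : Function.Surjective ((sympBilin m F).flip : V →ₗ[F] Module.Dual F V) := by
    rw [← LinearMap.range_eq_top]
    apply Submodule.eq_top_of_finrank_eq
    rw [LinearMap.finrank_range_of_inj hinj, Subspace.dual_finrank_eq]
  obtain ⟨u, hu⟩ := hsurj φ
  have h1 : u ∈ perp (sympBilin m F) W := by
    intro w hw
    have : φ w = 0 := hWφ hw
    rw [← hu] at this
    exact this
  rw [h, Submodule.mem_bot] at h1
  apply hφ
  rw [← hu, h1, map_zero]

theorem radS_ne_bot [Finite F] {p : ℕ} [Fact p.Prime] [CharP F p] {H : Subgroup G} (hH : IsPGroup p H)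
    (hne : H ≠ ⊥) : radS H ≠ ⊥ := by
  intro h
  apply hne
  have hinv : ∀ g ∈ H, ∀ v ∈ perp (sympBilin m F) (fixS H), g • v ∈ perp (sympBilin m F) (fixS H) := by
    intro g hg v hv w hw
    have h1 := hv w hw
    rw [sympBilin_apply] at h1 ⊢
    rw [← hw g hg, form_smul, h1]
  have hP : perp (sympBilin m F) (fixS H) = ⊥ := by
    by_contra hP
    let _ : MulAction H (perp (sympBilin m F) (fixS H)) :=
      { smul := fun g v => ⟨(g : G) • (v : V), hinv g g.2 v v.2⟩
        one_smul := fun v => Subtype.ext (one_smul G (v : V))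
        mul_smul := fun a b v => Subtype.ext (mul_smul (a : G) (b : G) (v : V)) }
    have hsm : ∀ (g : H) (v : perp (sympBilin m F) (fixS H)), ((g • v : perp (sympBilin m F) (fixS H)) : V) =
      (g : G) • (v : V) := fun g v => rfl
    have hdvd : p ∣ Nat.card (perp (sympBilin m F) (fixS H)) := by
      have : Fintype F := Fintype.ofFinite F
      obtain ⟨n, -, hn⟩ := FiniteField.card F p
      rw [Module.natCard_eq_pow_finrank (K := F), Nat.card_eq_fintype_card, hn]
      have h1 : Module.finrank F (perp (sympBilin m F) (fixS H)) ≠ 0 := fun h0 => hP (Submodule.finrank_eq_zero.1 h0)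
      exact dvd_pow (dvd_pow_self p n.pos.ne') h1
    have h0 : (0 : perp (sympBilin m F) (fixS H)) ∈ MulAction.fixedPoints H (perp (sympBilin m F) (fixS H)) :=
      fun g => Subtype.ext (smul_zero' g.1)
    obtain ⟨v, hv, hne'⟩ := hH.exists_fixed_point_of_prime_dvd_card_of_fixed_point _ hdvd h0
    have h2 : (v : V) ∈ radS H := by
      refine ⟨fun g hg => ?_, v.2⟩
      have := hv ⟨g, hg⟩
      exact congrArg Subtype.val this
    rw [h, Submodule.mem_bot] at h2
    exact hne' (Subtype.ext h2.symm)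
  have h3 := eq_top_of_perp hP
  rw [Subgroup.eq_bot_iff_forall]
  intro g hg
  apply ext_smul
  intro v
  have : v ∈ fixS H := by rw [h3]; exact Submodule.mem_top
  rw [this g hg, one_smul]

/-! ### semisimilitudes -/

theorem conj_smul' (γ : semiSim m F) (A : G) (v : V) : γ.1 (A • v) = conjHom m F γ A • γ.1 v := by
  have h1 := DFunLike.congr_fun (rho_conjHom γ A) (γ.1 v)
  rw [Equiv.Perm.mul_apply, Equiv.Perm.mul_apply, perm_inv_apply_self, rho_apply, rho_apply] at h1
  exact h1.symm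

theorem inv_apply (γ : semiSim m F) (v : V) : γ.1 ((γ⁻¹).1 v) = v := perm_apply_inv_self γ.1 v

theorem apply_inv (γ : semiSim m F) (v : V) : (γ⁻¹).1 (γ.1 v) = v := perm_inv_apply_self γ.1 v

theorem conj_conj (γ : semiSim m F) (A : G) : conjHom m F γ (conjHom m F γ⁻¹ A) = A := by
  rw [← MulAut.mul_apply, ← map_mul, mul_inv_cancel, map_one, MulAut.one_apply]

theorem semi_fix {γ : semiSim m F} {H : Subgroup G} (hγ : ∀ h ∈ H, conjHom m F γ⁻¹ h ∈ H) {v : V} (hv : v ∈ fixS H) :
    γ.1 v ∈ fixS H := by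
  intro h hh
  have h1 := conj_smul' γ (conjHom m F γ⁻¹ h) v
  rw [conj_conj, hv _ (hγ h hh)] at h1
  exact h1.symm

theorem semi_rad {γ : semiSim m F} {H : Subgroup G} (hγ : ∀ h ∈ H, conjHom m F γ h ∈ H)
    (hγ' : ∀ h ∈ H, conjHom m F γ⁻¹ h ∈ H) {v : V} (hv : v ∈ radS H) : γ.1 v ∈ radS H := by
  refine ⟨semi_fix hγ' hv.1, fun w hw => ?_⟩
  obtain ⟨φ, l, hl, hs⟩ := γ.2
  have h1 : (γ⁻¹).1 w ∈ fixS H := semi_fix (γ := γ⁻¹) (by rw [inv_inv]; exact hγ) hw
  have h2 := hv.2 _ h1
  rw [sympBilin_apply] at h2 ⊢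
  have h3 := hs.2.2 ((γ⁻¹).1 w) v
  rw [inv_apply, h2, map_zero, mul_zero] at h3
  exact h3

/-- inner semisimilitudes -/
def inn (g : G) : semiSim m F := ⟨rho m F g, RingEquiv.refl F, 1, one_ne_zero, isSemi_rho g⟩

theorem conjHom_inn (g A : G) : conjHom m F (inn g) A = g * A * g⁻¹ := by
  apply rho_injective
  rw [rho_conjHom, map_mul, map_mul, map_inv]
  rfl

theorem Psi_inn (g : G) : Psi m F (inn g) = MulAut.conj (pr g) := by
  ext x
  obtain ⟨y, rfl⟩ := pr_surj x
  change Psi m F (inn g) (QuotientGroup.mk y) = _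
  rw [Psi_mk, conjHom_inn]
  rfl

/-- the stabiliser of a subspace -/
def stab (U : Submodule F V) : Subgroup G where
  carrier := {g | ∀ u, g • u ∈ U ↔ u ∈ U}
  one_mem' := fun u => by rw [one_smul]
  mul_mem' := fun {a b} ha hb u => by rw [mul_smul, ha, hb]
  inv_mem' := fun {a} ha u => by rw [← ha, smul_inv_smul]

/-- the reflection in a hyperbolic plane -/
def tLin (e e' : V) : V →ₗ[F] V :=
  LinearMap.id - (2 : F) • (((sympBilin m F).flip e').smulRight e + (sympBilin m F e).smulRight e')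

theorem tLin_apply (e e' v : V) : tLin e e' v = v - (2 : F) • (f v e' • e + f e v • e') := rfl

theorem form_tLin {e e' : V} (h : f e e' = 1) (u v : V) : f (tLin e e' u) (tLin e e' v) = f u v := by
  have h' : f e' e = -1 := by rw [sympForm_swap, h]
  simp only [tLin_apply, sympForm_add_left, sympForm_add_right, sympForm_smul_left, sympForm_sub_left,
    sympForm_sub_right, sympForm_smul_right, sympForm_self, h, h']
  rw [sympForm_swap u e, sympForm_swap e' v]
  ring

/-- **The case `r = char F`.** -/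
theorem char_case [Finite F] (hm : 2 ≤ m) (h2 : (2 : F) ≠ 0) [IsSimpleGroup (PSp m F)] {p : ℕ} [hp : Fact p.Prime]
    [CharP F p] {A : Subgroup (PSp m F)} {Γ : Subgroup (MulAut (PSp m F))} (h : IF A Γ) (hodd : Odd (Nat.card A))
    {R : Subgroup (PSp m F)} (hR : R ≠ ⊥) (hx : ∀ x ∈ R, x ^ p = 1)
    (hc : ∀ x ∈ R, ∀ y ∈ R, x * y = y * x) (hinv : ∀ σ ∈ Γ, ∀ x ∈ R, σ x ∈ R) : False := by
  have hm1 : 1 ≤ m := by omega
  have hp2 : p ≠ 2 := by
    rintro rfl
    exact h2 (CharP.cast_eq_zero F 2)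
  have hpo : Odd p := hp.out.odd_of_ne_two hp2
  set H := lift R p hm1 hpo hc with hHdef
  set U := radS H with hUdef
  have hHb : H ≠ ⊥ := by
    intro hb
    apply hR
    rw [Subgroup.eq_bot_iff_forall]
    intro x hxR
    obtain ⟨g, hg, rfl⟩ := exists_mem_lift (hm := hm1) (hr := hpo) (hc := hc) hxR (hx x hxR)
    rw [← hHdef, hb, Subgroup.mem_bot] at hg
    rw [hg, pr_one]
  have hU : U ≠ ⊥ := radS_ne_bot (p := p) lift_pgroup hHb
  obtain ⟨u0, hu0, hu0'⟩ := Submodule.exists_mem_ne_zero_of_ne_bot hU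
  have hiso : ∀ u ∈ U, ∀ v ∈ U, f u v = 0 := fun u hu v hv => hv.2 u hu.1
  have hΓ : ∀ σ ∈ Γ, ∃ γ : semiSim m F, Psi m F γ = σ := fun σ _ =>
    exists_semi hm σ (Cfsg.Agent.ClassicalGeometry.SympAutOddA.recog hm (Or.inr h2) σ)
  have hΓH : ∀ γ : semiSim m F, Psi m F γ ∈ Γ → ∀ g ∈ H, conjHom m F γ g ∈ H := by
    intro γ hγ g hg
    refine ⟨?_, ?_⟩
    · have h3 := hinv _ hγ _ hg.1
      exact h3
    · rw [← map_pow, hg.2, map_one]
  have hΓU : ∀ γ : semiSim m F, Psi m F γ ∈ Γ → ∀ u, γ.1 u ∈ U ↔ u ∈ U := by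
    have h3 : ∀ γ : semiSim m F, Psi m F γ ∈ Γ → ∀ u ∈ U, γ.1 u ∈ U := by
      intro γ hγ u hu
      exact semi_rad (hΓH γ hγ) (hΓH γ⁻¹ (by rw [map_inv]; exact Γ.inv_mem hγ)) hu
    intro γ hγ u
    refine ⟨fun hu => ?_, h3 γ hγ u⟩
    have h4 := h3 γ⁻¹ (by rw [map_inv]; exact Γ.inv_mem hγ) _ hu
    rwa [apply_inv] at h4
  -- the stabiliser
  let B : Subgroup (PSp m F) := (stab U).map (QuotientGroup.mk' (Subgroup.center G))
  have hB : ∀ x, x ∈ B ↔ ∃ g ∈ stab U, pr g = x := fun x => Iff.rfl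
  have hAB : A ≤ B := by
    intro a ha
    obtain ⟨g, rfl⟩ := pr_surj a
    rw [hB]
    refine ⟨g, ?_, rfl⟩
    have h3 := hΓU (inn g) (by rw [Psi_inn]; exact (h.conj _).2 ha)
    intro u
    exact h3 u
  have hBinv : ∀ σ ∈ Γ, ∀ b ∈ B, σ b ∈ B := by
    intro σ hσ b hb
    obtain ⟨γ, rfl⟩ := hΓ σ hσ
    obtain ⟨g, hg, rfl⟩ := (hB b).1 hb
    rw [hB]
    refine ⟨conjHom m F γ g, ?_, rfl⟩
    intro u
    have h3 := conj_smul' γ g ((γ⁻¹).1 u)
    rw [inv_apply] at h3
    rw [← h3, hΓU γ hσ, hg, ← hΓU γ hσ, inv_apply]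
  rcases h.max B hAB hBinv with h3 | h3
  · -- `B = A` contains an involution
    obtain ⟨e', he'⟩ := exists_form_eq_one hu0'
    let t : G := ofIso (tLin u0 e') (form_tLin he')
    have ht : ∀ v, t • v = v - (2 : F) • (f v e' • u0 + f u0 v • e') := fun v => by
      rw [ofIso_smul, tLin_apply]
    have ht0 : t • u0 = -u0 := by
      rw [ht, he', sympForm_self, zero_smul, add_zero, one_smul, two_smul]
      abel
    have htt : t * t = 1 := by
      apply ext_smul
      intro v
      rw [mul_smul, one_smul, ht (t • v), ht v]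
      simp only [sympForm_sub_left, sympForm_sub_right, sympForm_add_left, sympForm_add_right, sympForm_smul_left,
        sympForm_smul_right, sympForm_self, he']
      module
    have htU : t ∈ stab U := by
      have h4 : ∀ u ∈ U, t • u ∈ U := by
        intro u hu
        rw [ht, hiso u0 hu0 u hu, zero_smul, add_zero]
        exact U.sub_mem hu (U.smul_mem _ (U.smul_mem _ hu0))
      intro u
      refine ⟨fun hu => ?_, h4 u⟩
      have h5 := h4 _ hu
      rwa [← mul_smul, htt, one_smul] at h5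
    have htA : pr t ∈ A := by
      rw [← h3, hB]
      exact ⟨t, htU, rfl⟩
    have hpr2 : pr t ^ 2 = 1 := by rw [← pr_pow, pow_two, htt, pr_one]
    have hne : pr t ≠ 1 := by
      intro h1
      rw [← pr_one, eq_comm, pr_eq_iff, inv_one, one_mul] at h1
      obtain ⟨a, ha⟩ := smul_of_mem_center h1
      have ha1 : a = -1 := by
        apply smul_right_cancel_vec hu0'
        rw [← ha, ht0, neg_one_smul]
      -- every vector is in the span of `u0, e'`
      have h5 : ∀ v : V, v ∈ Submodule.span F ({u0, e'} : Set V) := by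
        intro v
        have h6 := ha v
        rw [ht, ha1, neg_one_smul] at h6
        have h7 : (2 : F) • v = (2 : F) • (f v e' • u0 + f u0 v • e') := by
          rw [two_smul F v]
          nth_rewrite 1 [← sub_add_cancel v ((2 : F) • (f v e' • u0 + f u0 v • e'))]
          rw [h6]
          abel
        have h8 : v = f v e' • u0 + f u0 v • e' := smul_right_injective _ h2 h7
        rw [h8, Submodule.mem_span_pair]
        exact ⟨_, _, rfl⟩
      have h9 : Submodule.span F ({u0, e'} : Set V) = ⊤ := by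
        rw [Submodule.eq_top_iff']
        exact h5
      have h10 : Module.finrank F (Submodule.span F ({u0, e'} : Set V)) ≤ 2 := by
        classical
        have := finrank_span_le_card (R := F) ({u0, e'} : Set V)
        refine this.trans ?_
        rw [Set.toFinset_card]
        have h11 := Finset.card_le_two (a := u0) (b := e')
        rw [← Set.toFinset_card]
        simpa using h11
      rw [h9, finrank_top, Module.finrank_fintype_fun_eq_card, Fintype.card_sum, Fintype.card_fin] at h10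
      omega
    have hord : orderOf (pr t) = 2 := orderOf_eq_prime hpr2 hne
    have h12 : orderOf (pr t) ∣ Nat.card A := by
      rw [show orderOf (pr t) = orderOf (⟨pr t, htA⟩ : A) from (Subgroup.orderOf_mk _ htA).symm]
      exact orderOf_dvd_natCard _
    rw [hord] at h12
    exact (Nat.not_even_iff_odd.2 hodd) (even_iff_two_dvd.2 h12)
  · -- `B = ⊤`
    obtain ⟨w, hw⟩ := exists_form_eq_one hu0'
    have h4 : pr (transv w (1 : F)) ∈ B := by rw [h3]; exact Subgroup.mem_top _
    obtain ⟨g, hg, hg'⟩ := (hB _).1 h4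
    rw [pr_eq_iff] at hg'
    obtain ⟨a, ha⟩ := smul_of_mem_center hg'
    have h5 : transv w (1 : F) • u0 = g • (a • u0) := by
      rw [← ha u0, ← mul_smul, mul_inv_cancel_left]
    have h6 : transv w (1 : F) • u0 ∈ U := by
      rw [h5]
      exact (hg _).2 (U.smul_mem a hu0)
    rw [transv_smul, hw, mul_one, one_smul] at h6
    have h7 : w ∈ U := by
      have := U.sub_mem h6 hu0
      rwa [add_sub_cancel_left] at this
    rw [hiso u0 hu0 w h7] at hw
    exact zero_ne_one hw

/-- **The cell `CellsPSp.oddA`.** -/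
theorem psp_oddA (F : Type*) [Field F] [Fintype F] (m : ℕ) (hm : 2 ≤ m) (hs : IsSimpleGroup (PSp m F)) :
    KillO (PSp m F) := by
  intro A Γ h hodd
  obtain ⟨r, R, hr, hr2, hRA, hR, hpow, hcomm, hinv⟩ := exists_elemAb h hodd
  by_cases hrF : (r : F) = 0
  · obtain ⟨p, hp⟩ := CharP.exists F
    have hpp : Fact p.Prime := ⟨CharP.char_is_prime F p⟩
    have h1 : p ∣ r := (CharP.cast_eq_zero_iff F p r).1 hrF
    have h2 : p = r := (Nat.prime_dvd_prime_iff_eq hpp.out hr).1 h1
    subst h2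
    have h2F : (2 : F) ≠ 0 := by
      intro h3
      have h4 : p ∣ 2 := (CharP.cast_eq_zero_iff F p 2).1 (by exact_mod_cast h3)
      exact hr2 ((Nat.prime_dvd_prime_iff_eq hr Nat.prime_two).1 h4)
    exact char_case hm h2F h hodd hR hpow hcomm hinv
  · obtain ⟨x, hx⟩ := exists_even_normaliser (by omega : 1 ≤ m) hr hr2 hrF R hpow hcomm
    have h1 : ∀ k ∈ R, x * k * x⁻¹ ∈ R := fun k hk => by rw [hx k hk]; exact R.inv_mem hk
    have h2 := odd_orderOf h hodd hRA hR hinv h1
    obtain ⟨⟨k, hk⟩, hk1'⟩ := Subgroup.ne_bot_iff_exists_ne_one.1 hR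
    have hk1 : k ≠ 1 := fun h3 => hk1' (Subtype.ext h3)
    exact (Nat.not_even_iff_odd.2 h2) (even_orderOf_of_inv hk1 (hr.odd_of_ne_two hr2) (hpow k hk) (hx k hk))

end Cfsg.Agent.H447.IFO
end

-- part: H94/IF/KOneB
section
prune_inst 0x214004601862020000000586110000245c000590006004014c000c440001e3020000214005801100180aa20000000028110000d0424000000e00040000010000008802042140000000001e000084000000000000000000000000000000000004000000000
set_option linter.all false
open scoped Cfsg.Agent.FastGrp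

-- part: H94/IF/KOne
section
/-!
# (K1) for S5719: a subgroup of `PSL₂(q)`, `q` odd, with a nontrivial normal subgroup of odd order

is solvable and of index at least `q + 1`.
-/

set_option autoImplicit false
set_option linter.unusedSectionVars false

namespace Cfsg.Agent.H94.IF

open Matrix OnePoint
open Cfsg.Agent.ClassicalGeometry.SL2Line Cfsg.Agent.ClassicalGeometry.SL2Borel
open Cfsg.Agent.ClassicalGeometry.MinIndexPSL2

section SL

variable {F : Type*} [Field F] [DecidableEq F] [Finite F]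

local notation "SS" => SpecialLinearGroup (Fin 2) F

attribute [local instance] slLineAction

theorem trc_comm (x y : SS) : (x * y) 0 0 + (x * y) 1 1 = (y * x) 0 0 + (y * x) 1 1 := by
  rw [sl_mul_apply, sl_mul_apply, sl_mul_apply, sl_mul_apply]
  ring

theorem trc_conj (g a : SS) : (g * a * g⁻¹) 0 0 + (g * a * g⁻¹) 1 1 = a 0 0 + a 1 1 := by
  rw [trc_comm (g * a) g⁻¹, inv_mul_cancel_left]

/-- an element with `a 1 0 = 0`, `a 0 0 = 1` -/
theorem eq_uni {a : SS} (h0 : a 1 0 = 0) (h1 : a 0 0 = 1) : a = uni (a 0 1) := by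
  have hd := det_eq a
  rw [h0, h1, mul_zero, sub_zero, one_mul] at hd
  apply sl_ext <;> simp only [uni, mk_00, mk_01, mk_10, mk_11]
  · exact h1
  · exact h0
  · exact hd

theorem pow_zero_zero {a : SS} (h0 : a 1 0 = 0) (n : ℕ) : (a ^ n) 1 0 = 0 ∧ (a ^ n) 0 0 = (a 0 0) ^ n := by
  induction n with
  | zero => simp [sl_one_apply]
  | succ n ih =>
    rw [pow_succ, sl_mul_apply, sl_mul_apply, ih.1, ih.2, h0, pow_succ]
    constructor <;> ring

/-- **the characteristic case** -/
theorem borel_case {p : ℕ} [Fact p.Prime] [CharP F p] {a : SS} (ha : a ≠ 1) (hap : a ^ p = 1)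
    {R : Subgroup SS} (h : ∀ g ∈ R, Commute (g * a * g⁻¹) a) :
    ∃ x : OnePoint F, R ≤ MulAction.stabilizer SS x := by
  classical
  -- `a` fixes a point
  have hfix : ∃ x : OnePoint F, a • x = x := by
    have : Finite (OnePoint F) := finite_line
    have hP : IsPGroup p (Subgroup.zpowers a) := by
      intro x
      obtain ⟨k, hk⟩ := Subgroup.mem_zpowers_iff.1 x.2
      refine ⟨1, Subtype.ext ?_⟩
      rw [pow_one, Subgroup.coe_pow, Subgroup.coe_one, ← hk, ← zpow_natCast, ← _root_.zpow_mul, mul_comm, _root_.zpow_mul,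
        zpow_natCast, hap, _root_.one_zpow]
    have hmod := hP.card_modEq_card_fixedPoints (α := OnePoint F)
    rw [card_line] at hmod
    have hpq : p ∣ Nat.card F := by
      have := Fintype.ofFinite F
      rw [Nat.card_eq_fintype_card]
      obtain ⟨n, -, hn⟩ := FiniteField.card F p
      rw [hn]
      exact dvd_pow_self p n.pos.ne'
    have hne : Nat.card (MulAction.fixedPoints (Subgroup.zpowers a) (OnePoint F)) ≠ 0 := by
      intro h0
      rw [h0] at hmod
      have h1 : p ∣ Nat.card F + 1 := (Nat.modEq_zero_iff_dvd).1 hmod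
      have h2 : p ∣ 1 := (Nat.dvd_add_right hpq).1 h1
      exact (Fact.out : p.Prime).one_lt.ne' (Nat.dvd_one.1 h2)
    obtain ⟨x⟩ := (Nat.card_pos_iff.1 (Nat.pos_of_ne_zero hne)).1
    exact ⟨x.1, x.2 ⟨a, Subgroup.mem_zpowers a⟩⟩
  obtain ⟨x, hx⟩ := hfix
  refine ⟨x, fun g hg => ?_⟩
  rw [MulAction.mem_stabilizer_iff]
  obtain ⟨k, rfl⟩ := exists_smul_infty x
  -- everything conjugated by `k`
  obtain ⟨a', ha'⟩ : ∃ a' : SS, a' = k⁻¹ * a * k := ⟨_, rfl⟩
  obtain ⟨g', hg'⟩ : ∃ g' : SS, g' = k⁻¹ * g * k := ⟨_, rfl⟩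
  have ha0 : a' 1 0 = 0 := by
    rw [← sl_smul_infty_eq_iff, ha', mul_smul, mul_smul, hx, inv_smul_smul]
  have hap' : a' ^ p = 1 := by
    have h1 : a' = MulAut.conj k⁻¹ a := by rw [ha', MulAut.conj_apply, inv_inv]
    rw [h1, ← map_pow, hap, map_one]
  have hone : ∀ b : SS, b 1 0 = 0 → b ^ p = 1 → b 0 0 = 1 := by
    intro b hb0 hbp
    have h1 := (pow_zero_zero hb0 p).2
    rw [hbp, sl_one_apply] at h1
    have h2 : (b 0 0 - 1) ^ p = 0 := by
      rw [sub_pow_char, ← h1, one_pow]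
      simp
    exact sub_eq_zero.1 (pow_eq_zero_iff (Fact.out : p.Prime).ne_zero |>.1 h2)
  have hau := eq_uni ha0 (hone a' ha0 hap')
  obtain ⟨b, hb⟩ : ∃ b : F, b = a' 0 1 := ⟨_, rfl⟩
  rw [← hb] at hau
  have hb0 : b ≠ 0 := by
    intro h0
    rw [h0, uni_zero] at hau
    apply ha
    have h1 : a = k * a' * k⁻¹ := by rw [ha']; group
    rw [h1, hau]
    group
  obtain ⟨c, hc⟩ : ∃ c : SS, c = g' * a' * g'⁻¹ := ⟨_, rfl⟩
  have hcomm : Commute c a' := by
    have h1 := h g hg
    have h2 : c = MulAut.conj k⁻¹ (g * a * g⁻¹) := by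
      rw [hc, ha', hg', MulAut.conj_apply]
      group
    have h3 : a' = MulAut.conj k⁻¹ a := by rw [ha', MulAut.conj_apply, inv_inv]
    rw [h2, h3]
    exact h1.map (MulAut.conj k⁻¹).toMonoidHom
  have hcp : c ^ p = 1 := by
    have h1 : c = MulAut.conj g' a' := by rw [hc, MulAut.conj_apply]
    rw [h1, ← map_pow, hap', map_one]
  have hc0 : c 1 0 = 0 := by
    have h1 : (c * a') 0 0 = (a' * c) 0 0 := by rw [hcomm.eq]
    rw [hau] at h1
    simp only [sl_mul_apply, uni, mk_00, mk_01, mk_10, mk_11] at h1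
    have h2 : b * c 1 0 = 0 := by linear_combination -h1
    exact (mul_eq_zero.1 h2).resolve_left hb0
  have hcu := eq_uni hc0 (hone c hc0 hcp)
  have hgc : g' * a' = c * g' := by rw [hc]; group
  have hg0 : g' 1 0 = 0 := by
    rw [hau, hcu] at hgc
    have h1 : (g' * uni b) 1 1 = (uni (c 0 1) * g') 1 1 := by rw [hgc]
    simp only [sl_mul_apply, uni, mk_00, mk_01, mk_10, mk_11] at h1
    have h2 : g' 1 0 * b = 0 := by linear_combination h1
    exact (mul_eq_zero.1 h2).resolve_right hb0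
  have h1 : g' • (∞ : OnePoint F) = ∞ := (sl_smul_infty_eq_iff g').2 hg0
  have h2 : g = k * g' * k⁻¹ := by rw [hg']; group
  rw [h2, mul_smul, mul_smul, inv_smul_smul, h1]

/-- the stabiliser of a point is solvable -/
theorem solvable_of_le_stab {R : Subgroup SS} {x : OnePoint F} (h : R ≤ MulAction.stabilizer SS x) :
    Group.IsSolvable R := by
  obtain ⟨k, rfl⟩ := exists_smul_infty x
  have h0 : ∀ g : R, (k⁻¹ * g * k : SS) 1 0 = 0 := by
    intro g
    rw [← sl_smul_infty_eq_iff, mul_smul, mul_smul, MulAction.mem_stabilizer_iff.1 (h g.2), inv_smul_smul]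
  have hd : ∀ g : R, (k⁻¹ * g * k : SS) 0 0 * (k⁻¹ * g * k : SS) 1 1 = 1 := by
    intro g
    have h1 := det_eq (k⁻¹ * g * k : SS)
    rw [h0 g, mul_zero, sub_zero] at h1
    exact h1
  have hne : ∀ g : R, (k⁻¹ * g * k : SS) 0 0 ≠ 0 := by
    intro g h1
    have h2 := hd g
    rw [h1, zero_mul] at h2
    exact zero_ne_one h2
  have hmul : ∀ g g' : R, (k⁻¹ * (g * g' : R) * k : SS) 0 0 = (k⁻¹ * g * k : SS) 0 0 * (k⁻¹ * g' * k : SS) 0 0 := by
    intro g g'
    have h1 : (k⁻¹ * (g * g' : R) * k : SS) = (k⁻¹ * g * k : SS) * (k⁻¹ * g' * k : SS) := by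
      rw [Subgroup.coe_mul]
      group
    rw [h1, sl_mul_apply, h0 g', mul_zero, add_zero]
  let f : R →* Fˣ :=
    { toFun := fun g => Units.mk0 _ (hne g)
      map_one' := by
        apply Units.ext
        rw [Units.val_mk0, Subgroup.coe_one, mul_one, inv_mul_cancel, sl_one_apply]
        simp
      map_mul' := fun g g' => by
        apply Units.ext
        rw [Units.val_mk0, Units.val_mul, Units.val_mk0, Units.val_mk0]
        exact hmul g g' }
  have hker : ∀ g : f.ker, ∃ b : F, (k⁻¹ * ((g : R) : SS) * k : SS) = uni b := by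
    intro g
    refine ⟨_, eq_uni (h0 g) ?_⟩
    have h1 := congrArg Units.val ((MonoidHom.mem_ker).1 g.2)
    exact h1
  have hcomm : IsMulCommutative f.ker := by
    refine ⟨⟨fun g g' => ?_⟩⟩
    obtain ⟨b, hb⟩ := hker g
    obtain ⟨b', hb'⟩ := hker g'
    apply Subtype.ext
    apply Subtype.ext
    have h1 : ((g : R) : SS) = k * uni b * k⁻¹ := by rw [← hb]; group
    have h2 : ((g' : R) : SS) = k * uni b' * k⁻¹ := by rw [← hb']; group
    have h3 : uni b * uni b' = uni b' * uni b := by rw [← uni_add, ← uni_add, add_comm]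
    show ((g : R) : SS) * ((g' : R) : SS) = ((g' : R) : SS) * ((g : R) : SS)
    rw [h1, h2]
    calc k * uni b * k⁻¹ * (k * uni b' * k⁻¹) = k * (uni b * uni b') * k⁻¹ := by group
      _ = k * (uni b' * uni b) * k⁻¹ := by rw [h3]
      _ = _ := by group
  have h1 : Group.IsSolvable f.ker := Group.isSolvable_of_comm fun x y => hcomm.is_comm.comm x y
  exact Group.isSolvable_of_ker_le_range f.ker.subtype f (by rw [Subgroup.range_subtype])

/-- the shape of an element commuting with a nonscalar one -/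
theorem exists_slope {a b : SS} (ha : (a 0 0 + a 1 1) ^ 2 ≠ 4) (h : Commute b a) :
    ∃ s : F, b 0 1 = s * a 0 1 ∧ b 1 0 = s * a 1 0 ∧ b 0 0 - b 1 1 = s * (a 0 0 - a 1 1) := by
  have e00 : (b * a) 0 0 = (a * b) 0 0 := by rw [h.eq]
  have e01 : (b * a) 0 1 = (a * b) 0 1 := by rw [h.eq]
  have e10 : (b * a) 1 0 = (a * b) 1 0 := by rw [h.eq]
  simp only [sl_mul_apply] at e00 e01 e10
  have hda := det_eq a
  by_cases h01 : a 0 1 = 0
  · by_cases h10 : a 1 0 = 0
    · have hne : a 0 0 - a 1 1 ≠ 0 := by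
        intro h0
        apply ha
        have h1 : a 0 0 = a 1 1 := sub_eq_zero.1 h0
        rw [h01, zero_mul, sub_zero, h1] at hda
        rw [h1]
        linear_combination 4 * hda
      refine ⟨(b 0 0 - b 1 1) / (a 0 0 - a 1 1), ?_, ?_, ?_⟩
      · rw [h01, mul_zero]
        rw [h01] at e01
        have h1 : b 0 1 * (a 0 0 - a 1 1) = 0 := by linear_combination -e01
        exact (mul_eq_zero.1 h1).resolve_right hne
      · rw [h10, mul_zero]
        rw [h10] at e10
        have h1 : b 1 0 * (a 0 0 - a 1 1) = 0 := by linear_combination e10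
        exact (mul_eq_zero.1 h1).resolve_right hne
      · rw [div_mul_cancel₀ _ hne]
    · refine ⟨b 1 0 / a 1 0, ?_, ?_, ?_⟩
      · rw [div_mul_eq_mul_div, eq_div_iff h10]
        linear_combination e00
      · rw [div_mul_cancel₀ _ h10]
      · rw [div_mul_eq_mul_div, eq_div_iff h10]
        linear_combination -e10
  · refine ⟨b 0 1 / a 0 1, ?_, ?_, ?_⟩
    · rw [div_mul_cancel₀ _ h01]
    · rw [div_mul_eq_mul_div, eq_div_iff h01]
      linear_combination -e00
    · rw [div_mul_eq_mul_div, eq_div_iff h01]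
      linear_combination e01

theorem slope_rel {a b : SS} {s : F} (h1 : b 0 1 = s * a 0 1) (h2 : b 1 0 = s * a 1 0)
    (h3 : b 0 0 - b 1 1 = s * (a 0 0 - a 1 1)) :
    (b 0 0 + b 1 1) ^ 2 = s ^ 2 * ((a 0 0 + a 1 1) ^ 2 - 4) + 4 := by
  have hda := det_eq a
  have hdb := det_eq b
  have e1 : (b 0 0 - b 1 1) ^ 2 = s ^ 2 * (a 0 0 - a 1 1) ^ 2 := by rw [h3]; ring
  have e2 : b 0 1 * b 1 0 = s ^ 2 * (a 0 1 * a 1 0) := by rw [h1, h2]; ring
  linear_combination e1 + 4 * e2 - 4 * s ^ 2 * hda + 4 * hdb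

theorem eq_of_slope {a b b' : SS} {s : F} (hF : (2 : F) ≠ 0) (h1 : b 0 1 = s * a 0 1) (h2 : b 1 0 = s * a 1 0)
    (h3 : b 0 0 - b 1 1 = s * (a 0 0 - a 1 1)) (h1' : b' 0 1 = s * a 0 1) (h2' : b' 1 0 = s * a 1 0)
    (h3' : b' 0 0 - b' 1 1 = s * (a 0 0 - a 1 1)) (h4 : b 0 0 + b 1 1 = b' 0 0 + b' 1 1) : b = b' := by
  apply sl_ext
  · apply mul_left_cancel₀ hF
    linear_combination h3 - h3' + h4
  · rw [h1, h1']
  · rw [h2, h2']
  · apply mul_left_cancel₀ hF
    linear_combination -h3 + h3' + h4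

theorem commute_of_commute {a b b' : SS} (ha : (a 0 0 + a 1 1) ^ 2 ≠ 4) (h : Commute b a) (h' : Commute b' a) :
    b * b' = b' * b := by
  obtain ⟨s, h1, h2, h3⟩ := exists_slope ha h
  obtain ⟨s', h1', h2', h3'⟩ := exists_slope ha h'
  have e1 : b 0 0 = b 1 1 + s * (a 0 0 - a 1 1) := by linear_combination h3
  have e1' : b' 0 0 = b' 1 1 + s' * (a 0 0 - a 1 1) := by linear_combination h3'
  apply sl_ext <;> simp only [sl_mul_apply, h1, h2, e1, h1', h2', e1'] <;> ring

theorem eq_or_eq_inv {a b : SS} (hF : (2 : F) ≠ 0) (ha : (a 0 0 + a 1 1) ^ 2 ≠ 4) (h : Commute b a)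
    (ht : b 0 0 + b 1 1 = a 0 0 + a 1 1) : b = a ∨ b = a⁻¹ := by
  obtain ⟨s, h1, h2, h3⟩ := exists_slope ha h
  have h4 := slope_rel h1 h2 h3
  rw [ht] at h4
  have h5 : (s ^ 2 - 1) * ((a 0 0 + a 1 1) ^ 2 - 4) = 0 := by linear_combination -h4
  have h6 : s ^ 2 - 1 = 0 := (mul_eq_zero.1 h5).resolve_right (sub_ne_zero.2 ha)
  have h7 : (s - 1) * (s + 1) = 0 := by linear_combination h6
  rcases mul_eq_zero.1 h7 with h8 | h8
  · left
    have h9 : s = 1 := sub_eq_zero.1 h8
    subst h9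
    apply eq_of_slope hF h1 h2 h3 (by ring) (by ring) (by ring) ht
  · right
    have h9 : s = -1 := eq_neg_of_add_eq_zero_left h8
    subst h9
    rw [eq_inv_iff_mul_eq_one]
    have hda := det_eq a
    have e1 : b 0 0 = a 1 1 := by
      apply mul_left_cancel₀ hF
      linear_combination h3 + ht
    have e2 : b 1 1 = a 0 0 := by
      apply mul_left_cancel₀ hF
      linear_combination -h3 + ht
    apply sl_ext
    · simp only [sl_mul_apply, sl_one_apply, h1, e1]
      simp only [_root_.Fin.isValue, _root_.neg_mul, _root_.one_mul, ↓ _root_.reduceIte]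
      linear_combination hda
    · simp only [sl_mul_apply, sl_one_apply, h1, e1]
      simp only [_root_.Fin.isValue, _root_.neg_mul, _root_.one_mul, _root_.zero_ne_one, ↓ _root_.reduceIte]
      ring
    · simp only [sl_mul_apply, sl_one_apply, h2, e2]
      simp only [_root_.Fin.isValue, _root_.neg_mul, _root_.one_mul, _root_.one_ne_zero, ↓ _root_.reduceIte]
      ring
    · simp only [sl_mul_apply, sl_one_apply, h2, e2]
      simp only [_root_.Fin.isValue, _root_.neg_mul, _root_.one_mul, ↓ _root_.reduceIte]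
      linear_combination hda

/-- the centralizer of a noncentral semisimple element has at most `2q` elements -/
theorem card_centralizer_le {a : SS} (hF : (2 : F) ≠ 0) (ha : (a 0 0 + a 1 1) ^ 2 ≠ 4) :
    Nat.card {b : SS // Commute b a} ≤ 2 * Nat.card F := by
  classical
  have := Fintype.ofFinite F
  have := Fintype.ofFinite {b : SS // Commute b a}
  have hs : ∀ b : {b : SS // Commute b a}, ∃ s : F, (b : SS) 0 1 = s * a 0 1 ∧ (b : SS) 1 0 = s * a 1 0 ∧
      (b : SS) 0 0 - (b : SS) 1 1 = s * (a 0 0 - a 1 1) := fun b => exists_slope ha b.2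
  choose f hf1 hf2 hf3 using hs
  rw [Nat.card_eq_fintype_card, Nat.card_eq_fintype_card, ← Finset.card_univ, ← Finset.card_univ]
  refine Finset.card_le_mul_card_image_of_maps_to (f := f) (fun _ _ => Finset.mem_univ _) 2 ?_
  intro s _
  have h1 : Finset.card (Finset.univ.filter fun b => f b = s) ≤
      Finset.card (Polynomial.nthRoots 2 (s ^ 2 * ((a 0 0 + a 1 1) ^ 2 - 4) + 4)).toFinset := by
    refine Finset.card_le_card_of_injOn (fun b => (b : SS) 0 0 + (b : SS) 1 1) ?_ ?_
    · intro b hb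
      rw [Finset.mem_coe, Finset.mem_filter] at hb
      rw [Finset.mem_coe, Multiset.mem_toFinset, Polynomial.mem_nthRoots (by norm_num)]
      rw [← hb.2]
      exact slope_rel (hf1 b) (hf2 b) (hf3 b)
    · intro b hb b' hb' h
      rw [Finset.mem_coe, Finset.mem_filter] at hb hb'
      apply Subtype.ext
      have e1 := hf1 b'
      have e2 := hf2 b'
      have e3 := hf3 b'
      rw [hb'.2, ← hb.2] at e1 e2 e3
      exact eq_of_slope hF (hf1 b) (hf2 b) (hf3 b) e1 e2 e3 h
  refine h1.trans ((Multiset.toFinset_card_le _).trans (Polynomial.card_nthRoots 2 _))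

/-- **the semisimple case** -/
theorem torus_case {a : SS} (hF : (2 : F) ≠ 0) (ha : (a 0 0 + a 1 1) ^ 2 ≠ 4) {R : Subgroup SS}
    (h : ∀ g ∈ R, Commute (g * a * g⁻¹) a) : Group.IsSolvable R ∧ Nat.card R ≤ 4 * Nat.card F := by
  classical
  have key : ∀ g : R, (g : SS) * a * (g : SS)⁻¹ = a ∨ (g : SS) * a * (g : SS)⁻¹ = a⁻¹ := fun g =>
    eq_or_eq_inv hF ha (h g g.2) (trc_conj _ _)
  constructor
  · let f : R →* ℤˣ :=
      { toFun := fun g => if (g : SS) * a * (g : SS)⁻¹ = a then 1 else -1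
        map_one' := by simp
        map_mul' := by
          intro g g'
          have e : ((g * g' : R) : SS) * a * ((g * g' : R) : SS)⁻¹ =
              (g : SS) * ((g' : SS) * a * (g' : SS)⁻¹) * (g : SS)⁻¹ := by
            rw [Subgroup.coe_mul]
            group
          simp only [e]
          by_cases h2 : (g' : SS) * a * (g' : SS)⁻¹ = a
          · rw [h2, if_pos rfl, mul_one]
          · have h3 := (key g').resolve_left h2
            have hne : a⁻¹ ≠ a := fun h4 => h2 (h3.trans h4)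
            have e2 : (g : SS) * a⁻¹ * (g : SS)⁻¹ = ((g : SS) * a * (g : SS)⁻¹)⁻¹ := by group
            rw [h3, e2, if_neg hne]
            rcases key g with h4 | h4
            · rw [h4, if_neg hne, if_pos rfl, one_mul]
            · rw [h4, inv_inv, if_pos rfl, if_neg hne]
              simp }
    have hk : ∀ g : f.ker, Commute ((g : R) : SS) a := by
      intro g
      have h1 : (if ((g : R) : SS) * a * ((g : R) : SS)⁻¹ = a then (1 : ℤˣ) else -1) = 1 := (MonoidHom.mem_ker).1 g.2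
      by_cases h2 : ((g : R) : SS) * a * ((g : R) : SS)⁻¹ = a
      · exact mul_inv_eq_iff_eq_mul.1 h2
      · rw [if_neg h2] at h1
        exact absurd h1 (by decide)
    have h1 : Group.IsSolvable f.ker := Group.isSolvable_of_comm fun x y => by
      apply Subtype.ext
      apply Subtype.ext
      exact commute_of_commute ha (hk x) (hk y)
    exact Group.isSolvable_of_ker_le_range f.ker.subtype f (by rw [Subgroup.range_subtype])
  · have := Fintype.ofFinite R
    rw [Nat.card_eq_fintype_card, ← Finset.card_univ]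
    have h1 : (Finset.univ : Finset R).card ≤ (2 * Nat.card F) * ({a, a⁻¹} : Finset SS).card := by
      refine Finset.card_le_mul_card_image_of_maps_to (f := fun g : R => (g : SS) * a * (g : SS)⁻¹) ?_ _ ?_
      · intro g _
        rw [Finset.mem_insert, Finset.mem_singleton]
        exact key g
      · intro c _
        by_cases hne : (Finset.univ.filter fun g : R => (g : SS) * a * (g : SS)⁻¹ = c).Nonempty
        · obtain ⟨g0, hg0⟩ := hne
          rw [Finset.mem_filter] at hg0
          refine le_trans ?_ (card_centralizer_le hF ha)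
          have := Fintype.ofFinite {b : SS // Commute b a}
          rw [Nat.card_eq_fintype_card, ← Fintype.card_coe]
          refine Fintype.card_le_of_injective (fun g => ⟨(g0 : SS)⁻¹ * ((g : R) : SS), ?_⟩) ?_
          · have h2 := (Finset.mem_filter.1 g.2).2
            have h3 : ((g : R) : SS) * a * ((g : R) : SS)⁻¹ = (g0 : SS) * a * (g0 : SS)⁻¹ := h2.trans hg0.2.symm
            have h4 : ((g : R) : SS) * a = (g0 : SS) * a * (g0 : SS)⁻¹ * ((g : R) : SS) := by
              rw [← h3]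
              group
            show (g0 : SS)⁻¹ * ((g : R) : SS) * a = a * ((g0 : SS)⁻¹ * ((g : R) : SS))
            rw [mul_assoc, h4]
            group
          · intro x y hxy
            have h2 := congrArg Subtype.val hxy
            have h3 : (g0 : SS)⁻¹ * ((x : R) : SS) = (g0 : SS)⁻¹ * ((y : R) : SS) := h2
            exact Subtype.ext (Subtype.ext (mul_left_cancel h3))
        · rw [Finset.not_nonempty_iff_eq_empty] at hne
          rw [hne]
          simp only [_root_.Finset.card_empty, _root_.zero_le]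
    have h2 : ({a, a⁻¹} : Finset SS).card ≤ 2 := Finset.card_le_two
    calc _ ≤ (2 * Nat.card F) * ({a, a⁻¹} : Finset SS).card := h1
      _ ≤ (2 * Nat.card F) * 2 := Nat.mul_le_mul_left _ h2
      _ = 4 * Nat.card F := by ring

end SL

end Cfsg.Agent.H94.IF
end

-- part: H94/IF/KOneB
section
/-!
# (K1) for S5719, second part: `kOne`
-/

set_option autoImplicit false
set_option linter.unusedSectionVars false

namespace Cfsg.Agent.H94.IF

open Matrix OnePoint
open scoped commutatorElement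
open Cfsg.Agent.ClassicalGeometry.SL2Line Cfsg.Agent.ClassicalGeometry.SL2Borel
open Cfsg.Agent.ClassicalGeometry.MinIndexPSL2

/-- a nontrivial subgroup of odd order normalised by `R` contains a nontrivial abelian subgroup of
odd prime exponent normalised by `R` -/
theorem exists_elem {G : Type*} [Group G] [Finite G] {R N : Subgroup G}
    (hn : ∀ g ∈ R, ∀ x ∈ N, g * x * g⁻¹ ∈ N) (hne : N ≠ ⊥) (hodd : Odd (Nat.card N)) :
    ∃ (r : ℕ) (M : Subgroup G), r.Prime ∧ Odd r ∧ M ≤ N ∧ M ≠ ⊥ ∧ (∀ x ∈ M, x ^ r = 1) ∧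
      (∀ x ∈ M, ∀ y ∈ M, x * y = y * x) ∧ ∀ g ∈ R, ∀ x ∈ M, g * x * g⁻¹ ∈ M := by
  classical
  have hs : Group.IsSolvable N := Cfsg.Agent.S0205.result hodd
  obtain ⟨n, hn0⟩ := hs.solvable
  have hex : ∃ n, derivedSeries N n = ⊥ := ⟨n, hn0⟩
  have hk0 : Nat.find hex ≠ 0 := by
    intro h0
    have h1 := Nat.find_spec hex
    rw [h0, derivedSeries_zero] at h1
    apply hne
    rw [eq_bot_iff]
    intro x hx
    have h2 : (⟨x, hx⟩ : N) ∈ (⊤ : Subgroup N) := Subgroup.mem_top _
    rw [h1, Subgroup.mem_bot] at h2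
    exact congrArg Subtype.val h2
  obtain ⟨k, hk⟩ := Nat.exists_eq_succ_of_ne_zero hk0
  have hD1 : derivedSeries N (k + 1) = ⊥ := by
    have := Nat.find_spec hex
    rwa [hk] at this
  have hD0 : derivedSeries N k ≠ ⊥ := Nat.find_min hex (by omega)
  obtain ⟨D, hD⟩ : ∃ D : Subgroup N, D = derivedSeries N k := ⟨_, rfl⟩
  have hchar : D.Characteristic := by rw [hD]; exact derivedSeries_characteristic N k
  rw [← hD] at hD0
  have hcomm : ∀ x ∈ D, ∀ y ∈ D, x * y = y * x := by
    intro x hx y hy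
    have h1 : ⁅x, y⁆ ∈ derivedSeries N (k + 1) := by
      rw [derivedSeries_succ, ← hD]
      exact Subgroup.commutator_mem_commutator hx hy
    rw [hD1, Subgroup.mem_bot, commutatorElement_eq_one_iff_mul_comm] at h1
    exact h1
  have hcard : Nat.card D ≠ 1 := by
    intro h1
    exact hD0 (Subgroup.card_eq_one.1 h1)
  obtain ⟨r, hr, hrD⟩ := Nat.exists_prime_and_dvd hcard
  have hrodd : Odd r := hodd.of_dvd_nat (hrD.trans (Subgroup.card_subgroup_dvd_card D))
  have : Fact r.Prime := ⟨hr⟩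
  let M' : Subgroup N :=
    { carrier := {x | x ∈ D ∧ x ^ r = 1}
      one_mem' := ⟨D.one_mem, one_pow r⟩
      mul_mem' := by
        rintro x y ⟨hx, hx'⟩ ⟨hy, hy'⟩
        refine ⟨D.mul_mem hx hy, ?_⟩
        rw [(show Commute x y from hcomm x hx y hy).mul_pow, hx', hy', one_mul]
      inv_mem' := by
        rintro x ⟨hx, hx'⟩
        exact ⟨D.inv_mem hx, by rw [inv_pow, hx', inv_one]⟩ }
  refine ⟨r, M'.map N.subtype, hr, hrodd, ?_, ?_, ?_, ?_, ?_⟩
  · rintro _ ⟨x, -, rfl⟩
    exact x.2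
  · intro h1
    obtain ⟨y, hy⟩ := exists_prime_orderOf_dvd_card' (G := D) r hrD
    have h2 : (y : N) ∈ M' := by
      refine ⟨y.2, ?_⟩
      have h3 : y ^ r = 1 := by rw [← hy, pow_orderOf_eq_one]
      exact congrArg Subtype.val h3
    have h3 : ((y : N) : G) ∈ M'.map N.subtype := ⟨y, h2, rfl⟩
    rw [h1, Subgroup.mem_bot] at h3
    have h4 : y = 1 := Subtype.ext (Subtype.ext h3)
    rw [h4, orderOf_one] at hy
    exact hr.one_lt.ne hy
  · rintro _ ⟨x, hx, rfl⟩
    exact congrArg Subtype.val hx.2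
  · rintro _ ⟨x, hx, rfl⟩ _ ⟨y, hy, rfl⟩
    exact congrArg Subtype.val (hcomm x hx.1 y hy.1)
  · rintro g hg _ ⟨x, hx, rfl⟩
    have hg' : g⁻¹ ∈ R := R.inv_mem hg
    let φ : N ≃* N :=
      { toFun := fun x => ⟨g * x * g⁻¹, hn g hg x x.2⟩
        invFun := fun x => ⟨g⁻¹ * x * g⁻¹⁻¹, hn g⁻¹ hg' x x.2⟩
        left_inv := fun x => Subtype.ext (by show g⁻¹ * (g * x * g⁻¹) * g⁻¹⁻¹ = x; group)
        right_inv := fun x => Subtype.ext (by show g * (g⁻¹ * x * g⁻¹⁻¹) * g⁻¹ = x; group)
        map_mul' := fun x y => Subtype.ext (by show g * (x * y) * g⁻¹ = (g * x * g⁻¹) * (g * y * g⁻¹); group) }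
    refine ⟨φ x, ⟨?_, ?_⟩, rfl⟩
    · have h1 : D.map φ.toMonoidHom = D := Subgroup.characteristic_iff_map_eq.1 hchar φ
      rw [← h1]
      exact ⟨x, hx.1, rfl⟩
    · rw [← map_pow, hx.2, map_one]

section PSL

variable {F : Type*} [Field F] [DecidableEq F] [Finite F]

local notation "SS" => SpecialLinearGroup (Fin 2) F
local notation "PP" => Matrix.ProjectiveSpecialLinearGroup (Fin 2) F

attribute [local instance] slLineAction

theorem mem_center_two {z : SS} (hz : z ∈ Subgroup.center SS) : z = 1 ∨ z = -1 := by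
  rw [Matrix.SpecialLinearGroup.mem_center_iff] at hz
  obtain ⟨c, hc, hz⟩ := hz
  have hc' : (c - 1) * (c + 1) = 0 := by
    have : c ^ 2 = 1 := by simpa only [_root_.sq_eq_one_iff, _root_.Fintype.card_fin] using hc
    linear_combination this
  rcases mul_eq_zero.1 hc' with h | h
  · left
    have h1 : c = 1 := sub_eq_zero.1 h
    apply Subtype.ext
    rw [← hz, h1]
    simp
  · right
    have h1 : c = -1 := eq_neg_of_add_eq_zero_left h
    rw [h1] at hz
    have e : ∀ i j, z i j = if i = j then -1 else 0 := by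
      intro i j
      have h2 := congrFun (congrFun hz i) j
      rw [Matrix.scalar_apply, Matrix.diagonal_apply] at h2
      exact h2.symm
    apply sl_ext <;> rw [sl_neg_apply, e, sl_one_apply] <;> simp

theorem neg_one_mem_center : (-1 : SS) ∈ Subgroup.center SS := by
  rw [Subgroup.mem_center_iff]
  intro g
  rw [mul_neg, neg_mul, mul_one, one_mul]

theorem pow_of_trace_two {a : SS} (ht : a 0 0 + a 1 1 = 2) (n : ℕ) :
    (a ^ n) 0 0 = 1 + n * (a 0 0 - 1) ∧ (a ^ n) 0 1 = n * a 0 1 ∧ (a ^ n) 1 0 = n * a 1 0 ∧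
      (a ^ n) 1 1 = 1 + n * (a 1 1 - 1) := by
  have hd := det_eq a
  have e1 : a 1 1 = 2 - a 0 0 := by linear_combination ht
  induction n with
  | zero => simp only [sl_one_apply, _root_.pow_zero, _root_.Fin.isValue, _root_.Cfsg.Agent.ClassicalGeometry.SL2Line.sl_one_apply, ↓ _root_.reduceIte, _root_.Nat.cast_zero, _root_.MulZeroClass.zero_mul, _root_.add_zero, _root_.zero_ne_one, _root_.one_ne_zero, _root_.and_self]
  | succ n ih =>
    obtain ⟨i1, i2, i3, i4⟩ := ih
    rw [e1] at hd i4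
    rw [pow_succ]
    simp only [sl_mul_apply, i1, i2, i3, i4, e1]
    push_cast
    refine ⟨?_, ?_, ?_, ?_⟩
    · linear_combination -n * hd
    · ring
    · ring
    · linear_combination -n * hd

theorem pow_char_of_trace_two {p : ℕ} [CharP F p] {a : SS} (ht : a 0 0 + a 1 1 = 2) : a ^ p = 1 := by
  obtain ⟨i1, i2, i3, i4⟩ := pow_of_trace_two ht p
  have h0 : (p : F) = 0 := CharP.cast_eq_zero F p
  apply sl_ext <;> simp [sl_one_apply, i1, i2, i3, i4, h0]

/-- the two alternatives for an element of odd prime order and a group `R` moving it inside its centralizer -/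
theorem kOne_sl {p : ℕ} [Fact p.Prime] [CharP F p] (hF : (2 : F) ≠ 0) {r : ℕ} (hr : r.Prime) (hro : Odd r) {a : SS}
    (ha1 : a ≠ 1) (har : a ^ r = 1) {R : Subgroup SS} (h : ∀ g ∈ R, Commute (g * a * g⁻¹) a) :
    Group.IsSolvable R ∧ Nat.card F + 1 ≤ R.index := by
  by_cases hrp : r = p
  · rw [hrp] at har
    obtain ⟨x, hx⟩ := borel_case (p := p) ha1 har h
    refine ⟨solvable_of_le_stab hx, ?_⟩
    have h1 : (MulAction.stabilizer SS x).index = Nat.card F + 1 := by
      have := pretransitive (F := F)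
      rw [MulAction.index_stabilizer_of_transitive, card_line]
    rw [← h1]
    exact Nat.le_of_dvd (Nat.pos_of_ne_zero Subgroup.index_ne_zero_of_finite) (Subgroup.index_dvd_of_le hx)
  · have hfr : Fact r.Prime := ⟨hr⟩
    have hord : orderOf a = r := orderOf_eq_prime har ha1
    have hnot : ∀ n : ℕ, a ^ n = 1 → r ∣ n := fun n hn => hord ▸ orderOf_dvd_of_pow_eq_one hn
    have hpp : p.Prime := Fact.out
    have ht : (a 0 0 + a 1 1) ^ 2 ≠ 4 := by
      intro h4
      have h5 : (a 0 0 + a 1 1 - 2) * (a 0 0 + a 1 1 + 2) = 0 := by linear_combination h4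
      rcases mul_eq_zero.1 h5 with h6 | h6
      · have h7 := pow_char_of_trace_two (p := p) (a := a) (by linear_combination h6)
        exact hrp ((Nat.prime_dvd_prime_iff_eq hr hpp).1 (hnot p h7))
      · have h7 := pow_char_of_trace_two (p := p) (a := -a) (by
          rw [sl_neg_apply, sl_neg_apply]
          linear_combination -h6)
        have h8 : a ^ (p * 2) = 1 := by
          have e1 : (-a) ^ (2 * p) = a ^ (2 * p) := (even_two_mul p).neg_pow a
          rw [mul_comm p 2, ← e1, mul_comm 2 p, pow_mul, h7, one_pow]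
        have h9 := hnot _ h8
        rcases (hr.dvd_mul).1 h9 with h10 | h10
        · exact hrp ((Nat.prime_dvd_prime_iff_eq hr hpp).1 h10)
        · have h11 := (Nat.prime_dvd_prime_iff_eq hr Nat.prime_two).1 h10
          rw [h11] at hro
          exact absurd hro (by decide)
    obtain ⟨h1, h2⟩ := torus_case hF ht h
    refine ⟨h1, ?_⟩
    have hc := card_sl2 (F := F)
    have hidx := R.card_mul_index
    rw [hc] at hidx
    have hq : 1 < Nat.card F := Finite.one_lt_card
    -- `q` is odd and at least 5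
    have hq5 : 5 ≤ Nat.card F := by
      have hp2 : p ≠ 2 := by
        rintro rfl
        exact hF (by exact_mod_cast CharP.cast_eq_zero F 2)
      have hdvd : r ∣ Nat.card F * (Nat.card F ^ 2 - 1) := by
        rw [← hc, ← hord]
        exact orderOf_dvd_natCard a
      have := Fintype.ofFinite F
      obtain ⟨n, -, hn⟩ := FiniteField.card F p
      rw [← Nat.card_eq_fintype_card] at hn
      by_contra hlt
      push Not at hlt
      have hpF : p ≤ Nat.card F := by
        rw [hn]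
        exact Nat.le_self_pow n.pos.ne' p
      have hp3 : p = 3 := by
        have h5 := hpp.two_le
        have h6 : p < 5 := by omega
        have h7 : p ≠ 4 := by
          rintro rfl
          exact absurd hpp (by norm_num)
        omega
      subst hp3
      have h3 : Nat.card F = 3 := by
        have h4 : (n : ℕ) = 1 := by
          by_contra hne
          have h5 : 2 ≤ (n : ℕ) := by have := n.pos; omega
          have h6 : 3 ^ 2 ≤ 3 ^ (n : ℕ) := Nat.pow_le_pow_right (by norm_num) h5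
          omega
        rw [hn, h4, pow_one]
      rw [h3] at hdvd
      norm_num at hdvd
      have h4 : r ∣ 3 * 2 ^ 3 := hdvd
      rcases (hr.dvd_mul).1 h4 with h5 | h5
      · exact hrp ((Nat.prime_dvd_prime_iff_eq hr Nat.prime_three).1 h5)
      · have h6 := (Nat.prime_dvd_prime_iff_eq hr Nat.prime_two).1 (hr.dvd_of_dvd_pow h5)
        rw [h6] at hro
        exact absurd hro (by decide)
    generalize Nat.card F = q at *
    by_contra hlt
    push Not at hlt
    have h3 : R.index ≤ q := by omega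
    have h4 : Nat.card R * R.index ≤ 4 * q * q := Nat.mul_le_mul h2 h3
    rw [hidx] at h4
    have h5 : q * (q ^ 2 - 1) ≤ q * (4 * q) := by
      calc _ ≤ 4 * q * q := h4
        _ = _ := by ring
    have h6 : q ^ 2 - 1 ≤ 4 * q := Nat.le_of_mul_le_mul_left h5 (by omega)
    have h7 : 5 * q ≤ q ^ 2 := by nlinarith only [hq5]
    omega

/-- **(K1).** A subgroup `R` of `PSL₂(q)`, `q` odd, which normalises a nontrivial subgroup `N ≤ R` of odd order is
solvable and has index at least `q + 1`. -/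
theorem kOne' (hF : (2 : F) ≠ 0) {R N : Subgroup PP} (hN : N ≤ R) (hn : ∀ g ∈ R, ∀ x ∈ N, g * x * g⁻¹ ∈ N)
    (hne : N ≠ ⊥) (hodd : Odd (Nat.card N)) : Group.IsSolvable R ∧ Nat.card F + 1 ≤ R.index := by
  classical
  obtain ⟨p, hchar⟩ := CharP.exists F
  have hpp : p.Prime := by
    have := Fintype.ofFinite F
    exact CharP.char_is_prime F p
  have : Fact p.Prime := ⟨hpp⟩
  obtain ⟨r, M, hr, hro, hMN, hM, hexp, hcomm, hnM⟩ := exists_elem hn hne hodd
  obtain ⟨x, hx, hx1⟩ : ∃ x ∈ M, x ≠ 1 := by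
    by_contra hcon
    push Not at hcon
    exact hM ((Subgroup.eq_bot_iff_forall M).2 hcon)
  have h11 : (1 : SS) ≠ -1 := by
    intro h
    have h1 : (1 : SS) 0 0 = (-1 : SS) 0 0 := by rw [← h]
    rw [sl_neg_apply, sl_one_apply] at h1
    simp only [if_true] at h1
    apply hF
    linear_combination h1
  -- lift of order `r`
  have hlift : ∃ a : SS, QuotientGroup.mk' (Subgroup.center SS) a = x ∧ a ^ r = 1 := by
    obtain ⟨a0, ha0⟩ := QuotientGroup.mk'_surjective (Subgroup.center SS) x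
    have h1 : a0 ^ r ∈ Subgroup.center SS := by
      rw [← QuotientGroup.eq_one_iff (N := Subgroup.center SS)]
      have h2 : QuotientGroup.mk' (Subgroup.center SS) (a0 ^ r) = 1 := by
        rw [map_pow, ha0]
        exact hexp x hx
      exact h2
    rcases mem_center_two h1 with h2 | h2
    · exact ⟨a0, ha0, h2⟩
    · refine ⟨-a0, ?_, ?_⟩
      · rw [← ha0]
        have h3 : (-a0 : SS) = -1 * a0 := by rw [neg_mul, one_mul]
        rw [h3, map_mul]
        have h4 : QuotientGroup.mk' (Subgroup.center SS) (-1 : SS) = 1 :=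
          (QuotientGroup.eq_one_iff (N := Subgroup.center SS) (-1 : SS)).2 neg_one_mem_center
        rw [h4, one_mul]
      · rw [hro.neg_pow, h2, neg_neg]
  obtain ⟨a, hax, har⟩ := hlift
  have ha1 : a ≠ 1 := by
    rintro rfl
    exact hx1 (by rw [← hax, map_one])
  have key : ∀ g ∈ R.comap (QuotientGroup.mk' (Subgroup.center SS)), Commute (g * a * g⁻¹) a := by
    intro g hg
    have hg' : QuotientGroup.mk' (Subgroup.center SS) g ∈ R := hg
    have h1 := hnM _ hg' x hx
    have h2 := hcomm _ h1 x hx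
    obtain ⟨b, hb⟩ : ∃ b : SS, b = g * a * g⁻¹ := ⟨_, rfl⟩
    have hbr : b ^ r = 1 := by
      have h3 : b = MulAut.conj g a := by rw [hb, MulAut.conj_apply]
      rw [h3, ← map_pow, har, map_one]
    have hbx : QuotientGroup.mk' (Subgroup.center SS) b =
        QuotientGroup.mk' (Subgroup.center SS) g * x * (QuotientGroup.mk' (Subgroup.center SS) g)⁻¹ := by
      rw [hb, map_mul, map_mul, map_inv, hax]
    rw [← hbx, ← hax, ← map_mul, ← map_mul] at h2
    have h3 : (b * a)⁻¹ * (a * b) ∈ Subgroup.center SS := by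
      rw [← QuotientGroup.eq (s := Subgroup.center SS)]
      exact h2
    rw [← hb]
    rcases mem_center_two h3 with h4 | h4
    · exact (inv_mul_eq_one.1 h4)
    · exfalso
      have h5 : a * b = -(b * a) := by
        have h6 : a * b = b * a * ((b * a)⁻¹ * (a * b)) := by group
        rw [h6, h4, mul_neg, mul_one]
      have h6 : a * b * a⁻¹ = -b := by
        rw [h5, neg_mul, mul_inv_cancel_right]
      have h7 : (-b) ^ r = 1 := by
        have h8 : -b = MulAut.conj a b := by rw [MulAut.conj_apply, h6]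
        rw [h8, ← map_pow, hbr, map_one]
      rw [hro.neg_pow, hbr] at h7
      exact h11 h7.symm
  obtain ⟨h1, h2⟩ := kOne_sl (p := p) hF hr hro ha1 har key
  have hsur := QuotientGroup.mk'_surjective (Subgroup.center SS)
  constructor
  · have h3 : (R.comap (QuotientGroup.mk' (Subgroup.center SS))).map (QuotientGroup.mk' (Subgroup.center SS)) = R :=
      Subgroup.map_comap_eq_self_of_surjective hsur R
    let f : R.comap (QuotientGroup.mk' (Subgroup.center SS)) →* R :=
      ((QuotientGroup.mk' (Subgroup.center SS)).comp (Subgroup.subtype _)).codRestrict R fun g => g.2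
    have hf : Function.Surjective f := by
      rintro ⟨y, hy⟩
      obtain ⟨s, rfl⟩ := hsur y
      exact ⟨⟨s, hy⟩, rfl⟩
    exact Group.isSolvable_of_surjective hf
  · rwa [Subgroup.index_comap_of_surjective _ hsur] at h2

end PSL

/-- **(K1)**, without decidability. -/
theorem kOne {F : Type*} [Field F] [Finite F] (hF : (2 : F) ≠ 0)
    {R N : Subgroup (Matrix.ProjectiveSpecialLinearGroup (Fin 2) F)} (hN : N ≤ R)
    (hn : ∀ g ∈ R, ∀ x ∈ N, g * x * g⁻¹ ∈ N) (hne : N ≠ ⊥) (hodd : Odd (Nat.card N)) :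
    Group.IsSolvable R ∧ Nat.card F + 1 ≤ R.index := by
  classical
  exact kOne' hF hN hn hne hodd

end Cfsg.Agent.H94.IF
end
end

-- part: H59/IF/Psl_mg
section
prune_inst 0x311041005c40000000000000000018266c000502004804000c0009440048600000002840098005001822800000000000000000100000000000000000000400000000020411400000000010000000000000000000000000000000000000000000000000000
set_option linter.all false
open scoped Cfsg.Agent.FastGrp

-- part: H59/IF/Core
section
/-!
# S5719, `Ω₇(q)`, `Ω₉(q)`: index lemmas for subgroups of products (helper59)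
-/

set_option autoImplicit false
set_option linter.unusedSectionVars false

namespace Cfsg.Agent.H59.IF

open Subgroup

section prod

variable {G H : Type*} [Group G] [Group H] [Finite G] [Finite H]

/-- `|G × H : X| = |G : X ∩ G| |H : π₂ X|` -/
theorem index_prod (X : Subgroup (G × H)) :
    X.index = (X.comap (MonoidHom.inl G H)).index * (X.map (MonoidHom.snd G H)).index := by
  have h1 : Nat.card X = Nat.card (X.comap (MonoidHom.inl G H)) * Nat.card (X.map (MonoidHom.snd G H)) := by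
    have h2 := ((MonoidHom.snd G H).comp X.subtype).ker.card_eq_card_quotient_mul_card_subgroup
    have h3 : Nat.card (↥X ⧸ ((MonoidHom.snd G H).comp X.subtype).ker) = Nat.card (X.map (MonoidHom.snd G H)) := by
      rw [Nat.card_congr (QuotientGroup.quotientKerEquivRange _).toEquiv, MonoidHom.range_comp, Subgroup.range_subtype]
    have h4 : Nat.card ((MonoidHom.snd G H).comp X.subtype).ker = Nat.card (X.comap (MonoidHom.inl G H)) := by
      refine Nat.card_congr ⟨fun x => ⟨(x : ↥X).1.1, ?_⟩, fun g => ⟨⟨(g.1, 1), g.2⟩, rfl⟩, ?_, ?_⟩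
      · have h5 : (x : ↥X).1.2 = 1 := x.2
        have h6 : ((x : ↥X).1.1, (1 : H)) = (x : ↥X).1 := Prod.ext rfl h5.symm
        rw [Subgroup.mem_comap]
        change ((x : ↥X).1.1, (1 : H)) ∈ X
        rw [h6]
        exact x.1.2
      · intro x
        have h5 : (x : ↥X).1.2 = 1 := x.2
        apply Subtype.ext
        apply Subtype.ext
        exact Prod.ext rfl h5.symm
      · intro g
        rfl
    rw [h2, h3, h4, mul_comm]
  have e1 := X.card_mul_index
  have e2 := (X.comap (MonoidHom.inl G H)).card_mul_index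
  have e3 := (X.map (MonoidHom.snd G H)).card_mul_index
  rw [Nat.card_prod, ← e2, ← e3, h1] at e1
  have hp : 0 < Nat.card (X.comap (MonoidHom.inl G H)) * Nat.card (X.map (MonoidHom.snd G H)) :=
    Nat.mul_pos Nat.card_pos Nat.card_pos
  apply Nat.eq_of_mul_eq_mul_left hp
  rw [e1]
  ring

/-- the other factor -/
theorem index_prod' (X : Subgroup (G × H)) :
    X.index = (X.comap (MonoidHom.inr G H)).index * (X.map (MonoidHom.fst G H)).index := by
  have h := index_prod (X.comap (MulEquiv.prodComm : H × G ≃* G × H).toMonoidHom)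
  have h1 : (X.comap (MulEquiv.prodComm : H × G ≃* G × H).toMonoidHom).index = X.index :=
    Subgroup.index_comap_of_surjective X (MulEquiv.prodComm : H × G ≃* G × H).surjective
  have h2 : (X.comap (MulEquiv.prodComm : H × G ≃* G × H).toMonoidHom).comap (MonoidHom.inl H G) =
      X.comap (MonoidHom.inr G H) := by
    ext x
    exact Iff.rfl
  have h3 : (X.comap (MulEquiv.prodComm : H × G ≃* G × H).toMonoidHom).map (MonoidHom.snd H G) =
      X.map (MonoidHom.fst G H) := by
    ext x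
    constructor
    · rintro ⟨⟨b, a⟩, hy, he⟩
      exact ⟨(a, b), hy, he⟩
    · rintro ⟨⟨a, b⟩, hy, he⟩
      exact ⟨(b, a), hy, he⟩
  rw [h1, h2, h3] at h
  exact h

theorem conj_inr (X : Subgroup (G × H)) {p : H} (hp : p ∈ X.map (MonoidHom.snd G H)) {n : H}
    (hn : n ∈ X.comap (MonoidHom.inr G H)) : p * n * p⁻¹ ∈ X.comap (MonoidHom.inr G H) := by
  obtain ⟨⟨g, p'⟩, hy, rfl⟩ := hp
  have h1 : ((1 : G), n) ∈ X := hn
  have h2 := X.mul_mem (X.mul_mem hy h1) (X.inv_mem hy)
  rw [Subgroup.mem_comap]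
  have h3 : (g, p') * ((1 : G), n) * (g, p')⁻¹ = (1, p' * n * p'⁻¹) := by
    ext
    · simp
    · simp
  rw [h3] at h2
  exact h2

theorem conj_inl (X : Subgroup (G × H)) {p : G} (hp : p ∈ X.map (MonoidHom.fst G H)) {n : G}
    (hn : n ∈ X.comap (MonoidHom.inl G H)) : p * n * p⁻¹ ∈ X.comap (MonoidHom.inl G H) := by
  obtain ⟨⟨p', g⟩, hy, rfl⟩ := hp
  have h1 : (n, (1 : H)) ∈ X := hn
  have h2 := X.mul_mem (X.mul_mem hy h1) (X.inv_mem hy)
  rw [Subgroup.mem_comap]
  have h3 : (p', g) * (n, (1 : H)) * (p', g)⁻¹ = (p' * n * p'⁻¹, 1) := by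
    ext
    · simp
    · simp
  rw [h3] at h2
  exact h2

theorem index_inl_le (X : Subgroup (G × H)) : (X.comap (MonoidHom.inl G H)).index ≤ X.index := by
  rw [index_prod X]
  exact Nat.le_mul_of_pos_right _ (Nat.pos_of_ne_zero (Subgroup.index_ne_zero_of_finite))

theorem index_inr_le (X : Subgroup (G × H)) : (X.comap (MonoidHom.inr G H)).index ≤ X.index := by
  rw [index_prod' X]
  exact Nat.le_mul_of_pos_right _ (Nat.pos_of_ne_zero (Subgroup.index_ne_zero_of_finite))

end prod

/-- an odd order group or an involution -/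
theorem odd_or_inv {L : Type*} [Group L] [Finite L] (N : Subgroup L) :
    Odd (Nat.card N) ∨ ∃ a ∈ N, a ≠ 1 ∧ a * a = 1 := by
  rcases Nat.even_or_odd (Nat.card N) with h | h
  · right
    have : Fact (Nat.Prime 2) := ⟨Nat.prime_two⟩
    obtain ⟨a, ha⟩ := exists_prime_orderOf_dvd_card' 2 h.two_dvd
    refine ⟨a, a.2, ?_, ?_⟩
    · intro h1
      have h2 : a = 1 := Subtype.ext h1
      rw [h2, orderOf_one] at ha
      omega
    · have h2 := pow_orderOf_eq_one a
      rw [ha, pow_two] at h2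
      exact congrArg Subtype.val h2
  · exact Or.inl h

/-- The facts on `L = PSL₂(q)`. -/
structure LFacts (L : Type*) [Group L] (q : ℕ) : Prop where
  /-- a subgroup with a nontrivial normal subgroup of odd order has index at least `q + 1` -/
  k1 : ∀ R M : Subgroup L, M ≤ R → (∀ r ∈ R, ∀ m ∈ M, r * m * r⁻¹ ∈ M) → M ≠ ⊥ → Odd (Nat.card M) → q + 1 ≤ R.index
  card : 2 * Nat.card L = q * (q ^ 2 - 1)

section core

variable {L : Type*} [Group L] [Finite L] {q : ℕ}

theorem LFacts.le_card (h : LFacts L q) (hq : 3 ≤ q) : q + 1 ≤ Nat.card L := by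
  have h1 := h.card
  obtain ⟨m, rfl⟩ : ∃ m, q = m + 3 := ⟨q - 3, by omega⟩
  have h2 : (m + 3) ^ 2 - 1 = m ^ 2 + 6 * m + 8 := by
    have : (m + 3) ^ 2 = m ^ 2 + 6 * m + 9 := by ring
    omega
  rw [h2] at h1
  linarith only [h1, Nat.zero_le (m * m ^ 2), _root_.sq_nonneg (↑m : ℤ), _root_.Nat.cast_nonneg (α := ℤ) (m)]

/-- **(A)** -/
theorem LFacts.claimA (h : LFacts L q) (hq : 3 ≤ q) {Y : Subgroup (L × L)}
    (hY : ∀ a b : L, a ≠ 1 → b ≠ 1 → a * a = 1 → b * b = 1 → (a, b) ∉ Y) : q + 1 ≤ Y.index := by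
  by_contra hcon
  push Not at hcon
  have key : ∀ N : Subgroup L, N.index ≤ Y.index → ∃ a ∈ N, a ≠ 1 ∧ a * a = 1 := by
    intro N hN
    rcases odd_or_inv N with h1 | h1
    · exfalso
      by_cases h2 : N = ⊥
      · have h3 := h.le_card hq
        rw [h2, Subgroup.index_bot] at hN
        omega
      · have h3 := h.k1 N N le_rfl (fun r hr m hm => N.mul_mem (N.mul_mem hr hm) (N.inv_mem hr)) h2 h1
        omega
    · exact h1
  obtain ⟨a, ha, ha1, ha2⟩ := key _ (index_inl_le Y)
  obtain ⟨b, hb, hb1, hb2⟩ := key _ (index_inr_le Y)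
  apply hY a b ha1 hb1 ha2 hb2
  have h3 := Y.mul_mem (show (a, (1 : L)) ∈ Y from ha) (show ((1 : L), b) ∈ Y from hb)
  rwa [Prod.mk_mul_mk, mul_one, one_mul] at h3

/-- **(B)** -/
theorem LFacts.claimB (h : LFacts L q) {G : Type*} [Group G] [Finite G] {X : Subgroup (G × L)}
    (hX : ∀ c : L, c ≠ 1 → c * c = 1 → ((1 : G), c) ∉ X) :
    Nat.card L ≤ X.index ∨ (q + 1) * (X.comap (MonoidHom.inl G L)).index ≤ X.index := by
  have hodd : Odd (Nat.card (X.comap (MonoidHom.inr G L))) := by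
    rcases odd_or_inv (X.comap (MonoidHom.inr G L)) with h1 | ⟨c, hc, h1, h2⟩
    · exact h1
    · exact absurd hc (hX c h1 h2)
  by_cases h2 : X.comap (MonoidHom.inr G L) = ⊥
  · left
    have h3 := index_inr_le X
    rwa [h2, Subgroup.index_bot] at h3
  · right
    have h3 : X.comap (MonoidHom.inr G L) ≤ X.map (MonoidHom.snd G L) := by
      intro n hn
      exact ⟨(1, n), hn, rfl⟩
    have h4 := h.k1 _ _ h3 (fun r hr m hm => conj_inr X hr hm) h2 hodd
    rw [index_prod X, mul_comm]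
    exact Nat.mul_le_mul_left _ h4

/-- **(C)** -/
theorem LFacts.claimC (h : LFacts L q) {Y : Subgroup (L × L)}
    (hY : ∀ a b : L, a ≠ 1 → b ≠ 1 → a * a = 1 → b * b = 1 → (a, b) ∉ Y)
    (hc : Y.index < Nat.card L) :
    (Odd (Nat.card (Y.comap (MonoidHom.inr L L))) ∧ (q + 1) * (Y.comap (MonoidHom.inl L L)).index ≤ Y.index) ∨
    (Odd (Nat.card (Y.comap (MonoidHom.inl L L))) ∧ (q + 1) * (Y.comap (MonoidHom.inr L L)).index ≤ Y.index) := by
  rcases odd_or_inv (Y.comap (MonoidHom.inr L L)) with h1 | ⟨b, hb, hb1, hb2⟩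
  · left
    refine ⟨h1, ?_⟩
    by_cases h2 : Y.comap (MonoidHom.inr L L) = ⊥
    · exfalso
      have h3 := index_inr_le Y
      rw [h2, Subgroup.index_bot] at h3
      omega
    · have h3 : Y.comap (MonoidHom.inr L L) ≤ Y.map (MonoidHom.snd L L) := by
        intro n hn
        exact ⟨(1, n), hn, rfl⟩
      have h4 := h.k1 _ _ h3 (fun r hr m hm => conj_inr Y hr hm) h2 h1
      conv_rhs => rw [index_prod Y, mul_comm]
      exact Nat.mul_le_mul_right _ h4
  · rcases odd_or_inv (Y.comap (MonoidHom.inl L L)) with h1 | ⟨a, ha, ha1, ha2⟩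
    · right
      refine ⟨h1, ?_⟩
      by_cases h2 : Y.comap (MonoidHom.inl L L) = ⊥
      · exfalso
        have h3 := index_inl_le Y
        rw [h2, Subgroup.index_bot] at h3
        omega
      · have h3 : Y.comap (MonoidHom.inl L L) ≤ Y.map (MonoidHom.fst L L) := by
          intro n hn
          exact ⟨(n, 1), hn, rfl⟩
        have h4 := h.k1 _ _ h3 (fun r hr m hm => conj_inl Y hr hm) h2 h1
        conv_rhs => rw [index_prod' Y, mul_comm]
        exact Nat.mul_le_mul_right _ h4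
    · exfalso
      apply hY a b ha1 hb1 ha2 hb2
      have h3 := Y.mul_mem (show (a, (1 : L)) ∈ Y from ha) (show ((1 : L), b) ∈ Y from hb)
      rwa [Prod.mk_mul_mk, mul_one, one_mul] at h3

end core

end Cfsg.Agent.H59.IF
end

-- part: H59/IF/Core7
section
/-!
# S5719, `Ω₇(q)`: the numerical part for subgroups of `(L × L) × L`, `L = PSL₂(q)` (helper59)
-/

set_option autoImplicit false
set_option linter.unusedSectionVars false

namespace Cfsg.Agent.H59.IF

open Subgroup

theorem num_a {q : ℕ} (hq : 5 ≤ q) : 16 * (q ^ 6 * (q ^ 2 + 1) * (q ^ 4 + q ^ 2 + 1)) ≤ (q * (q ^ 2 - 1)) ^ 5 := by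
  obtain ⟨m, rfl⟩ : ∃ m, q = m + 5 := ⟨q - 5, by omega⟩
  have h1 : (m + 5) ^ 2 - 1 = m ^ 2 + 10 * m + 24 := by
    have : (m + 5) ^ 2 = m ^ 2 + 10 * m + 25 := by ring
    omega
  rw [h1]
  have h2 : (16 * ((m + 5) ^ 6 * ((m + 5) ^ 2 + 1) * ((m + 5) ^ 4 + (m + 5) ^ 2 + 1)) : ℤ) ≤
      (((m : ℤ) + 5) * ((m : ℤ) ^ 2 + 10 * m + 24)) ^ 5 := by
    rw [← sub_nonneg]
    ring_nf
    (clear * -; positivity)
  exact_mod_cast h2

theorem num_b {q : ℕ} (h5 : 5 ≤ q) (h : q ≤ 11) :
    q ^ 6 * (q ^ 2 + 1) * (q ^ 4 + q ^ 2 + 1) ≤ 2 * (3 * (q + 1) ^ 2) ^ 5 := by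
  interval_cases q <;> norm_num

theorem num_c {q : ℕ} (hq : 5 ≤ q) :
    q ^ 6 * (q ^ 2 + 1) * (q ^ 4 + q ^ 2 + 1) ≤ 2 * ((q + 1) * (q + 1) ^ 2) ^ 5 := by
  obtain ⟨m, rfl⟩ : ∃ m, q = m + 5 := ⟨q - 5, by omega⟩
  have h2 : (((m : ℤ) + 5) ^ 6 * (((m : ℤ) + 5) ^ 2 + 1) * (((m : ℤ) + 5) ^ 4 + ((m : ℤ) + 5) ^ 2 + 1)) ≤
      2 * (((m : ℤ) + 5 + 1) * ((m : ℤ) + 5 + 1) ^ 2) ^ 5 := by
    rw [← sub_nonneg]
    ring_nf
    (clear * -; positivity)
  exact_mod_cast h2

theorem num_d {q : ℕ} : (q ^ 6 * (q ^ 2 + 1) * (q ^ 4 + q ^ 2 + 1)) ≤ (q ^ 2 + 1) * ((q + 1) ^ 2) ^ 5 := by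
  have h2 : ((q : ℤ) ^ 6 * ((q : ℤ) ^ 2 + 1) * ((q : ℤ) ^ 4 + (q : ℤ) ^ 2 + 1)) ≤
      ((q : ℤ) ^ 2 + 1) * (((q : ℤ) + 1) ^ 2) ^ 5 := by
    rw [← sub_nonneg]
    ring_nf
    (clear * -; positivity)
  exact_mod_cast h2

variable {L : Type*} [Group L] [Finite L] {q : ℕ}

/-- **The numerical part of the case `N = 7`.** -/
theorem LFacts.core7 (h : LFacts L q) (hq : q = 3 ∨ 5 ≤ q) (hm3 : 5 ≤ q → ∀ N : Subgroup L, N ≠ ⊤ → 3 ≤ N.index)
    (hm : 12 ≤ q → ∀ N : Subgroup L, N ≠ ⊤ → q + 1 ≤ N.index) (X : Subgroup ((L × L) × L))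
    (hX1 : ∀ c : L, c ≠ 1 → c * c = 1 → ((1 : L × L), c) ∉ X)
    (hX2 : ∀ a b : L, a ≠ 1 → b ≠ 1 → a * a = 1 → b * b = 1 → ((a, b), (1 : L)) ∉ X)
    (hb : 2 * X.index ^ 5 < q ^ 6 * (q ^ 2 + 1) * (q ^ 4 + q ^ 2 + 1)) :
    (q = 3 ∧ 12 ≤ X.index) ∨ (5 ≤ q ∧ (q + 1) ^ 2 ≤ X.index ∧
      ((∀ a : L, ((a, (1 : L)), (1 : L)) ∈ X) ∨ ∀ b : L, (((1 : L), b), (1 : L)) ∈ X)) := by
  set Y := X.comap (MonoidHom.inl (L × L) L) with hYdef
  have hY : ∀ a b : L, a ≠ 1 → b ≠ 1 → a * a = 1 → b * b = 1 → (a, b) ∉ Y := fun a b h1 h2 h3 h4 h5 =>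
    hX2 a b h1 h2 h3 h4 h5
  have hA := h.claimA (by omega) hY
  have hB : Nat.card L ≤ X.index ∨ (q + 1) * Y.index ≤ X.index := h.claimB (X := X) hX1
  rcases hq with rfl | hq
  · left
    refine ⟨rfl, ?_⟩
    have h1 := h.card
    norm_num at h1
    rcases hB with h2 | h2
    · omega
    · have h3 : (3 + 1) * (3 + 1) ≤ (3 + 1) * Y.index := Nat.mul_le_mul_left _ hA
      omega
  · right
    have hlt : X.index < Nat.card L := by
      by_contra hcon
      push Not at hcon
      have h1 := h.card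
      have h2 : (q * (q ^ 2 - 1)) ^ 5 ≤ (2 * X.index) ^ 5 := by
        rw [← h1]
        exact Nat.pow_le_pow_left (Nat.mul_le_mul_left _ hcon) 5
      have h3 := num_a hq
      have h4 : (2 * X.index) ^ 5 = 32 * X.index ^ 5 := by rw [mul_pow]; norm_num
      omega
    have hB' : (q + 1) * Y.index ≤ X.index := by
      rcases hB with h1 | h1
      · omega
      · exact h1
    have h1 : (q + 1) ^ 2 ≤ X.index := by
      refine le_trans ?_ hB'
      rw [pow_two]
      exact Nat.mul_le_mul_left _ hA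
    refine ⟨hq, h1, ?_⟩
    have hYlt : Y.index < Nat.card L := by
      have h2 : Y.index ≤ (q + 1) * Y.index := Nat.le_mul_of_pos_left _ (by omega)
      omega
    have key : ∀ N : Subgroup L, (q + 1) * N.index ≤ Y.index → N = ⊤ := by
      intro N hN
      by_contra hne
      have h2 : (q + 1) ^ 2 * N.index ≤ X.index := by
        refine le_trans ?_ hB'
        rw [pow_two, mul_assoc]
        exact Nat.mul_le_mul_left _ hN
      rcases Nat.lt_or_ge q 12 with h12 | h12
      · have h3 := hm3 hq N hne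
        have h4 : 3 * (q + 1) ^ 2 ≤ X.index := by
          refine le_trans ?_ h2
          rw [mul_comm]
          exact Nat.mul_le_mul_left _ h3
        have h5 := Nat.pow_le_pow_left h4 5
        have h6 := num_b hq (by omega)
        omega
      · have h3 := hm h12 N hne
        have h4 : (q + 1) * (q + 1) ^ 2 ≤ X.index := by
          refine le_trans ?_ h2
          rw [mul_comm]
          exact Nat.mul_le_mul_left _ h3
        have h5 := Nat.pow_le_pow_left h4 5
        have h6 := num_c hq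
        omega
    rcases h.claimC hY hYlt with ⟨-, h2⟩ | ⟨-, h2⟩
    · left
      intro a
      have h3 := key _ h2
      have h4 : a ∈ Y.comap (MonoidHom.inl L L) := by rw [h3]; exact mem_top _
      exact h4
    · right
      intro b
      have h3 := key _ h2
      have h4 : b ∈ Y.comap (MonoidHom.inr L L) := by rw [h3]; exact mem_top _
      exact h4

end Cfsg.Agent.H59.IF
end

-- part: H59/IF/Psl
section
/-!
# S5719, `Ω₇(q)`, `Ω₉(q)`: the facts on `PSL₂(q)` and the transfer to `SL₂ × SL₂ (× SL₂)` (helper59)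
-/

set_option autoImplicit false
set_option linter.unusedSectionVars false

namespace Cfsg.Agent.H59.IF

open Subgroup Matrix
open Cfsg.Agent.H198.IF (neg₂)

variable {F : Type*} [Field F]

/-- `SL₂` -/
abbrev SS (F : Type*) [Field F] := _root_.Matrix.SpecialLinearGroup (Fin 2) F

/-- `PSL₂` -/
abbrev LL (F : Type*) [Field F] := Matrix.ProjectiveSpecialLinearGroup (Fin 2) F

/-- the projection -/
def pr (F : Type*) [Field F] : SS F →* LL F := QuotientGroup.mk' (Subgroup.center (SS F))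

theorem pr_surj : Function.Surjective (pr F) := QuotientGroup.mk'_surjective _

theorem neg₂_eq : neg₂ F = -1 := by
  apply Subtype.ext
  rfl

theorem pr_neg : pr F (neg₂ F) = 1 := by
  rw [neg₂_eq]
  exact (QuotientGroup.eq_one_iff _).2 S0806.neg_one_mem_center

theorem pr_eq_one {s : SS F} (h : pr F s = 1) : s = 1 ∨ s = neg₂ F := by
  have h1 : s ∈ Subgroup.center (SS F) := (QuotientGroup.eq_one_iff _).1 h
  obtain ⟨r, hr, hs⟩ := Matrix.SpecialLinearGroup.mem_center_iff.1 h1
  rw [Fintype.card_fin] at hr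
  have h3 : (r - 1) * (r + 1) = 0 := by linear_combination hr
  rcases mul_eq_zero.1 h3 with h4 | h4
  · left
    apply Subtype.ext
    rw [← hs, sub_eq_zero.1 h4]
    simp
  · right
    apply Subtype.ext
    rw [← hs, eq_neg_of_add_eq_zero_left h4]
    ext i j
    (revert i j; simp only [neg₂, _root_.Fin.forall_fin_succ, _root_.Matrix.scalar_apply, _root_.Matrix.neg_apply, Fin.isValue, _root_.Fin.succ_zero_eq_one, _root_.IsEmpty.forall_iff, _root_.and_true, _root_.Matrix.diagonal_apply_eq, _root_.Matrix.one_apply_eq, _root_.ne_eq, _root_.zero_ne_one, _root_.not_false_eq_true, _root_.Matrix.diagonal_apply_ne, Nat.reduceAdd, _root_.Matrix.one_apply_ne, _root_.neg_zero, _root_.and_self, _root_.Fin.succ_ne_zero, _root_.true_and])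

/-- an involution of `PSL₂` comes from an element of square `-1` -/
theorem inv_lift (h2 : (2 : F) ≠ 0) {a : LL F} (ha : a ≠ 1) (ha2 : a * a = 1) :
    ∃ c : SS F, pr F c = a ∧ c * c = neg₂ F := by
  obtain ⟨c, rfl⟩ := pr_surj a
  refine ⟨c, rfl, ?_⟩
  rw [← map_mul] at ha2
  rcases pr_eq_one ha2 with h | h
  · exfalso
    rcases Cfsg.Agent.ClassicalGeometry.SLTwoFour.eq_one_or_neg_one_of_mul_self h2 c h with h3 | h3
    · exact ha (by rw [h3, map_one])
    · exact ha (by rw [h3, ← neg₂_eq, pr_neg])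
  · exact h

variable [Finite F]

theorem two_ne_zero_iff' (F : Type*) [Field F] [Fintype F] : (2 : F) ≠ 0 ↔ Odd (Fintype.card F) :=
  Cfsg.Agent.ClassicalGeometry.PSL2Basic.two_ne_zero_iff_odd F

theorem lfacts (h2 : (2 : F) ≠ 0) : LFacts (LL F) (Nat.card F) where
  k1 R M h1 h3 h4 h5 := (H94.IF.kOne h2 h1 h3 h4 h5).2
  card := by
    have := Fintype.ofFinite F
    have h3 := Cfsg.Agent.ClassicalGeometry.PSL2Basic.card_PSL2_odd F ((two_ne_zero_iff' F).1 h2)
    rw [Nat.card_eq_fintype_card (α := F), mul_comm, h3]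

theorem q_cases (h2 : (2 : F) ≠ 0) : Nat.card F = 3 ∨ 5 ≤ Nat.card F := by
  have := Fintype.ofFinite F
  have h3 := (two_ne_zero_iff' F).1 h2
  rw [← Nat.card_eq_fintype_card] at h3
  have h4 : 1 < Nat.card F := Finite.one_lt_card
  obtain ⟨m, hm⟩ := h3
  omega

theorem index_three (h2 : (2 : F) ≠ 0) (h5 : 5 ≤ Nat.card F) {N : Subgroup (LL F)} (hN : N ≠ ⊤) : 3 ≤ N.index := by
  have := Fintype.ofFinite F
  have : Finite (LL F) := Quotient.finite _
  have hs : IsSimpleGroup (LL F) := TwoFusion.SLTwoFacts.isSimpleGroup_psl (by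
    rw [← Nat.card_eq_fintype_card]
    omega)
  have h1 : N.index ≠ 1 := fun h => hN (Subgroup.index_eq_one.1 h)
  have h0 : N.index ≠ 0 := Subgroup.index_ne_zero_of_finite
  have h3 : N.index ≠ 2 := by
    intro h
    have hn := Subgroup.normal_of_index_eq_two h
    rcases hs.eq_bot_or_eq_top_of_normal N hn with h4 | h4
    · rw [h4, Subgroup.index_bot] at h
      have h6 := (lfacts h2).le_card (q := Nat.card F) (by omega)
      omega
    · exact hN h4
  omega

theorem index_min (h12 : 12 ≤ Nat.card F) {N : Subgroup (LL F)} (hN : N ≠ ⊤) : Nat.card F + 1 ≤ N.index := by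
  have := Fintype.ofFinite F
  by_contra hcon
  push Not at hcon
  rcases S0806.main_le N hN (by omega) with h | h | h <;> omega

section tr

variable {G H : Type*} [Group G] [Group H] (f : G →* H) {X : Subgroup G}

theorem map_mem (hk : f.ker ≤ X) {g : G} (h : f g ∈ X.map f) : g ∈ X := by
  obtain ⟨x, hx, he⟩ := h
  have h1 : x⁻¹ * g ∈ f.ker := by
    rw [MonoidHom.mem_ker, map_mul, map_inv, he, inv_mul_cancel]
  have h3 := X.mul_mem hx (hk h1)
  rwa [mul_inv_cancel_left] at h3

theorem map_index (hf : Function.Surjective f) (hk : f.ker ≤ X) : (X.map f).index = X.index := by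
  rw [Subgroup.index_map, sup_eq_left.2 hk, MonoidHom.range_eq_top.2 hf, Subgroup.index_top, mul_one]

end tr

/-- **(A) for `SL₂ × SL₂`** -/
theorem ss_index (h2 : (2 : F) ≠ 0) (X : Subgroup (_root_.Matrix.SpecialLinearGroup (Fin 2) F × _root_.Matrix.SpecialLinearGroup (Fin 2) F))
    (hc : (neg₂ F, 1) ∈ X) (hc' : (1, neg₂ F) ∈ X) (hno : ∀ a b, a * a = neg₂ F → b * b = neg₂ F → (a, b) ∉ X) :
    Nat.card F + 1 ≤ X.index := by
  have : Finite (LL F) := Quotient.finite _
  set f : SS F × SS F →* LL F × LL F := (pr F).prodMap (pr F) with hf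
  have hsurj : Function.Surjective f := Function.Surjective.prodMap pr_surj pr_surj
  have hk : f.ker ≤ X := by
    rintro ⟨a, b⟩ h
    have h1 : (pr F a, pr F b) = 1 := h
    have h3 : (a, b) = (a, 1) * (1, b) := by rw [Prod.mk_mul_mk, one_mul, mul_one]
    rw [h3]
    refine X.mul_mem ?_ ?_
    · rcases pr_eq_one (congrArg Prod.fst h1) with h4 | h4
      · rw [h4]; exact X.one_mem
      · rw [h4]; exact hc
    · rcases pr_eq_one (congrArg Prod.snd h1) with h4 | h4
      · rw [h4]; exact X.one_mem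
      · rw [h4]; exact hc'
  rw [← map_index f hsurj hk]
  refine (lfacts h2).claimA (by have := q_cases h2; omega) ?_
  intro a b ha hb ha2 hb2 hab
  obtain ⟨c, rfl, hc⟩ := inv_lift h2 ha ha2
  obtain ⟨d, rfl, hd⟩ := inv_lift h2 hb hb2
  exact hno c d hc hd (map_mem f hk (g := (c, d)) hab)

/-- **the numerical part of `N = 7`, for `SL₂ × SL₂ × SL₂`** -/
theorem sss_core (h2 : (2 : F) ≠ 0) (X : Subgroup ((SS F × SS F) × SS F))
    (z1 : ((neg₂ F, 1), 1) ∈ X) (z2 : ((1, neg₂ F), 1) ∈ X) (z3 : ((1, 1), neg₂ F) ∈ X)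
    (hX1 : ∀ c : SS F, c * c = neg₂ F → ((1, 1), c) ∉ X)
    (hX2 : ∀ a b : SS F, a * a = neg₂ F → b * b = neg₂ F → ((a, b), 1) ∉ X)
    (hb : 2 * X.index ^ 5 < Nat.card F ^ 6 * (Nat.card F ^ 2 + 1) * (Nat.card F ^ 4 + Nat.card F ^ 2 + 1)) :
    (Nat.card F = 3 ∧ 12 ≤ X.index) ∨ (5 ≤ Nat.card F ∧ (Nat.card F + 1) ^ 2 ≤ X.index ∧
      ((∀ a : SS F, ((a, 1), 1) ∈ X) ∨ ∀ b : SS F, ((1, b), 1) ∈ X)) := by
  have : Finite (LL F) := Quotient.finite _
  set f : (SS F × SS F) × SS F →* (LL F × LL F) × LL F := ((pr F).prodMap (pr F)).prodMap (pr F) with hf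
  have hsurj : Function.Surjective f :=
    Function.Surjective.prodMap (Function.Surjective.prodMap pr_surj pr_surj) pr_surj
  have hk : f.ker ≤ X := by
    rintro ⟨⟨a, b⟩, c⟩ h
    have h1 : ((pr F a, pr F b), pr F c) = 1 := h
    have h3 : ((a, b), c) = ((a, 1), 1) * ((1, b), 1) * ((1, 1), c) := by
      simp only [Prod.mk_mul_mk, one_mul, mul_one]
    rw [h3]
    have hab : (pr F a, pr F b) = 1 := congrArg Prod.fst h1
    refine X.mul_mem (X.mul_mem ?_ ?_) ?_
    · rcases pr_eq_one (congrArg Prod.fst hab) with h4 | h4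
      · rw [h4]; exact X.one_mem
      · rw [h4]; exact z1
    · rcases pr_eq_one (congrArg Prod.snd hab) with h4 | h4
      · rw [h4]; exact X.one_mem
      · rw [h4]; exact z2
    · rcases pr_eq_one (congrArg Prod.snd h1) with h4 | h4
      · rw [h4]; exact X.one_mem
      · rw [h4]; exact z3
  rw [← map_index f hsurj hk] at hb ⊢
  have key := (lfacts h2).core7 (q_cases h2) (fun h5 N hN => index_three h2 h5 hN) (fun h12 N hN => index_min h12 hN)
    (X.map f) ?_ ?_ hb
  · rcases key with h | ⟨h1, h3, h4⟩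
    · exact Or.inl h
    · refine Or.inr ⟨h1, h3, ?_⟩
      rcases h4 with h4 | h4
      · left
        intro a
        refine map_mem f hk (g := ((a, 1), 1)) ?_
        have h5 := h4 (pr F a)
        have h6 : f ((a, 1), 1) = ((pr F a, 1), 1) := rfl
        rw [h6]
        exact h5
      · right
        intro b
        refine map_mem f hk (g := ((1, b), 1)) ?_
        have h5 := h4 (pr F b)
        have h6 : f ((1, b), 1) = ((1, pr F b), 1) := rfl
        rw [h6]
        exact h5
  · intro c hc hc2 hcX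
    obtain ⟨d, rfl, hd⟩ := inv_lift h2 hc hc2
    exact hX1 d hd (map_mem f hk (g := ((1, 1), d)) hcX)
  · intro a b ha hb ha2 hb2 hab
    obtain ⟨c, rfl, hc⟩ := inv_lift h2 ha ha2
    obtain ⟨d, rfl, hd⟩ := inv_lift h2 hb hb2
    exact hX2 c d hc hd (map_mem f hk (g := ((c, d), 1)) hab)

end Cfsg.Agent.H59.IF
end

-- part: H198/IF/Step
section
/-!
# S5719, orthogonal groups, `q` odd: the step of the end game (helper198)

For a fundamental involution `z` with fixed space `U`: `extE : E (Q|U) →* E Q`; with the minimal index of `E (Q|U)` and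
the class bound, `π z ∈ A` forces `E (Q|U) ≤ X = π⁻¹ A` (dimension at least 15).
-/

set_option autoImplicit false
set_option linter.unusedSectionVars false

namespace Cfsg.Agent.H198.IF

open QuadraticMap Matrix Module
open Cfsg.Agent.LieClassical.OrthCore Cfsg.Agent.LieClassical.OrthTrans Cfsg.Agent.LieClassical.OrthSimple
open Cfsg.Agent.H989.Gs.Gen
open Cfsg.Agent.H989.Fx (Fund fund_ap fund_of_four)
open Cfsg.Agent.UGT.U2.FOne.Orth (Four tl)
open Cfsg.Agent.H112.Row2.OrthExt (QU QU_apply polar_QU ext ext_left ext_right ext_siegel extE coe_extE)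
open Cfsg.Agent.H209.Fxy (IF)

variable {F V : Type*} [Field F] [AddCommGroup V] [Module F V] {Q : QuadraticForm F V}

/-- the fixed space -/
def Fix (z : ↥(E Q)) : Submodule F V where
  carrier := {v | ap z v = v}
  add_mem' {a b} ha hb := by
    change ap z (a + b) = a + b
    rw [ap_add]
    exact congrArg₂ _ ha hb
  zero_mem' := map_zero _
  smul_mem' c a ha := by
    change ap z (c • a) = c • a
    rw [ap_smul]
    exact congrArg _ ha

theorem mem_Fix {z : ↥(E Q)} {v : V} : v ∈ Fix z ↔ ap z v = v := Iff.rfl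

/-- the `-1` space -/
def Neg (z : ↥(E Q)) : Submodule F V where
  carrier := {v | ap z v = -v}
  add_mem' {a b} ha hb := by
    change ap z (a + b) = -(a + b)
    rw [ap_add, neg_add]
    exact congrArg₂ _ ha hb
  zero_mem' := (map_zero _).trans neg_zero.symm
  smul_mem' c a ha := by
    change ap z (c • a) = -(c • a)
    rw [ap_smul, ← smul_neg]
    exact congrArg _ ha

theorem mem_Neg {z : ↥(E Q)} {v : V} : v ∈ Neg z ↔ ap z v = -v := Iff.rfl

section

variable (h2 : (2 : F) ≠ 0) {z : ↥(E Q)} (hz : z * z = 1)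

include h2 in
theorem isCompl (hz : z * z = 1) : IsCompl (Fix z) (Neg z) := by
  have hzz : ∀ v, ap z (ap z v) = v := fun v => by rw [← ap_mul, hz, ap_one]
  constructor
  · rw [Submodule.disjoint_def]
    intro v h1 h3
    rw [mem_Fix] at h1
    rw [mem_Neg, h1] at h3
    have h4 : (2 : F) • v = 0 := by rw [two_smul]; nth_rewrite 2 [h3]; exact add_neg_cancel v
    exact (smul_eq_zero.1 h4).resolve_left h2
  · rw [codisjoint_iff, eq_top_iff]
    intro v _
    have h1 : v = (2 : F)⁻¹ • (v + ap z v) + (2 : F)⁻¹ • (v - ap z v) := by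
      rw [← smul_add]
      have : v + ap z v + (v - ap z v) = (2 : F) • v := by rw [two_smul]; abel
      rw [this, smul_smul, inv_mul_cancel₀ h2, one_smul]
    rw [h1]
    refine Submodule.add_mem_sup (Submodule.smul_mem _ _ ?_) (Submodule.smul_mem _ _ ?_)
    · rw [mem_Fix, ap_add, hzz, add_comm]
    · rw [mem_Neg, ap_sub, hzz, neg_sub]

include h2 in
theorem orth : ∀ u ∈ Fix z, ∀ w ∈ Neg z, polar Q u w = 0 := by
  intro u hu w hw
  have h1 := polar_ap z u w
  rw [mem_Fix] at hu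
  rw [mem_Neg] at hw
  rw [hu, hw, polar_neg_right] at h1
  have h3 : (2 : F) * polar Q u w = 0 := by linear_combination -h1
  exact (mul_eq_zero.1 h3).resolve_left h2

end

theorem nondeg_QU (hQ : Nondeg Q) {U W : Submodule F V} (h : IsCompl U W) (ho : ∀ u ∈ U, ∀ w ∈ W, polar Q u w = 0) :
    Nondeg (QU Q U) := by
  intro x hx
  apply Subtype.ext
  apply hQ
  intro y
  obtain ⟨u, w, rfl⟩ := H112.Row2.OrthExt.exists_dec h y
  rw [polar_add_right, ho _ x.2 _ w.2, add_zero, ← polar_QU]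
  exact hx u

theorem fund_basis {z : ↥(E Q)} {e₁ f₁ e₂ f₂ : V} (h : Four Q e₁ f₁ e₂ f₂) (h1 : ap z e₁ = -e₁)
    (h2 : ap z f₁ = -f₁) (h3 : ap z e₂ = -e₂) (h4 : ap z f₂ = -f₂)
    (h5 : ∀ v, polar Q e₁ v = 0 → polar Q f₁ v = 0 → polar Q e₂ v = 0 → polar Q f₂ v = 0 → ap z v = v)
    (h2' : (2 : F) ≠ 0) {v : V} (hv : v ∈ Fix z) :
    polar Q e₁ v = 0 ∧ polar Q f₁ v = 0 ∧ polar Q e₂ v = 0 ∧ polar Q f₂ v = 0 := by
  have key : ∀ e, ap z e = -e → polar Q e v = 0 := by
    intro e he
    rw [polar_comm]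
    exact orth h2' v hv e he
  exact ⟨key _ h1, key _ h2, key _ h3, key _ h4⟩

/-- the fixed space of a fundamental involution has codimension 4 -/
theorem finrank_Fix [FiniteDimensional F V] (h2' : (2 : F) ≠ 0) {z : ↥(E Q)} (hz : Fund Q z) :
    finrank F (Fix z) + 4 = finrank F V := by
  obtain ⟨e₁, f₁, e₂, f₂, h, h1, h2, h3, h4, h5⟩ := hz
  let L : V →ₗ[F] (F × F) × (F × F) :=
    ((polarBilin Q f₁).prod (polarBilin Q e₁)).prod ((polarBilin Q f₂).prod (polarBilin Q e₂))
  have hL : ∀ v, L v = ((polar Q f₁ v, polar Q e₁ v), (polar Q f₂ v, polar Q e₂ v)) := fun v => rfl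
  have hker : LinearMap.ker L = Fix z := by
    ext v
    rw [LinearMap.mem_ker, hL]
    constructor
    · intro hv
      simp only [Prod.mk_eq_zero] at hv
      exact h5 v hv.1.2 hv.1.1 hv.2.2 hv.2.1
    · intro hv
      obtain ⟨k1, k2, k3, k4⟩ := fund_basis h h1 h2 h3 h4 h5 h2' hv
      rw [k1, k2, k3, k4]
      rfl
  have hrange : LinearMap.range L = ⊤ := by
    rw [eq_top_iff]
    rintro ⟨⟨a, b⟩, ⟨c, d⟩⟩ _
    obtain ⟨p1, p2, p3, p4, p5, p6, p7, p8, p9, p10, p11, p12, p13, p14, p15, p16⟩ := h.pols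
    refine ⟨a • e₁ + b • f₁ + (c • e₂ + d • f₂), ?_⟩
    rw [hL]
    simp only [polar_add_right, polar_smul_right, p1, p2, p3, p4, p5, p6, p7, p8, p9, p10, p11, p12, p13, p14, p15, p16,
      smul_eq_mul, mul_one, mul_zero, add_zero, zero_add]
  have h6 := LinearMap.finrank_range_add_finrank_ker L
  rw [hker, hrange, finrank_top, Module.finrank_prod, Module.finrank_prod, Module.finrank_self] at h6
  omega

theorem finrank_Neg [FiniteDimensional F V] (h2' : (2 : F) ≠ 0) {z : ↥(E Q)} (hz : Fund Q z) :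
    finrank F (Neg z) = 4 := by
  have h1 := finrank_Fix h2' hz
  have h3 := Submodule.finrank_add_eq_of_isCompl (isCompl h2' hz.sq)
  omega

/-- the extension of `E (Q|U)` for the fixed space `U` of an involution -/
noncomputable def xt (h2 : (2 : F) ≠ 0) {z : ↥(E Q)} (hz : z * z = 1) : ↥(E (QU Q (Fix z))) →* ↥(E Q) :=
  extE (isCompl h2 hz) (orth h2)

theorem xt_left (h2 : (2 : F) ≠ 0) {z : ↥(E Q)} (hz : z * z = 1) (A : ↥(E (QU Q (Fix z)))) (u : Fix z) :
    ap (xt h2 hz A) (u : V) = (ap A u : Fix z) := ext_left (isCompl h2 hz) A.1 u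

theorem xt_right (h2 : (2 : F) ≠ 0) {z : ↥(E Q)} (hz : z * z = 1) (A : ↥(E (QU Q (Fix z)))) {w : V}
    (hw : w ∈ Neg z) : ap (xt h2 hz A) w = w := ext_right (isCompl h2 hz) A.1 hw

theorem xt_comm (h2 : (2 : F) ≠ 0) {z : ↥(E Q)} (hz : z * z = 1) (A : ↥(E (QU Q (Fix z)))) :
    xt h2 hz A * z = z * xt h2 hz A := by
  apply ext_ap
  intro v
  obtain ⟨u, w, rfl⟩ := H112.Row2.OrthExt.exists_dec (isCompl h2 hz) v
  have hu : ap z (u : V) = u := u.2
  have hw : ap z (w : V) = -w := w.2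
  have hA : ap z ((ap A u : Fix z) : V) = (ap A u : Fix z) := (ap A u : Fix z).2
  rw [ap_mul, ap_mul, ap_add, hu, hw, ap_add, ap_add, ap_neg, xt_left, xt_right h2 hz A w.2, ap_add, hA, hw]

theorem xt_S (h2 : (2 : F) ≠ 0) {z : ↥(E Q)} (hz : z * z = 1) (u w : Fix z) (hu : Q (u : V) = 0)
    (hw : polar Q (u : V) w = 0) : xt h2 hz (S (QU Q (Fix z)) u w) = S Q (u : V) w := by
  have hu' : QU Q (Fix z) u = 0 := hu
  have hw' : polar (QU Q (Fix z)) u w = 0 := by rw [polar_QU]; exact hw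
  rw [S_eq hu' hw', S_eq hu hw]
  apply Subtype.ext
  exact ext_siegel (isCompl h2 hz) (orth h2) hu' hw' hu hw

end Cfsg.Agent.H198.IF
end

-- part: H100/IF/Four
section
/-!
# S5719, orthogonal groups, `q` odd: the two commuting long `SL₂` of a quadruple (helper100)

* `comm` : the two `SL₂` of a quadruple commute;
* `swap_neg` : they have the same central involution `z`;
* `inter` : their intersection is `⟨z⟩`;
* `t2_mul` : products of elements of order 4 are involutions with `-1` space of dimension 2.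
-/

set_option autoImplicit false
set_option linter.unusedSectionVars false

namespace Cfsg.Agent.H100.IF

open QuadraticMap Matrix Module
open Cfsg.Agent.LieClassical.OrthCore Cfsg.Agent.LieClassical.OrthTrans
open Cfsg.Agent.H989.Gs.Gen
open Cfsg.Agent.UGT.U2.FOne.Orth (Four tl)
open Cfsg.Agent.H198.IF

variable {F V : Type*} [Field F] [AddCommGroup V] [Module F V] {Q : QuadraticForm F V} {e₁ f₁ e₂ f₂ : V}
  (h : Four Q e₁ f₁ e₂ f₂)

theorem ap_rhoE (a : _root_.Matrix.SpecialLinearGroup (Fin 2) F) (v : V) : ap (h.rhoE a) v = h.phi a v := rfl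

theorem comm (a b : _root_.Matrix.SpecialLinearGroup (Fin 2) F) : h.rhoE a * h.swap.rhoE b = h.swap.rhoE b * h.rhoE a := by
  apply ext_ap
  intro v
  rw [ap_mul, ap_mul, ap_rhoE, ap_rhoE, ap_rhoE, ap_rhoE]
  have a1 := h.polar_f1 a v
  have a2 := h.polar_f2 a v
  have a3 := h.polar_e1 a v
  have a4 := h.polar_e2 a v
  have b1 := h.swap.polar_f1 b v
  have b2 := h.swap.polar_f2 b v
  have b3 := h.swap.polar_e1 b v
  have b4 := h.swap.polar_e2 b v
  have l1 : h.phi a (h.swap.phi b v) = h.swap.phi b v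
    + ((a.1 0 0 - 1) * polar Q f₁ (h.swap.phi b v) + a.1 0 1 * polar Q f₂ (h.swap.phi b v)) • e₁
    + (a.1 1 0 * polar Q f₁ (h.swap.phi b v) + (a.1 1 1 - 1) * polar Q f₂ (h.swap.phi b v)) • e₂
    + ((a.1 1 1 - 1) * polar Q e₁ (h.swap.phi b v) - a.1 1 0 * polar Q e₂ (h.swap.phi b v)) • f₁
    + (-a.1 0 1 * polar Q e₁ (h.swap.phi b v) + (a.1 0 0 - 1) * polar Q e₂ (h.swap.phi b v)) • f₂ := rfl
  have l2 : h.swap.phi b (h.phi a v) = h.phi a v
    + ((b.1 0 0 - 1) * polar Q f₁ (h.phi a v) + b.1 0 1 * polar Q e₂ (h.phi a v)) • e₁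
    + (b.1 1 0 * polar Q f₁ (h.phi a v) + (b.1 1 1 - 1) * polar Q e₂ (h.phi a v)) • f₂
    + ((b.1 1 1 - 1) * polar Q e₁ (h.phi a v) - b.1 1 0 * polar Q f₂ (h.phi a v)) • f₁
    + (-b.1 0 1 * polar Q e₁ (h.phi a v) + (b.1 0 0 - 1) * polar Q f₂ (h.phi a v)) • e₂ := rfl
  have l3 : h.swap.phi b v = v
    + ((b.1 0 0 - 1) * polar Q f₁ v + b.1 0 1 * polar Q e₂ v) • e₁
    + (b.1 1 0 * polar Q f₁ v + (b.1 1 1 - 1) * polar Q e₂ v) • f₂
    + ((b.1 1 1 - 1) * polar Q e₁ v - b.1 1 0 * polar Q f₂ v) • f₁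
    + (-b.1 0 1 * polar Q e₁ v + (b.1 0 0 - 1) * polar Q f₂ v) • e₂ := rfl
  have l4 : h.phi a v = v
    + ((a.1 0 0 - 1) * polar Q f₁ v + a.1 0 1 * polar Q f₂ v) • e₁
    + (a.1 1 0 * polar Q f₁ v + (a.1 1 1 - 1) * polar Q f₂ v) • e₂
    + ((a.1 1 1 - 1) * polar Q e₁ v - a.1 1 0 * polar Q e₂ v) • f₁
    + (-a.1 0 1 * polar Q e₁ v + (a.1 0 0 - 1) * polar Q e₂ v) • f₂ := rfl
  rw [l1, l2, a1, a2, a3, a4, b1, b2, b3, b4, l3, l4]
  module

theorem swap_neg : h.swap.rhoE (neg₂ F) = h.rhoE (neg₂ F) := by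
  have a00 : (neg₂ F).1 0 0 = -1 := by simp [neg₂]
  have a01 : (neg₂ F).1 0 1 = 0 := by simp [neg₂]
  have a10 : (neg₂ F).1 1 0 = 0 := by simp [neg₂]
  have a11 : (neg₂ F).1 1 1 = -1 := by simp [neg₂]
  apply ext_ap
  intro v
  rw [ap_rhoE, ap_rhoE]
  unfold Four.phi
  rw [a00, a01, a10, a11]
  module

theorem eq_or {a : _root_.Matrix.SpecialLinearGroup (Fin 2) F} (h01 : a.1 0 1 = 0) (h10 : a.1 1 0 = 0) (h00 : a.1 0 0 = a.1 1 1) :
    a = 1 ∨ a = neg₂ F := by
  have hdet := a.2
  rw [Matrix.det_fin_two, h01, h10, ← h00] at hdet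
  have h1 : (a.1 0 0 - 1) * (a.1 0 0 + 1) = 0 := by linear_combination hdet
  rcases mul_eq_zero.1 h1 with h2 | h2
  · left
    have h3 := sub_eq_zero.1 h2
    ext i j
    fin_cases i <;> fin_cases j
    · simpa only [_root_.Fin.zero_eta, _root_.Fin.isValue, _root_.Matrix.SpecialLinearGroup.coe_one, _root_.Matrix.one_apply_eq] using h3
    · simpa only [_root_.Fin.zero_eta, _root_.Fin.isValue, _root_.Fin.mk_one, _root_.Matrix.SpecialLinearGroup.coe_one, _root_.Nat.reduceAdd, _root_.ne_eq, _root_.zero_ne_one, _root_.not_false_eq_true, _root_.Matrix.one_apply_ne] using h01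
    · simpa only [_root_.Fin.mk_one, _root_.Fin.isValue, _root_.Fin.zero_eta, _root_.Matrix.SpecialLinearGroup.coe_one, _root_.Nat.reduceAdd, _root_.ne_eq, _root_.one_ne_zero, _root_.not_false_eq_true, _root_.Matrix.one_apply_ne] using h10
    · rw [h00] at h3; simpa using h3
  · right
    have h3 := eq_neg_of_add_eq_zero_left h2
    ext i j
    fin_cases i <;> fin_cases j
    · simpa [neg₂] using h3
    · simpa [neg₂] using h01
    · simpa [neg₂] using h10
    · rw [h00] at h3; simpa [neg₂] using h3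

theorem inter {a b : _root_.Matrix.SpecialLinearGroup (Fin 2) F} (hab : h.rhoE a = h.swap.rhoE b) : a = 1 ∨ a = neg₂ F := by
  obtain ⟨p1, p2, p3, p4, p5, p6, p7, p8, p9, p10, p11, p12, p13, p14, p15, p16⟩ := h.pols
  have key : ∀ v, h.phi a v = h.swap.phi b v := fun v => by
    rw [← ap_rhoE, ← ap_rhoE, hab]
  have k1 : a.1 1 0 = 0 := by
    have h1 := congrArg (polar Q f₂) (key e₁)
    rw [h.polar_f2, h.swap.polar_e2, p6, p12, p1] at h1
    linear_combination h1
  have k2 : a.1 0 1 = 0 := by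
    have h1 := congrArg (polar Q f₁) (key e₂)
    rw [h.polar_f1, h.swap.polar_f1, p13, p8, p3] at h1
    linear_combination h1
  have k3 : a.1 0 0 = b.1 0 0 := by
    have h1 := congrArg (polar Q f₁) (key e₁)
    rw [h.polar_f1, h.swap.polar_f1, p6, p12, p10] at h1
    linear_combination h1
  have k4 : a.1 1 1 = b.1 0 0 := by
    have h1 := congrArg (polar Q f₂) (key e₂)
    rw [h.polar_f2, h.swap.polar_e2, p13, p8, p9] at h1
    linear_combination h1
  exact eq_or k2 k1 (k3.trans k4.symm)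

theorem neg_sq : neg₂ F * neg₂ F = 1 := by
  apply Subtype.ext
  change (-1 : Matrix (Fin 2) (Fin 2) F) * -1 = 1
  rw [neg_mul_neg, one_mul]

theorem neg_ne (h2 : (2 : F) ≠ 0) : neg₂ F ≠ 1 := by
  intro h1
  have h3 := congrArg (fun M : _root_.Matrix.SpecialLinearGroup (Fin 2) F => M.1 0 0) h1
  simp [neg₂] at h3
  apply h2
  linear_combination -h3

theorem sq_one {a b : _root_.Matrix.SpecialLinearGroup (Fin 2) F} (ha : a * a = neg₂ F) (hb : b * b = neg₂ F) :
    (h.rhoE a * h.swap.rhoE b) * (h.rhoE a * h.swap.rhoE b) = 1 := by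
  have h1 : (h.rhoE a * h.swap.rhoE b) * (h.rhoE a * h.swap.rhoE b) =
      (h.rhoE a * h.rhoE a) * (h.swap.rhoE b * h.swap.rhoE b) := by
    rw [mul_assoc, ← mul_assoc (h.swap.rhoE b), ← comm, mul_assoc, mul_assoc]
  rw [h1, ← map_mul, ← map_mul, ha, hb, swap_neg h, ← map_mul, neg_sq, map_one]

theorem ne_one (h2 : (2 : F) ≠ 0) {a b : _root_.Matrix.SpecialLinearGroup (Fin 2) F} (ha : a * a = neg₂ F) :
    h.rhoE a * h.swap.rhoE b ≠ 1 := by
  intro h1
  have h3 : h.rhoE a = h.swap.rhoE b⁻¹ := by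
    rw [map_inv]
    exact eq_inv_of_mul_eq_one_left h1
  rcases inter h h3 with h4 | h4
  · rw [h4, one_mul] at ha
    exact neg_ne h2 ha.symm
  · rw [h4, neg_sq] at ha
    exact neg_ne h2 ha.symm

/-- the fixed vectors of `z` are fixed by both `SL₂` -/
theorem fix_z (h2 : (2 : F) ≠ 0) {v : V} (hv : ap (h.rhoE (neg₂ F)) v = v) (a b : _root_.Matrix.SpecialLinearGroup (Fin 2) F) :
    ap (h.rhoE a) v = v ∧ ap (h.swap.rhoE b) v = v := by
  obtain ⟨k1, k2, k3, k4⟩ := rho_neg h
  have key : ∀ e, ap (h.rhoE (neg₂ F)) e = -e → polar Q e v = 0 := by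
    intro e he
    rw [polar_comm]
    exact orth h2 v (mem_Fix.2 hv) e (mem_Neg.2 he)
  exact ⟨rho_fix h (key _ k1) (key _ k2) (key _ k3) (key _ k4) a,
    rho_fix h.swap (key _ k1) (key _ k2) (key _ k4) (key _ k3) b⟩

theorem z_neg (h2 : (2 : F) ≠ 0) {a b : _root_.Matrix.SpecialLinearGroup (Fin 2) F} {v : V}
    (hv : ap (h.rhoE a * h.swap.rhoE b) v = -v) : ap (h.rhoE (neg₂ F)) v = -v := by
  have hz : ∀ w, ap (h.rhoE (neg₂ F)) (ap (h.rhoE (neg₂ F)) w) = w := fun w => by
    rw [← ap_mul, ← map_mul, neg_sq, map_one, ap_one]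
  have hc : neg₂ F * a = a * neg₂ F := by
    apply Subtype.ext
    change (-1 : Matrix (Fin 2) (Fin 2) F) * a.1 = a.1 * -1
    rw [neg_one_mul, mul_neg_one]
  have hzt : h.rhoE (neg₂ F) * (h.rhoE a * h.swap.rhoE b) = (h.rhoE a * h.swap.rhoE b) * h.rhoE (neg₂ F) := by
    rw [← mul_assoc, ← map_mul, hc, map_mul, mul_assoc, comm, mul_assoc]
  have h1 : ap (h.rhoE (neg₂ F)) (v + ap (h.rhoE (neg₂ F)) v) = v + ap (h.rhoE (neg₂ F)) v := by
    rw [ap_add, hz, add_comm]
  obtain ⟨h3, h4⟩ := fix_z h h2 h1 a b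
  have h5 : ap (h.rhoE a * h.swap.rhoE b) (v + ap (h.rhoE (neg₂ F)) v) = v + ap (h.rhoE (neg₂ F)) v := by
    rw [ap_mul, h4, h3]
  have h6 : ap (h.rhoE a * h.swap.rhoE b) (ap (h.rhoE (neg₂ F)) v) = -ap (h.rhoE (neg₂ F)) v := by
    rw [← ap_mul, ← hzt, ap_mul, hv, ap_neg]
  rw [ap_add, hv, h6] at h5
  have h7 : (2 : F) • (v + ap (h.rhoE (neg₂ F)) v) = 0 := by
    rw [two_smul]
    nth_rewrite 1 [← h5]
    abel
  exact eq_neg_of_add_eq_zero_right ((smul_eq_zero.1 h7).resolve_left h2)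

/-- the `-1` space has dimension at least 2 -/
theorem two_le [FiniteDimensional F V] (h2 : (2 : F) ≠ 0) (hQ : Nondeg Q) {a b : _root_.Matrix.SpecialLinearGroup (Fin 2) F}
    (ha : a * a = neg₂ F) (hb : b * b = neg₂ F) : 2 ≤ finrank F (Cfsg.Agent.H198.IF.Neg (h.rhoE a * h.swap.rhoE b)) := by
  obtain ⟨t, ht⟩ : ∃ t, t = h.rhoE a * h.swap.rhoE b := ⟨_, rfl⟩
  have htt : t * t = 1 := by rw [ht]; exact sq_one h ha hb
  have hv : ∃ v, ap t v = -v ∧ Q v ≠ 0 := by
    by_contra hcon
    push Not at hcon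
    apply ne_one h h2 (b := b) ha
    rw [← ht]
    have hN : ∀ w, ap t w = -w → w = 0 := by
      intro w hw
      apply hQ
      intro y
      obtain ⟨x, z, rfl⟩ := Cfsg.Agent.H112.Row2.OrthExt.exists_dec (isCompl h2 htt) y
      have h3 : ap t (z : V) = -(z : V) := mem_Neg.1 z.2
      rw [polar_add_right, polar_comm Q w _, orth h2 _ x.2 w (mem_Neg.2 hw), zero_add]
      unfold polar
      rw [hcon w hw, hcon z h3, hcon (w + z) (by rw [ap_add, hw, h3]; abel), sub_zero, sub_zero]
    apply ext_ap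
    intro v
    rw [ap_one]
    have h3 : v - ap t v = 0 := by
      apply hN
      rw [ap_sub, ← ap_mul, htt, ap_one, neg_sub]
    exact (sub_eq_zero.1 h3).symm
  obtain ⟨v, hv, hQv⟩ := hv
  have hzv : ap (h.rhoE (neg₂ F)) v = -v := z_neg h h2 (by rw [← ht]; exact hv)
  have haa : ap (h.rhoE a) (ap (h.rhoE a) v) = -v := by rw [← ap_mul, ← map_mul, ha, hzv]
  have hav : ap t (ap (h.rhoE a) v) = -ap (h.rhoE a) v := by
    have h3 : t * h.rhoE a = h.rhoE a * t := by rw [ht, mul_assoc, ← comm, ← mul_assoc]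
    rw [← ap_mul, h3, ap_mul, hv, ap_neg]
  have hp : polar Q v (ap (h.rhoE a) v) = 0 := by
    have h3 := polar_ap (h.rhoE a) v (ap (h.rhoE a) v)
    rw [haa, polar_neg_right, polar_comm Q _ v] at h3
    have h4 : (2 : F) * polar Q v (ap (h.rhoE a) v) = 0 := by linear_combination -h3
    exact (mul_eq_zero.1 h4).resolve_left h2
  have hvv : polar Q v v ≠ 0 := by
    rw [polar_self, two_nsmul, ← two_mul]
    exact mul_ne_zero h2 hQv
  have h0 : ap (h.rhoE a) v ≠ 0 := by
    intro h3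
    apply hQv
    rw [← Q_ap (h.rhoE a) v, h3, QuadraticMap.map_zero]
  rw [← ht]
  have hli : LinearIndependent F ![(⟨v, mem_Neg.2 hv⟩ : Cfsg.Agent.H198.IF.Neg t), ⟨ap (h.rhoE a) v, mem_Neg.2 hav⟩] := by
    rw [LinearIndependent.pair_iff]
    intro x y hxy
    have h3 : x • v + y • ap (h.rhoE a) v = 0 := congrArg Subtype.val hxy
    have h4 : x = 0 := by
      have h5 := congrArg (polar Q v) h3
      rw [polar_add_right, polar_smul_right, polar_smul_right, hp, smul_zero, add_zero, polar_zero_right, smul_eq_mul] at h5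
      exact (mul_eq_zero.1 h5).resolve_right hvv
    refine ⟨h4, ?_⟩
    rw [h4, zero_smul, zero_add] at h3
    exact (smul_eq_zero.1 h3).resolve_right h0
  have := hli.fintype_card_le_finrank
  simpa using this

/-- **products of elements of order 4 of the two `SL₂`** are involutions with `-1` space of dimension 2. -/
theorem t2_mul [FiniteDimensional F V] (h2 : (2 : F) ≠ 0) (hQ : Nondeg Q) {a b : _root_.Matrix.SpecialLinearGroup (Fin 2) F}
    (ha : a * a = neg₂ F) (hb : b * b = neg₂ F) :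
    (h.rhoE a * h.swap.rhoE b) * (h.rhoE a * h.swap.rhoE b) = 1 ∧
      finrank F (Cfsg.Agent.H198.IF.Neg (h.rhoE a * h.swap.rhoE b)) = 2 := by
  refine ⟨sq_one h ha hb, ?_⟩
  have h3 := two_le h h2 hQ ha hb
  have hc : neg₂ F * b = b * neg₂ F := by
    apply Subtype.ext
    change (-1 : Matrix (Fin 2) (Fin 2) F) * b.1 = b.1 * -1
    rw [neg_one_mul, mul_neg_one]
  have hb' : (b * neg₂ F) * (b * neg₂ F) = neg₂ F := by
    rw [mul_assoc, ← mul_assoc (neg₂ F), hc, mul_assoc b, neg_sq, mul_one, hb]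
  have h4 := two_le h h2 hQ ha hb'
  have hz : h.rhoE (neg₂ F) * h.rhoE (neg₂ F) = 1 := by rw [← map_mul, neg_sq, map_one]
  have h5 : Cfsg.Agent.H198.IF.Neg (h.rhoE a * h.swap.rhoE b) ≤ Cfsg.Agent.H198.IF.Neg (h.rhoE (neg₂ F)) := fun v hv =>
    mem_Neg.2 (z_neg h h2 (mem_Neg.1 hv))
  have h6 : Cfsg.Agent.H198.IF.Neg (h.rhoE a * h.swap.rhoE (b * neg₂ F)) ≤ Cfsg.Agent.H198.IF.Neg (h.rhoE (neg₂ F)) := fun v hv =>
    mem_Neg.2 (z_neg h h2 (mem_Neg.1 hv))
  have h7 : Cfsg.Agent.H198.IF.Neg (h.rhoE a * h.swap.rhoE b) ⊓ Cfsg.Agent.H198.IF.Neg (h.rhoE a * h.swap.rhoE (b * neg₂ F)) = ⊥ := by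
    rw [eq_bot_iff]
    rintro v ⟨hv1, hv2⟩
    have k1 := mem_Neg.1 hv1
    have k2 := mem_Neg.1 hv2
    have k3 := mem_Neg.1 (h5 hv1)
    rw [map_mul, swap_neg h, ← mul_assoc, ap_mul, k3, ap_neg, k1, neg_neg] at k2
    rw [Submodule.mem_bot]
    have k4 : (2 : F) • v = 0 := by
      rw [two_smul]
      nth_rewrite 1 [k2]
      exact neg_add_cancel v
    exact (smul_eq_zero.1 k4).resolve_left h2
  have h8 := Submodule.finrank_sup_add_finrank_inf_eq (Cfsg.Agent.H198.IF.Neg (h.rhoE a * h.swap.rhoE b))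
    (Cfsg.Agent.H198.IF.Neg (h.rhoE a * h.swap.rhoE (b * neg₂ F)))
  have h9 := Submodule.finrank_mono (sup_le h5 h6)
  have h10 := finrank_Fix h2 (fund_rho h)
  have h11 := Submodule.finrank_add_eq_of_isCompl (isCompl h2 hz)
  rw [h7, finrank_bot] at h8
  omega

end Cfsg.Agent.H100.IF
end

-- part: H520/IF/Tri
section
/-!
# S5719, orthogonal groups, `q` odd: the `SL₂` of a nondegenerate three space of Witt index one (helper520)

`Tri Q a e f` : a hyperbolic pair `e, f` and a nonsingular vector `a` orthogonal to it;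
`Tri.sig` : the homomorphism `SL₂(F) → E Q` (kernel `±1`) acting on `⟨a, e, f⟩`;
`Tri.sig_neg` : an element of square `-1` goes to an involution with `-1`-space of dimension two.
-/

set_option autoImplicit false
set_option linter.unusedSectionVars false
set_option linter.unusedSimpArgs false

namespace Cfsg.Agent.H520.IF

open QuadraticMap Matrix Module
open Cfsg.Agent.LieClassical.OrthCore Cfsg.Agent.LieClassical.OrthTrans Cfsg.Agent.LieClassical.OrthSimple
open Cfsg.Agent.LieClassical.SLTwoUnipotent (u l coe_u coe_l eq_top_of_u_mem_of_l_mem)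
open Cfsg.Agent.H989.Gs.Gen
open Cfsg.Agent.H198.IF (Neg Fix neg₂ mem_Neg)

variable {F V : Type*} [Field F] [AddCommGroup V] [Module F V] {Q : QuadraticForm F V}

/-- a hyperbolic pair and a nonsingular vector orthogonal to it -/
structure Tri (Q : QuadraticForm F V) (a e f : V) : Prop where
  hyp : Hyp Q e f
  ae : polar Q a e = 0
  af : polar Q a f = 0
  ne : Q a ≠ 0

namespace Tri

variable {a e f : V} (h : Tri Q a e f)

/-- the coefficient of `e` -/
def ce (Q : QuadraticForm F V) (a e f : V) (M : _root_.Matrix.SpecialLinearGroup (Fin 2) F) (v : V) : F :=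
  (M.1 0 0 ^ 2 - 1) * polar Q f v - Q a * M.1 0 1 ^ 2 * polar Q e v - M.1 0 0 * M.1 0 1 * polar Q a v

/-- the coefficient of `a` -/
def ca (Q : QuadraticForm F V) (a e f : V) (M : _root_.Matrix.SpecialLinearGroup (Fin 2) F) (v : V) : F :=
  -(M.1 0 0 * M.1 1 0 / Q a) * polar Q f v + M.1 0 1 * M.1 1 1 * polar Q e v + (M.1 0 1 * M.1 1 0 / Q a) * polar Q a v

/-- the coefficient of `f` -/
def cf (Q : QuadraticForm F V) (a e f : V) (M : _root_.Matrix.SpecialLinearGroup (Fin 2) F) (v : V) : F :=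
  -(M.1 1 0 ^ 2 / Q a) * polar Q f v + (M.1 1 1 ^ 2 - 1) * polar Q e v + (M.1 1 0 * M.1 1 1 / Q a) * polar Q a v

/-- the action of `M` -/
def phi (_ : Tri Q a e f) (M : _root_.Matrix.SpecialLinearGroup (Fin 2) F) (v : V) : V :=
  v + ce Q a e f M v • e + ca Q a e f M v • a + cf Q a e f M v • f

include h in
theorem pols : polar Q e e = 0 ∧ polar Q f f = 0 ∧ polar Q a a = 2 * Q a ∧ polar Q e f = 1 ∧ polar Q f e = 1 ∧
    polar Q a e = 0 ∧ polar Q e a = 0 ∧ polar Q a f = 0 ∧ polar Q f a = 0 :=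
  ⟨h.hyp.polar_left, h.hyp.polar_right, by rw [QuadraticMap.polar_self, two_smul, two_mul], h.hyp.pair, h.hyp.pair', h.ae,
    polar_zero_of_comm h.ae, h.af, polar_zero_of_comm h.af⟩

theorem polar_e (M : _root_.Matrix.SpecialLinearGroup (Fin 2) F) (v : V) :
    polar Q e (h.phi M v) = polar Q e v + cf Q a e f M v := by
  obtain ⟨p1, p2, p3, p4, p5, p6, p7, p8, p9⟩ := h.pols
  unfold phi
  simp only [polar_add_right, polar_smul_right, smul_eq_mul, p1, p2, p3, p4, p5, p6, p7, p8, p9]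
  ring

theorem polar_f (M : _root_.Matrix.SpecialLinearGroup (Fin 2) F) (v : V) :
    polar Q f (h.phi M v) = polar Q f v + ce Q a e f M v := by
  obtain ⟨p1, p2, p3, p4, p5, p6, p7, p8, p9⟩ := h.pols
  unfold phi
  simp only [polar_add_right, polar_smul_right, smul_eq_mul, p1, p2, p3, p4, p5, p6, p7, p8, p9]
  ring

theorem polar_a (M : _root_.Matrix.SpecialLinearGroup (Fin 2) F) (v : V) :
    polar Q a (h.phi M v) = polar Q a v + 2 * Q a * ca Q a e f M v := by
  obtain ⟨p1, p2, p3, p4, p5, p6, p7, p8, p9⟩ := h.pols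
  unfold phi
  simp only [polar_add_right, polar_smul_right, smul_eq_mul, p1, p2, p3, p4, p5, p6, p7, p8, p9]
  ring

theorem det_eq (M : _root_.Matrix.SpecialLinearGroup (Fin 2) F) : M.1 0 0 * M.1 1 1 - M.1 0 1 * M.1 1 0 = 1 := by
  have := M.2
  rwa [Matrix.det_fin_two] at this

theorem phi_mul (M N : _root_.Matrix.SpecialLinearGroup (Fin 2) F) (v : V) :
    h.phi (M * N) v = h.phi M (h.phi N v) := by
  have h00 : (M * N).1 0 0 = M.1 0 0 * N.1 0 0 + M.1 0 1 * N.1 1 0 := by
    simp only [Matrix.mul_apply, Fin.sum_univ_two, _root_.Fin.isValue, _root_.Matrix.SpecialLinearGroup.coe_mul]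
  have h01 : (M * N).1 0 1 = M.1 0 0 * N.1 0 1 + M.1 0 1 * N.1 1 1 := by
    simp only [Matrix.mul_apply, Fin.sum_univ_two, _root_.Fin.isValue, _root_.Matrix.SpecialLinearGroup.coe_mul]
  have h10 : (M * N).1 1 0 = M.1 1 0 * N.1 0 0 + M.1 1 1 * N.1 1 0 := by
    simp only [Matrix.mul_apply, Fin.sum_univ_two, _root_.Fin.isValue, _root_.Matrix.SpecialLinearGroup.coe_mul]
  have h11 : (M * N).1 1 1 = M.1 1 0 * N.1 0 1 + M.1 1 1 * N.1 1 1 := by
    simp only [Matrix.mul_apply, Fin.sum_univ_two, _root_.Fin.isValue, _root_.Matrix.SpecialLinearGroup.coe_mul]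
  have hne := h.ne
  have dM := det_eq M
  have dN := det_eq N
  have ke : ce Q a e f (M * N) v = ce Q a e f N v + ce Q a e f M (h.phi N v) := by
    conv_rhs => rw [ce, ce, polar_e, polar_f, polar_a, ce, ca, cf]
    rw [ce, h00, h01]
    field_simp
    linear_combination (-(M.1 0 0 * M.1 0 1 * polar Q a v)) * dN
  have kf : cf Q a e f (M * N) v = cf Q a e f N v + cf Q a e f M (h.phi N v) := by
    conv_rhs => rw [cf, cf, polar_e, polar_f, polar_a, ce, ca, cf]
    rw [cf, h10, h11]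
    field_simp
    linear_combination (M.1 1 0 * M.1 1 1 * polar Q a v) * dN
  have ka : ca Q a e f (M * N) v = ca Q a e f N v + ca Q a e f M (h.phi N v) := by
    conv_rhs => rw [ca, ca, polar_e, polar_f, polar_a, ce, ca, cf]
    rw [ca, h00, h01, h10, h11]
    field_simp
    linear_combination (-(N.1 0 0 * N.1 1 0 * polar Q f v) + Q a * N.1 0 1 * N.1 1 1 * polar Q e v +
      N.1 1 0 * N.1 0 1 * polar Q a v) * dM + (M.1 0 1 * M.1 1 0 * polar Q a v) * dN
  conv_rhs => rw [phi]
  rw [phi, ke, kf, ka, phi]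
  module

theorem phi_one (v : V) : h.phi 1 v = v := by
  have h00 : (1 : _root_.Matrix.SpecialLinearGroup (Fin 2) F).1 0 0 = 1 := by simp
  have h01 : (1 : _root_.Matrix.SpecialLinearGroup (Fin 2) F).1 0 1 = 0 := by simp
  have h10 : (1 : _root_.Matrix.SpecialLinearGroup (Fin 2) F).1 1 0 = 0 := by simp
  have h11 : (1 : _root_.Matrix.SpecialLinearGroup (Fin 2) F).1 1 1 = 1 := by simp
  unfold phi ce ca cf
  rw [h00, h01, h10, h11]
  simp

/-- the linear map -/
def phiLin (M : _root_.Matrix.SpecialLinearGroup (Fin 2) F) : V →ₗ[F] V where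
  toFun := h.phi M
  map_add' v w := by
    unfold phi ce ca cf
    simp only [polar_add_right]
    module
  map_smul' c v := by
    unfold phi ce ca cf
    simp only [polar_smul_right, smul_eq_mul, RingHom.id_apply]
    module

/-- the homomorphism `SL(2,F) → GL(V)` -/
def rho : _root_.Matrix.SpecialLinearGroup (Fin 2) F →* (V ≃ₗ[F] V) :=
  (LinearMap.GeneralLinearGroup.generalLinearEquiv F V).toMonoidHom.comp
    (MonoidHom.toHomUnits
      { toFun := h.phiLin
        map_one' := LinearMap.ext fun v => h.phi_one v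
        map_mul' := fun M N => LinearMap.ext fun v => h.phi_mul M N v })

theorem rho_apply (M : _root_.Matrix.SpecialLinearGroup (Fin 2) F) (v : V) : h.rho M v = h.phi M v := rfl

theorem rho_u (t : F) : h.rho (u t) = (S Q e (t • a) : V ≃ₗ[F] V) := by
  ext v
  have h1 : polar Q e (t • a) = 0 := by rw [polar_smul_right, polar_zero_of_comm h.ae, smul_zero]
  have h2 := S_ap h.hyp.left h1 v
  refine Eq.trans ?_ h2.symm
  rw [rho_apply]
  unfold phi ce ca cf
  have h00 : (u t : _root_.Matrix.SpecialLinearGroup (Fin 2) F).1 0 0 = 1 := by simp [u]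
  have h01 : (u t : _root_.Matrix.SpecialLinearGroup (Fin 2) F).1 0 1 = t := by simp [u]
  have h10 : (u t : _root_.Matrix.SpecialLinearGroup (Fin 2) F).1 1 0 = 0 := by simp [u]
  have h11 : (u t : _root_.Matrix.SpecialLinearGroup (Fin 2) F).1 1 1 = 1 := by simp [u]
  rw [h00, h01, h10, h11, QuadraticMap.map_smul]
  simp only [polar_smul_left, smul_eq_mul]
  module

theorem rho_l (t : F) : h.rho (l t) = (S Q f (-(t / Q a) • a) : V ≃ₗ[F] V) := by
  ext v
  have h1 : polar Q f (-(t / Q a) • a) = 0 := by rw [polar_smul_right, polar_zero_of_comm h.af, smul_zero]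
  have h2 := S_ap h.hyp.right h1 v
  refine Eq.trans ?_ h2.symm
  rw [rho_apply]
  unfold phi ce ca cf
  have h00 : (l t : _root_.Matrix.SpecialLinearGroup (Fin 2) F).1 0 0 = 1 := by simp [l]
  have h01 : (l t : _root_.Matrix.SpecialLinearGroup (Fin 2) F).1 0 1 = 0 := by simp [l]
  have h10 : (l t : _root_.Matrix.SpecialLinearGroup (Fin 2) F).1 1 0 = t := by simp [l]
  have h11 : (l t : _root_.Matrix.SpecialLinearGroup (Fin 2) F).1 1 1 = 1 := by simp [l]
  have hne := h.ne
  rw [h00, h01, h10, h11, QuadraticMap.map_smul]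
  simp only [polar_smul_left, smul_eq_mul]
  match_scalars <;> field_simp <;> ring

theorem rho_mem (M : _root_.Matrix.SpecialLinearGroup (Fin 2) F) : h.rho M ∈ E Q := by
  have h1 : (E Q).comap h.rho = ⊤ := by
    apply eq_top_of_u_mem_of_l_mem
    · intro t
      rw [Subgroup.mem_comap, rho_u]
      exact Subtype.property _
    · intro t
      rw [Subgroup.mem_comap, rho_l]
      exact Subtype.property _
  exact Subgroup.mem_comap.1 (h1 ▸ Subgroup.mem_top M)

/-- `SL(2,F) → E Q` -/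
def sig : _root_.Matrix.SpecialLinearGroup (Fin 2) F →* ↥(E Q) := h.rho.codRestrict (E Q) h.rho_mem

theorem sig_apply (M : _root_.Matrix.SpecialLinearGroup (Fin 2) F) (v : V) : ap (h.sig M) v = v +
    ((M.1 0 0 ^ 2 - 1) * polar Q f v - Q a * M.1 0 1 ^ 2 * polar Q e v - M.1 0 0 * M.1 0 1 * polar Q a v) • e +
    (-(M.1 0 0 * M.1 1 0 / Q a) * polar Q f v + M.1 0 1 * M.1 1 1 * polar Q e v +
      (M.1 0 1 * M.1 1 0 / Q a) * polar Q a v) • a +
    (-(M.1 1 0 ^ 2 / Q a) * polar Q f v + (M.1 1 1 ^ 2 - 1) * polar Q e v +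
      (M.1 1 0 * M.1 1 1 / Q a) * polar Q a v) • f := rfl

theorem sig_neg₂ : h.sig (neg₂ F) = 1 := by
  have a00 : (neg₂ F).1 0 0 = -1 := by simp [neg₂]
  have a01 : (neg₂ F).1 0 1 = 0 := by simp [neg₂]
  have a10 : (neg₂ F).1 1 0 = 0 := by simp [neg₂]
  have a11 : (neg₂ F).1 1 1 = -1 := by simp [neg₂]
  apply ext_ap
  intro v
  rw [sig_apply, a00, a01, a10, a11, ap_one]
  simp only [_root_.even_two, _root_.Even.neg_pow, _root_.one_pow, _root_.sub_self, _root_.MulZeroClass.zero_mul, _root_.ne_eq, _root_.OfNat.ofNat_ne_zero, _root_.not_false_eq_true, _root_.zero_pow, _root_.MulZeroClass.mul_zero, _root_.zero_smul, _root_.add_zero, _root_.zero_div, _root_.neg_zero, _root_.mul_neg, _root_.mul_one]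

/-- the `-1` space of the image of an element of square `-1` -/
theorem sig_sq {c : _root_.Matrix.SpecialLinearGroup (Fin 2) F} (hc : c * c = neg₂ F) : h.sig c * h.sig c = 1 := by
  rw [← map_mul, hc, sig_neg₂]

theorem tr_zero {c : _root_.Matrix.SpecialLinearGroup (Fin 2) F} (hc : c * c = neg₂ F) : c.1 1 1 = -c.1 0 0 := by
  have k00 : c.1 0 0 * c.1 0 0 + c.1 0 1 * c.1 1 0 = -1 := by
    have : (c * c).1 0 0 = (neg₂ F).1 0 0 := by rw [hc]
    simpa only [Matrix.mul_apply, Fin.sum_univ_two, neg₂, _root_.Fin.isValue, _root_.Matrix.SpecialLinearGroup.coe_mul, _root_.Matrix.neg_apply, _root_.Matrix.one_apply_eq] using this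
  have k01 : c.1 0 0 * c.1 0 1 + c.1 0 1 * c.1 1 1 = 0 := by
    have : (c * c).1 0 1 = (neg₂ F).1 0 1 := by rw [hc]
    simpa only [Matrix.mul_apply, Fin.sum_univ_two, neg₂, _root_.Fin.isValue, _root_.Matrix.SpecialLinearGroup.coe_mul, _root_.Matrix.neg_apply, _root_.ne_eq, _root_.zero_ne_one, _root_.not_false_eq_true, _root_.Matrix.one_apply_ne, _root_.neg_zero] using this
  have k11 : c.1 1 0 * c.1 0 1 + c.1 1 1 * c.1 1 1 = -1 := by
    have : (c * c).1 1 1 = (neg₂ F).1 1 1 := by rw [hc]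
    simpa only [Matrix.mul_apply, Fin.sum_univ_two, neg₂, _root_.Fin.isValue, _root_.Matrix.SpecialLinearGroup.coe_mul, _root_.Matrix.neg_apply, _root_.Matrix.one_apply_eq] using this
  have dc := det_eq c
  by_contra hne
  have hs : c.1 0 0 + c.1 1 1 ≠ 0 := fun h0 => hne (by linear_combination h0)
  have m01 : c.1 0 1 = 0 := by
    have : c.1 0 1 * (c.1 0 0 + c.1 1 1) = 0 := by linear_combination k01
    exact (mul_eq_zero.1 this).resolve_right hs
  rw [m01] at k00 k11 dc
  have : (c.1 0 0 + c.1 1 1) * (c.1 0 0 + c.1 1 1) = 0 := by linear_combination k00 + k11 + 2 * dc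
  exact hs (mul_self_eq_zero.1 this)

/-- the fixed vector of the image of an element of square `-1` -/
def fv (Q : QuadraticForm F V) (a e f : V) (c : _root_.Matrix.SpecialLinearGroup (Fin 2) F) : V :=
  c.1 0 1 • e + (c.1 0 0 / Q a) • a + (c.1 1 0 / Q a) • f

/-- the orthogonal projection onto `⟨a, e, f⟩`, twice -/
def pr2 (Q : QuadraticForm F V) (a e f : V) (v : V) : V :=
  (2 * polar Q f v) • e + (polar Q a v / Q a) • a + (2 * polar Q e v) • f

theorem sig_inv_apply {c : _root_.Matrix.SpecialLinearGroup (Fin 2) F} (hc : c * c = neg₂ F) (v : V) :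
    ap (h.sig c) v = v - (Q a * polar Q (fv Q a e f c) v) • fv Q a e f c - pr2 Q a e f v := by
  have ht := tr_zero hc
  have dc := det_eq c
  rw [ht] at dc
  have hne := h.ne
  rw [sig_apply, ht]
  unfold fv pr2
  simp only [polar_add_left, polar_smul_left, smul_eq_mul]
  match_scalars
  · ring
  · field_simp
    linear_combination (-polar Q f v) * dc
  · field_simp
    linear_combination (-polar Q a v) * dc
  · field_simp
    linear_combination (-Q a * polar Q e v) * dc

include h in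
theorem polar_fv_pr2 {c : _root_.Matrix.SpecialLinearGroup (Fin 2) F} (v : V) :
    polar Q (fv Q a e f c) (pr2 Q a e f v) = 2 * polar Q (fv Q a e f c) v := by
  obtain ⟨p1, p2, p3, p4, p5, p6, p7, p8, p9⟩ := h.pols
  have hne := h.ne
  unfold fv pr2
  simp only [polar_add_left, polar_smul_left, polar_add_right, polar_smul_right, smul_eq_mul, p1, p2, p3, p4, p5, p6,
    p7, p8, p9]
  field_simp
  ring

include h in
theorem polar_fv_self {c : _root_.Matrix.SpecialLinearGroup (Fin 2) F} (hc : c * c = neg₂ F) :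
    Q a * polar Q (fv Q a e f c) (fv Q a e f c) = -2 := by
  obtain ⟨p1, p2, p3, p4, p5, p6, p7, p8, p9⟩ := h.pols
  have ht := tr_zero hc
  have dc := det_eq c
  rw [ht] at dc
  have hne := h.ne
  unfold fv
  simp only [polar_add_left, polar_smul_left, polar_add_right, polar_smul_right, smul_eq_mul, p1, p2, p3, p4, p5, p6,
    p7, p8, p9]
  field_simp
  linear_combination (-2 * Q a) * dc

include h in
theorem indep (h2 : (2 : F) ≠ 0) : LinearIndependent F ![e, a, f] := by
  obtain ⟨p1, p2, p3, p4, p5, p6, p7, p8, p9⟩ := h.pols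
  rw [Fintype.linearIndependent_iff]
  intro g hg
  rw [Fin.sum_univ_three] at hg
  change g 0 • e + g 1 • a + g 2 • f = 0 at hg
  have k1 : polar Q f (g 0 • e + g 1 • a + g 2 • f) = 0 := by rw [hg, polar_zero_right]
  have k2 : polar Q a (g 0 • e + g 1 • a + g 2 • f) = 0 := by rw [hg, polar_zero_right]
  have k3 : polar Q e (g 0 • e + g 1 • a + g 2 • f) = 0 := by rw [hg, polar_zero_right]
  simp only [polar_add_right, polar_smul_right, smul_eq_mul, p1, p2, p3, p4, p5, p6, p7, p8, p9, mul_zero, mul_one,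
    add_zero, zero_add] at k1 k2 k3
  intro i
  fin_cases i
  · exact k1
  · exact (mul_eq_zero.1 k2).resolve_right (mul_ne_zero h2 h.ne)
  · exact k3

theorem mem_neg_iff (h2 : (2 : F) ≠ 0) {c : _root_.Matrix.SpecialLinearGroup (Fin 2) F} (hc : c * c = neg₂ F) (v : V) :
    v ∈ _root_.Cfsg.Agent.H198.IF.Neg (h.sig c) ↔ v ∈ Submodule.span F (Set.range ![e, a, f]) ∧ polar Q (fv Q a e f c) v = 0 := by
  obtain ⟨p1, p2, p3, p4, p5, p6, p7, p8, p9⟩ := h.pols
  have hne := h.ne
  constructor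
  · intro hv
    rw [mem_Neg, h.sig_inv_apply hc] at hv
    have h3 : (2 : F) • v = (Q a * polar Q (fv Q a e f c) v) • fv Q a e f c + pr2 Q a e f v := by
      linear_combination (norm := module) hv
    have h4 : polar Q (fv Q a e f c) v = 0 := by
      have h5 := congrArg (polar Q (fv Q a e f c)) h3
      rw [polar_smul_right, polar_add_right, polar_smul_right, h.polar_fv_pr2, smul_eq_mul, smul_eq_mul] at h5
      have h6 := h.polar_fv_self hc
      have h7 : 2 * polar Q (fv Q a e f c) v = 0 := by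
        linear_combination h5 + polar Q (fv Q a e f c) v * h6
      exact (mul_eq_zero.1 h7).resolve_left h2
    refine ⟨?_, h4⟩
    rw [h4, mul_zero, zero_smul, zero_add] at h3
    have h5 : v = (2 : F)⁻¹ • pr2 Q a e f v := by rw [← h3, smul_smul, inv_mul_cancel₀ h2, one_smul]
    rw [h5]
    apply Submodule.smul_mem
    unfold pr2
    have me : e ∈ Submodule.span F (Set.range ![e, a, f]) := Submodule.subset_span ⟨0, rfl⟩
    have ma : a ∈ Submodule.span F (Set.range ![e, a, f]) := Submodule.subset_span ⟨1, rfl⟩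
    have mf : f ∈ Submodule.span F (Set.range ![e, a, f]) := Submodule.subset_span ⟨2, rfl⟩
    exact Submodule.add_mem _ (Submodule.add_mem _ (Submodule.smul_mem _ _ me) (Submodule.smul_mem _ _ ma))
      (Submodule.smul_mem _ _ mf)
  · rintro ⟨hv, h3⟩
    rw [Submodule.mem_span_range_iff_exists_fun] at hv
    obtain ⟨g, hg⟩ := hv
    rw [Fin.sum_univ_three] at hg
    change g 0 • e + g 1 • a + g 2 • f = v at hg
    rw [mem_Neg, h.sig_inv_apply hc, h3, mul_zero, zero_smul, sub_zero]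
    have h4 : pr2 Q a e f v = (2 : F) • v := by
      rw [← hg]
      unfold pr2
      simp only [polar_add_right, polar_smul_right, smul_eq_mul, p1, p2, p3, p4, p5, p6, p7, p8, p9]
      match_scalars <;> field_simp <;> ring
    rw [h4, two_smul]
    abel

/-- **the `-1` space of the image of an element of square `-1`** -/
theorem finrank_neg (h2 : (2 : F) ≠ 0) {c : _root_.Matrix.SpecialLinearGroup (Fin 2) F} (hc : c * c = neg₂ F) :
    finrank F (Neg (h.sig c)) = 2 := by
  classical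
  set U := Submodule.span F (Set.range ![e, a, f]) with hU
  have hfin : FiniteDimensional F U := FiniteDimensional.span_of_finite F (Set.finite_range _)
  have hU3 : finrank F U = 3 := by
    rw [hU, finrank_span_eq_card (h.indep h2), Fintype.card_fin]
  have hfv : fv Q a e f c ∈ U := by
    have me : e ∈ U := Submodule.subset_span ⟨0, rfl⟩
    have ma : a ∈ U := Submodule.subset_span ⟨1, rfl⟩
    have mf : f ∈ U := Submodule.subset_span ⟨2, rfl⟩
    exact Submodule.add_mem _ (Submodule.add_mem _ (Submodule.smul_mem _ _ me) (Submodule.smul_mem _ _ ma))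
      (Submodule.smul_mem _ _ mf)
  set T : Module.Dual F U := (QuadraticMap.polarBilin Q (fv Q a e f c)).comp U.subtype with hT
  have hTa : ∀ v : U, T v = polar Q (fv Q a e f c) v := fun v => rfl
  have hT0 : T ≠ 0 := by
    intro h3
    have h4 : T ⟨fv Q a e f c, hfv⟩ = 0 := by rw [h3]; rfl
    rw [hTa] at h4
    have h5 := h.polar_fv_self hc
    rw [h4, mul_zero] at h5
    exact h2 (neg_eq_zero.1 h5.symm)
  have h3 : _root_.Cfsg.Agent.H198.IF.Neg (h.sig c) = (LinearMap.ker T).map U.subtype := by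
    ext v
    rw [h.mem_neg_iff h2 hc, Submodule.mem_map]
    constructor
    · rintro ⟨h4, h5⟩
      exact ⟨⟨v, h4⟩, h5, rfl⟩
    · rintro ⟨w, h4, rfl⟩
      exact ⟨w.2, h4⟩
  rw [h3, Submodule.finrank_map_subtype_eq]
  have h4 := Module.Dual.finrank_ker_add_one_of_ne_zero hT0
  rw [hU3] at h4
  omega

end Tri

end Cfsg.Agent.H520.IF
end

-- part: H601/IF/NegFour
section
/-!
# S5719: involutions with a 4-dimensional `(-1)`-space are fundamental (helper601, from helper325)
-/

set_option autoImplicit false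

namespace Cfsg.Agent.H601.OTri

open QuadraticMap Module Cfsg.Agent.LieClassical.OrthCore Cfsg.Agent.LieClassical.OrthTrans
open Cfsg.Agent.H989.Gs.Gen (ap)
open Cfsg.Agent.H989.Fx (Fund)
open Cfsg.Agent.H198.IF (Neg)

variable {F V : Type*} [Field F] [AddCommGroup V] [Module F V] {Q : QuadraticForm F V}

theorem neg_eq_Vm (t : ↥(E Q)) : _root_.Cfsg.Agent.H198.IF.Neg t = H325.IF.Vm t := by
  ext v
  rw [H325.IF.mem_Vm]
  rfl

theorem fund_of_neg_good [Finite F] [FiniteDimensional F V] (h2 : (2 : F) ≠ 0) (hG : Good Q) {t : ↥(E Q)}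
    (ht : t * t = 1) (h4 : finrank F (Neg t) = 4) : Fund Q t :=
  H325.IF.fund_of_finrank h2 hG ht (by rw [← neg_eq_Vm, h4])

theorem neg_even_good [Finite F] [FiniteDimensional F V] (h2 : (2 : F) ≠ 0) (hG : Good Q) {t : ↥(E Q)}
    (ht : t * t = 1) : Even (finrank F (Neg t)) := by
  rw [neg_eq_Vm]
  exact H325.IF.even_Vm h2 ht hG

theorem fund_of_neg [Finite F] [FiniteDimensional F V] (h2 : (2 : F) ≠ 0) (hQ : Nondeg Q) (hd : 5 ≤ finrank F V)
    {t : ↥(E Q)} (ht : t * t = 1) (h4 : finrank F (Neg t) = 4) : Fund Q t :=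
  fund_of_neg_good h2 (Cfsg.Agent.LieClassical.OrthFinite.good_of_finite hQ hd) ht h4

theorem neg_even [Finite F] [FiniteDimensional F V] (h2 : (2 : F) ≠ 0) (hQ : Nondeg Q) (hd : 5 ≤ finrank F V)
    {t : ↥(E Q)} (ht : t * t = 1) : Even (finrank F (Neg t)) :=
  neg_even_good h2 (Cfsg.Agent.LieClassical.OrthFinite.good_of_finite hQ hd) ht

end Cfsg.Agent.H601.OTri
end

private theorem dce_09d5209143c5 : _root_.True := by
  try have : _root_.True := by simp only [_root_.Cfsg.Agent.H520.IF.Tri.ce.eq_1]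
  try have : _root_.True := by simp only [_root_.Cfsg.Agent.H520.IF.Tri.cf.eq_1]
  try have : _root_.True := by simp only [_root_.Cfsg.Agent.H520.IF.Tri.ca.eq_1]
  try have : _root_.True := by simp only [_root_.Cfsg.Agent.H520.IF.Tri.phi.eq_1]
  exact _root_.True.intro
end
end

-- part: H172/IF/One_mg
section
set_option linter.all false
open scoped Cfsg.Agent.FastGrp

-- part: H172/IF/Plane
section
/-!
# S5719, `PSp_4(q)`, `q` odd: the nondegenerate planes (helper172)

* `card_hyp` : the number of hyperbolic pairs;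
* `card_omega` : `q ^ 2 (q ^ 2 + 1)` involutions `inv2 B v v'` on a space of order `q ^ 4`;
* `exists_comm` : an `r`-group of isometries, `r` not dividing `q (q ^ 2 + 1)`, commutes with one of them.
-/

set_option autoImplicit false
set_option linter.unusedSectionVars false
set_option linter.style.haveILetI false

namespace Cfsg.Agent.H172.IF

open Module Cfsg.Agent.H74.Psp

variable {F V : Type*} [Field F] [Finite F] [AddCommGroup V] [Module F V] [Finite V] {B : V →ₗ[F] V →ₗ[F] F}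

/-- the number of hyperbolic pairs -/
theorem card_hyp (hB : Symp B) :
    Nat.card {p : V × V // B p.1 p.2 = 1} * Nat.card F = (Nat.card V - 1) * Nat.card V := by
  classical
  have := Fintype.ofFinite V
  let e : {p : V × V // B p.1 p.2 = 1} ≃ Σ v : {v : V // v ≠ 0}, {w : V // B v w = 1} :=
    { toFun := fun p => ⟨⟨p.1.1, fun h => by have := p.2; rw [h, map_zero, LinearMap.zero_apply] at this; exact one_ne_zero this.symm⟩,
        ⟨p.1.2, p.2⟩⟩
      invFun := fun s => ⟨(s.1.1, s.2.1), s.2.2⟩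
      left_inv := fun p => rfl
      right_inv := fun s => rfl }
  have h1 : ∀ v : {v : V // v ≠ 0}, Nat.card {w : V // B v w = 1} * Nat.card F = Nat.card V := by
    intro v
    rw [← card_perp hB v.2]
    congr 1
    obtain ⟨y, hy⟩ := sep0 hB v.2
    refine Nat.card_congr ⟨fun w => ⟨w.1 - y, by rw [map_sub, w.2, hy, sub_self]⟩,
      fun w => ⟨w.1 + y, by rw [map_add, w.2, hy, zero_add]⟩, fun w => ?_, fun w => ?_⟩
    · exact Subtype.ext (sub_add_cancel _ _)
    · exact Subtype.ext (add_sub_cancel_right _ _)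
  rw [Nat.card_congr e, Nat.card_sigma, Finset.sum_mul, Finset.sum_congr rfl fun v _ => h1 v, Finset.sum_const, smul_eq_mul]
  congr 1
  rw [Finset.card_univ, Fintype.card_subtype_compl, Nat.card_eq_fintype_card]
  simp only [_root_.Fintype.card_unique]

theorem inv2_v' (hB : Symp B) {v v' : V} (h : B v v' = 1) : inv2 B v v' • v' = v' := by
  rw [inv2_smul hB h, hB.alt, skew hB v' v, h]; module

/-- the fixed vectors of `inv2` -/
theorem eq_of_fixed (hB : Symp B) (h2 : (2 : F) ≠ 0) {v v' : V} (h : B v v' = 1) {x : V}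
    (hx : inv2 B v v' • x = x) : x = B x v' • v - B x v • v' := by
  rw [inv2_smul hB h] at hx
  have h3 : (2 : F) • x = (2 : F) • (B x v' • v - B x v • v') := by
    have h4 : (2 : F) • x = x + x := two_smul F x
    rw [h4]
    nth_rewrite 1 [← hx]
    module
  have h4 := congrArg (fun y => (2 : F)⁻¹ • y) h3
  simpa only [smul_smul, inv_mul_cancel₀ h2, one_smul] using h4

theorem fixed_of_eq (hB : Symp B) {v v' : V} (h : B v v' = 1) (a b : F) :
    inv2 B v v' • (a • v + b • v') = a • v + b • v' := by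
  rw [smul_add, smul_fsmul, smul_fsmul, inv2_v hB h, inv2_v' hB h]

theorem inv2_eq (hB : Symp B) {v v' : V} (h : B v v' = 1) {a b c d : F} (hd : a * d - b * c = 1) :
    inv2 B (a • v + b • v') (c • v + d • v') = inv2 B v v' := by
  have h1 : B (a • v + b • v') (c • v + d • v') = 1 := by
    simp only [map_add, LinearMap.add_apply, map_smul, LinearMap.smul_apply, smul_eq_mul, hB.alt, h, skew hB v' v]
    linear_combination hd
  apply Sp.ext'
  intro x
  rw [inv2_smul hB h1, inv2_smul hB h]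
  simp only [map_add, map_smul, smul_eq_mul]
  match_scalars <;> first | ring1 | linear_combination (2 * B x v') * hd | linear_combination (-2 * B x v) * hd

/-- the fixed plane -/
def pl (B : V →ₗ[F] V →ₗ[F] F) (v v' : V) : Submodule F V where
  carrier := {x | inv2 B v v' • x = x}
  add_mem' := by
    intro a b ha hb
    change inv2 B v v' • (a + b) = a + b
    rw [smul_add, ha, hb]
  zero_mem' := smul_zero _
  smul_mem' := by
    intro c x hx
    change inv2 B v v' • (c • x) = c • x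
    rw [smul_fsmul, hx]

theorem mem_pl {v v' x : V} : x ∈ pl B v v' ↔ inv2 B v v' • x = x := Iff.rfl

theorem card_pl (hB : Symp B) (h2 : (2 : F) ≠ 0) {v v' : V} (h : B v v' = 1) :
    Nat.card (pl B v v') = Nat.card F ^ 2 := by
  rw [pow_two, ← Nat.card_prod]
  refine Nat.card_congr ⟨fun x => (B x.1 v', B x.1 v), fun p => ⟨p.1 • v - p.2 • v', ?_⟩, fun x => ?_, fun p => ?_⟩
  · rw [mem_pl, sub_eq_add_neg, ← neg_smul, fixed_of_eq hB h]
  · exact Subtype.ext (eq_of_fixed hB h2 h x.2).symm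
  · refine Prod.ext ?_ ?_
    · simp only [map_sub, LinearMap.sub_apply, map_smul, LinearMap.smul_apply, smul_eq_mul, hB.alt, h, mul_one, mul_zero,
        sub_zero]
    · simp only [map_sub, LinearMap.sub_apply, map_smul, LinearMap.smul_apply, smul_eq_mul, hB.alt, skew hB v' v, h]
      ring

theorem card_fib (hB : Symp B) (h2 : (2 : F) ≠ 0) {v v' : V} (h : B v v' = 1) :
    Nat.card {p : V × V // B p.1 p.2 = 1 ∧ inv2 B p.1 p.2 = inv2 B v v'} = (Nat.card F ^ 2 - 1) * Nat.card F := by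
  let BP : pl B v v' →ₗ[F] pl B v v' →ₗ[F] F := B.domRestrict₁₂ (pl B v v') (pl B v v')
  have hBP : ∀ x y : pl B v v', BP x y = B x y := fun x y => rfl
  have hv : v ∈ pl B v v' := inv2_v hB h
  have hv' : v' ∈ pl B v v' := inv2_v' hB h
  have hs : Symp BP := by
    refine ⟨fun x => hB.alt x, fun x hx => ?_⟩
    apply Subtype.ext
    rw [eq_of_fixed hB h2 h x.2]
    have e1 : B (x : V) v' = 0 := hx ⟨v', hv'⟩
    have e2 : B (x : V) v = 0 := hx ⟨v, hv⟩
    rw [e1, e2, zero_smul, zero_smul, sub_zero]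
    rfl
  have h3 := card_hyp hs
  rw [card_pl hB h2 h] at h3
  have hq : 0 < Nat.card F := Nat.card_pos
  have h4 : Nat.card {p : pl B v v' × pl B v v' // BP p.1 p.2 = 1} = (Nat.card F ^ 2 - 1) * Nat.card F := by
    apply Nat.eq_of_mul_eq_mul_right hq
    rw [h3]
    ring
  rw [← h4]
  refine Nat.card_congr ⟨fun p => ⟨(⟨p.1.1, ?_⟩, ⟨p.1.2, ?_⟩), p.2.1⟩, fun p => ⟨(p.1.1, p.1.2), p.2, ?_⟩, fun p => rfl,
    fun p => rfl⟩
  · have h5 := inv2_v hB p.2.1
    rw [p.2.2] at h5
    exact h5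
  · have h5 := inv2_v' hB p.2.1
    rw [p.2.2] at h5
    exact h5
  · have e1 := eq_of_fixed hB h2 h p.1.1.2
    have e2 := eq_of_fixed hB h2 h p.1.2.2
    have e3 : B (p.1.1 : V) (p.1.2 : V) = 1 := p.2
    change inv2 B (p.1.1 : V) (p.1.2 : V) = _
    set w : V := (p.1.1 : V) with hw
    set w' : V := (p.1.2 : V) with hw'
    have e4 : B w v' * (-B w' v) - (-B w v) * B w' v' = 1 := by
      rw [e1, e2] at e3
      simp only [map_sub, LinearMap.sub_apply, map_smul, LinearMap.smul_apply, smul_eq_mul, hB.alt, skew hB v' v, h] at e3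
      linear_combination e3
    rw [e1, e2, sub_eq_add_neg, sub_eq_add_neg, ← neg_smul, ← neg_smul]
    exact inv2_eq hB h e4

/-- **the number of the involutions `inv2`** -/
theorem card_omega (hB : Symp B) (h2 : (2 : F) ≠ 0) (hV : Nat.card V = Nat.card F ^ 4) :
    Nat.card {x : Sp B // ∃ v v', B v v' = 1 ∧ x = inv2 B v v'} = Nat.card F ^ 2 * (Nat.card F ^ 2 + 1) := by
  classical
  have h0 := card_hyp hB
  rw [hV] at h0
  let Ω := {x : Sp B // ∃ v v', B v v' = 1 ∧ x = inv2 B v v'}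
  have hq : 1 < Nat.card F := Finite.one_lt_card
  let e : {p : V × V // B p.1 p.2 = 1} ≃ Σ ω : Ω, {p : V × V // B p.1 p.2 = 1 ∧ inv2 B p.1 p.2 = ω.1} :=
    { toFun := fun p => ⟨⟨inv2 B p.1.1 p.1.2, p.1.1, p.1.2, p.2, rfl⟩, ⟨p.1, p.2, rfl⟩⟩
      invFun := fun s => ⟨s.2.1, s.2.2.1⟩
      left_inv := fun p => rfl
      right_inv := fun s => by
        obtain ⟨⟨ω, hω⟩, ⟨p, hp, hpω⟩⟩ := s
        dsimp only at hpω
        subst hpω
        rfl }
  have hΩf : Finite (Sp B) := inferInstance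
  have hΩ : Fintype Ω := Fintype.ofFinite Ω
  have h1 : ∀ ω : Ω, Nat.card {p : V × V // B p.1 p.2 = 1 ∧ inv2 B p.1 p.2 = ω.1} = (Nat.card F ^ 2 - 1) * Nat.card F := by
    rintro ⟨ω, v, v', h, rfl⟩
    exact card_fib hB h2 h
  rw [Nat.card_congr e, Nat.card_sigma, Finset.sum_congr rfl fun ω _ => h1 ω, Finset.sum_const, smul_eq_mul,
    Finset.card_univ, ← Nat.card_eq_fintype_card] at h0
  change Nat.card Ω = _
  obtain ⟨k, hk⟩ : ∃ k, Nat.card F ^ 2 = k + 1 := ⟨Nat.card F ^ 2 - 1, by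
    have : 0 < Nat.card F ^ 2 := pow_pos (by omega) 2
    omega⟩
  have hk0 : 0 < k := by
    have : 2 ^ 2 ≤ Nat.card F ^ 2 := Nat.pow_le_pow_left hq 2
    omega
  have h4 : Nat.card F ^ 4 = (k + 1) ^ 2 := by rw [← hk]; ring
  have h5 : (k + 1) ^ 2 - 1 = k * (k + 2) := by
    have : (k + 1) ^ 2 = k * (k + 2) + 1 := by ring
    omega
  rw [h4, h5, hk] at h0
  rw [hk]
  have h6 : k + 1 - 1 = k := rfl
  rw [h6] at h0
  have h7 : Nat.card Ω * (k * Nat.card F) * Nat.card F = Nat.card Ω * (k * (k + 1)) := by rw [← hk]; ring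
  rw [h7] at h0
  apply Nat.eq_of_mul_eq_mul_right (show 0 < k * (k + 1) by positivity)
  rw [h0]
  ring

/-- **an `r`-group commutes with some `inv2`** -/
theorem exists_comm (hB : Symp B) (h2 : (2 : F) ≠ 0) (hV : Nat.card V = Nat.card F ^ 4) {r : ℕ} (hr : r.Prime)
    (hr1 : ¬ r ∣ Nat.card F) (hr2 : ¬ r ∣ Nat.card F * Nat.card F + 1) {R : Subgroup (Sp B)} (hR : IsPGroup r R) :
    ∃ v v', B v v' = 1 ∧ ∀ g ∈ R, g * inv2 B v v' = inv2 B v v' * g := by
  have : Fact r.Prime := ⟨hr⟩
  let Ω := {x : Sp B // ∃ v v', B v v' = 1 ∧ x = inv2 B v v'}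
  letI : MulAction R Ω :=
    { smul := fun g x => ⟨g * x.1 * (g : Sp B)⁻¹, by
        obtain ⟨v, v', h, hx⟩ := x.2
        exact ⟨(g : Sp B) • v, (g : Sp B) • v', by rw [B_smul_smul, h], by rw [hx, conj_inv2 hB h]⟩⟩
      one_smul := fun x => Subtype.ext (by
        change ((1 : R) : Sp B) * x.1 * ((1 : R) : Sp B)⁻¹ = x.1
        simp only [_root_.OneMemClass.coe_one, _root_.one_mul, _root_.inv_one, _root_.mul_one])
      mul_smul := fun g h x => Subtype.ext (by
        change ((g * h : R) : Sp B) * x.1 * ((g * h : R) : Sp B)⁻¹ = g * (h * x.1 * (h : Sp B)⁻¹) * (g : Sp B)⁻¹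
        rw [Subgroup.coe_mul]
        group) }
  have hc := card_omega hB h2 hV
  obtain ⟨⟨x, v, v', h, rfl⟩, hx⟩ := hR.nonempty_fixed_point_of_prime_not_dvd_card Ω (by
    change ¬ r ∣ Nat.card {x : Sp B // ∃ v v', B v v' = 1 ∧ x = inv2 B v v'}
    rw [hc, pow_two]
    intro hd
    rcases (Nat.Prime.dvd_mul hr).1 hd with h | h
    · rcases (Nat.Prime.dvd_mul hr).1 h with h | h <;> exact hr1 h
    · exact hr2 h)
  refine ⟨v, v', h, fun g hg => ?_⟩
  have h3 := congrArg Subtype.val (hx ⟨g, hg⟩)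
  change g * inv2 B v v' * g⁻¹ = inv2 B v v' at h3
  rw [mul_inv_eq_iff_eq_mul] at h3
  exact h3

end Cfsg.Agent.H172.IF
end

-- part: H172/IF/Red
section
/-!
# S5719: the point stabiliser of 2-rank one (helper172)

`rank_one` : if two commuting involutions of `A` are equal then `A` is the centraliser of an involution or has a
`Γ`-invariant elementary abelian `r`-subgroup, `r` odd (Glauberman, Feit-Thompson).
-/

set_option autoImplicit false
set_option linter.unusedSectionVars false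

namespace Cfsg.Agent.H172.IF

open Subgroup Cfsg.Agent.H209.Fxy

open scoped commutatorElement

variable {T : Type*} [Group T] [Finite T] {A : Subgroup T} {Γ : Subgroup (MulAut T)}

/-- invariant subgroups of odd order -/
theorem exists_elem {N : Subgroup T} (hN : N ≤ A) (hN1 : N ≠ ⊥)
    (hodd : Odd (Nat.card N)) (hinv : ∀ σ ∈ Γ, ∀ x ∈ N, σ x ∈ N) :
    ∃ (r : ℕ) (R : Subgroup T), r.Prime ∧ Odd r ∧ R ≤ A ∧ R ≠ ⊥ ∧ (∀ x ∈ R, x ^ r = 1) ∧
      (∀ x ∈ R, ∀ y ∈ R, x * y = y * x) ∧ ∀ σ ∈ Γ, ∀ x ∈ R, σ x ∈ R := by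
  classical
  -- a minimal invariant subgroup
  obtain ⟨K, ⟨hKN, hK1, hKinv⟩, hmin⟩ : ∃ K : Subgroup T, (K ≤ N ∧ K ≠ ⊥ ∧ ∀ σ ∈ Γ, ∀ x ∈ K, σ x ∈ K) ∧
      ∀ L : Subgroup T, L < K → ¬ (L ≤ N ∧ L ≠ ⊥ ∧ ∀ σ ∈ Γ, ∀ x ∈ L, σ x ∈ L) :=
    WellFounded.has_min (r := fun L K : Subgroup T => L < K) wellFounded_lt
      {K : Subgroup T | K ≤ N ∧ K ≠ ⊥ ∧ ∀ σ ∈ Γ, ∀ x ∈ K, σ x ∈ K} ⟨N, le_refl N, hN1, hinv⟩
      |> fun ⟨K, hK, h⟩ => ⟨K, hK, fun L hL hL' => h L hL' hL⟩
  have hKo : Odd (Nat.card K) := hodd.of_dvd_nat (Subgroup.card_dvd_of_le hKN)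
  have hsol : Group.IsSolvable K := S0205.result hKo
  have hnt : Nontrivial K := (Subgroup.nontrivial_iff_ne_bot K).2 hK1
  -- it is abelian
  have hcomm : ⁅K, K⁆ = ⊥ := by
    by_contra hne
    have h1 : ⁅K, K⁆ ≤ K := Subgroup.commutator_le_self K
    have h2 : ⁅K, K⁆ ≠ K := by
      intro h
      have h3 := Group.IsSolvable.commutator_lt_top_of_nontrivial (G := K)
      apply h3.ne
      apply Subgroup.map_injective K.subtype_injective
      rw [commutator_def, Subgroup.map_commutator, ← MonoidHom.range_eq_map, Subgroup.range_subtype, h]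
    refine hmin _ (lt_of_le_of_ne h1 h2) ⟨h1.trans hKN, hne, fun σ hσ x hx => ?_⟩
    have h3 : ⁅K, K⁆.map (σ : MulAut T).toMonoidHom ≤ ⁅K, K⁆ := by
      rw [Subgroup.map_commutator]
      exact Subgroup.commutator_mono (Subgroup.map_le_iff_le_comap.2 fun y hy => hKinv σ hσ y hy)
        (Subgroup.map_le_iff_le_comap.2 fun y hy => hKinv σ hσ y hy)
    exact h3 ⟨x, hx, rfl⟩
  have hab : ∀ x ∈ K, ∀ y ∈ K, x * y = y * x := by
    intro x hx y hy
    have h1 : ⁅x, y⁆ ∈ ⁅K, K⁆ := Subgroup.commutator_mem_commutator hx hy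
    rw [hcomm, Subgroup.mem_bot, commutatorElement_eq_one_iff_mul_comm] at h1
    exact h1
  -- a prime
  obtain ⟨r, hr, hrK⟩ : ∃ r : ℕ, r.Prime ∧ r ∣ Nat.card K :=
    Nat.exists_prime_and_dvd (by
      have := Finite.one_lt_card (α := K)
      omega)
  have : Fact r.Prime := ⟨hr⟩
  let R : Subgroup T :=
    { carrier := {x | x ∈ K ∧ x ^ r = 1}
      one_mem' := ⟨K.one_mem, one_pow r⟩
      mul_mem' := fun {a b} ha hb => ⟨K.mul_mem ha.1 hb.1, by
        have h1 : Commute a b := hab a ha.1 b hb.1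
        rw [h1.mul_pow, ha.2, hb.2, one_mul]⟩
      inv_mem' := fun {a} ha => ⟨K.inv_mem ha.1, by rw [inv_pow, ha.2, inv_one]⟩ }
  refine ⟨r, R, hr, hKo.of_dvd_nat hrK, fun x hx => hN (hKN hx.1), ?_, fun x hx => hx.2,
    fun x hx y hy => hab x hx.1 y hy.1, fun σ hσ x hx => ⟨hKinv σ hσ x hx.1, ?_⟩⟩
  · obtain ⟨x, hx⟩ := exists_prime_orderOf_dvd_card' r hrK
    intro h
    have h1 : (x : T) ∈ R := ⟨x.2, by rw [← Subgroup.coe_pow, ← hx, pow_orderOf_eq_one, Subgroup.coe_one]⟩
    rw [h, Subgroup.mem_bot] at h1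
    have h2 : x = 1 := Subtype.ext h1
    rw [h2, orderOf_one] at hx
    exact hr.one_lt.ne hx
  · rw [← map_pow, hx.2, map_one]

open Cfsg.Agent.Lib.Cores in
/-- **a point stabiliser in which two commuting involutions are equal** -/
theorem rank_one [IsSimpleGroup T] (h : IF A Γ) (hna : ∃ a b : T, a * b ≠ b * a)
    (hone : ∀ s ∈ A, ∀ t ∈ A, orderOf s = 2 → orderOf t = 2 → s * t = t * s → s = t) {t : T} (ht : t ∈ A)
    (ht2 : orderOf t = 2) :
    (∀ x : T, x * t = t * x → x ∈ A) ∨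
    ∃ (r : ℕ) (R : Subgroup T), r.Prime ∧ Odd r ∧ R ≤ A ∧ R ≠ ⊥ ∧ (∀ x ∈ R, x ^ r = 1) ∧
      (∀ x ∈ R, ∀ y ∈ R, x * y = y * x) ∧ ∀ σ ∈ Γ, ∀ x ∈ R, σ x ∈ R := by
  classical
  let N : Subgroup T := (pPrimeCore 2 A).map A.subtype
  have hNA : N ≤ A := Subgroup.map_subtype_le _
  have hNc : Nat.card N = Nat.card (pPrimeCore 2 A) :=
    (Nat.card_congr ((pPrimeCore 2 A).equivMapOfInjective _ A.subtype_injective).toEquiv).symm
  have hNo : Odd (Nat.card N) := by
    rw [hNc]
    exact Nat.coprime_two_right.1 (pPrimeCore_coprime 2)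
  -- `N` is invariant
  have hNinv : ∀ σ ∈ Γ, ∀ x ∈ N, σ x ∈ N := by
    intro σ hσ x hx
    let e : A ≃* A :=
      { toFun := fun a => ⟨σ a, (h.inv σ hσ a).2 a.2⟩
        invFun := fun a => ⟨σ⁻¹ a, (h.inv σ⁻¹ (Γ.inv_mem hσ) a).2 a.2⟩
        left_inv := fun a => Subtype.ext (MulAut.inv_apply_self T σ a)
        right_inv := fun a => Subtype.ext (MulAut.apply_inv_self T σ a)
        map_mul' := fun a b => Subtype.ext (map_mul σ (a : T) b) }
    obtain ⟨a, ha, rfl⟩ := hx
    have h1 : e a ∈ pPrimeCore 2 A := by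
      rw [← map_equiv_pPrimeCore e 2]
      exact ⟨a, ha, rfl⟩
    exact ⟨e a, h1, rfl⟩
  by_cases hN1 : N = ⊥
  · left
    -- `t` is central in `A`
    have hcore : pPrimeCore 2 A = ⊥ := (Subgroup.map_eq_bot_iff_of_injective _ A.subtype_injective).1 hN1
    have : Fact (Nat.Prime 2) := ⟨Nat.prime_two⟩
    let u : A := ⟨t, ht⟩
    have hu : orderOf u = 2 := by rw [Subgroup.orderOf_mk, ht2]
    have h2g : IsPGroup 2 (Subgroup.zpowers u) := IsPGroup.of_card (n := 1) (by rw [Nat.card_zpowers, hu, pow_one])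
    obtain ⟨P, hP⟩ := h2g.exists_le_sylow
    have huP : u ∈ P := hP (Subgroup.mem_zpowers u)
    -- an involution in the centre of `P`
    have hPnt : Nontrivial P := by
      rw [Subgroup.nontrivial_iff_ne_bot]
      intro hb
      have : u ∈ (P : Subgroup A) := huP
      rw [hb, Subgroup.mem_bot] at this
      rw [this, orderOf_one] at hu
      omega
    have hcnt : Nontrivial (Subgroup.center P) := P.2.center_nontrivial
    obtain ⟨z, hz⟩ : ∃ z : Subgroup.center P, orderOf z = 2 := by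
      have h3 : IsPGroup 2 (Subgroup.center P) := P.2.to_subgroup _
      obtain ⟨k, hk, h4⟩ := h3.nontrivial_iff_card.1 hcnt
      exact exists_prime_orderOf_dvd_card' 2 (by rw [h4]; exact dvd_pow_self 2 (by omega))
    have hiso : ∀ w : A, w ∈ P → orderOf w = 2 → w = ((z : P) : A) := by
      intro w hw hw2
      have h3 : (⟨w, hw⟩ : P) * z = z * ⟨w, hw⟩ := Subgroup.mem_center_iff.1 z.2 ⟨w, hw⟩
      have h4 : w * ((z : P) : A) = ((z : P) : A) * w := congrArg Subtype.val h3
      have h5 : (w : T) * (((z : P) : A) : T) = (((z : P) : A) : T) * w := congrArg Subtype.val h4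
      have h6 := hone w w.2 (((z : P) : A) : T) ((z : P) : A).2 (by rw [Subgroup.orderOf_coe, hw2])
        (by rw [Subgroup.orderOf_coe, Subgroup.orderOf_coe, Subgroup.orderOf_coe, hz]) h5
      exact Subtype.ext h6
    obtain ⟨M, hMn, hMo, hM⟩ := S0215.result P u hu huP (by
      intro g hg
      have hg2 : orderOf (g * u * g⁻¹) = 2 := by
        rw [← hu]
        exact orderOf_injective (MulAut.conj g).toMonoidHom (MulAut.conj g).injective u
      rw [hiso _ hg hg2, hiso u huP hu])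
    have hMb : M = ⊥ := by
      rw [eq_bot_iff, ← hcore]
      exact le_pPrimeCore hMn (Nat.coprime_two_right.2 hMo)
    have hcen : ∀ a ∈ A, a * t = t * a := by
      intro a ha
      have h3 := hM ⟨a, ha⟩
      rw [hMb, Subgroup.mem_bot] at h3
      have h4 : t * a * t⁻¹ * a⁻¹ = 1 := congrArg Subtype.val h3
      rw [mul_inv_eq_one, mul_inv_eq_iff_eq_mul] at h4
      exact h4.symm
    -- `σ t = t`
    have hfix : ∀ σ ∈ Γ, σ t = t := by
      intro σ hσ
      have h3 : σ t ∈ A := (h.inv σ hσ t).2 ht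
      refine hone _ h3 t ht ?_ ht2 (hcen _ h3)
      rw [MulEquiv.orderOf_eq, ht2]
    have hle : A ≤ Subgroup.centralizer ({t} : Set T) := fun a ha =>
      Subgroup.mem_centralizer_singleton_iff.2 (hcen a ha)
    rcases h.max _ hle (fun σ hσ b hb => by
      rw [Subgroup.mem_centralizer_singleton_iff] at hb ⊢
      have h3 := congrArg σ hb
      rwa [map_mul, map_mul, hfix σ hσ] at h3) with h3 | h3
    · intro x hx
      rw [← h3]
      exact Subgroup.mem_centralizer_singleton_iff.2 hx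
    · exfalso
      have h4 : t = 1 := H999.IFB.center_of hna fun x => by
        have : x ∈ Subgroup.centralizer ({t} : Set T) := by rw [h3]; trivial
        exact (Subgroup.mem_centralizer_singleton_iff.1 this).symm
      rw [h4, orderOf_one] at ht2
      omega
  · right
    exact exists_elem hNA hN1 hNo hNinv

end Cfsg.Agent.H172.IF
end

-- part: H172/IF/Hat
section
/-!
# S5719, `PSp_4(q)`, `q` odd, rank one: lifts of elementary abelian groups of odd order (helper172)

* `hat π r R` : the elements `g` with `π g ∈ R`, `g ^ r = 1`;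
* `semi_kill` : the case of the characteristic (automorphisms of `T` are semilinear);
* `plane_kill` : `r` does not divide `q (q ^ 2 + 1)`;
* `cent_kill` : `A` contains the centraliser of an involution.
-/

set_option autoImplicit false
set_option linter.unusedSectionVars false

namespace Cfsg.Agent.H172.IF

open Subgroup Module Cfsg.Agent.H74.Psp Cfsg.Agent.H209.Fxy Cfsg.Agent.H804.P4

/-- automorphisms are induced by bijections of the space -/
def SemiAut {F V T : Type*} [Field F] [AddCommGroup V] [Module F V] [Group T] {B : V →ₗ[F] V →ₗ[F] F}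
    (π : Sp B →* T) : Prop :=
  ∀ σ : MulAut T, ∃ g : V ≃+ V, ∀ h₀ : Sp B, ∃ h₁ : Sp B, (∀ v, h₁ • g v = g (h₀ • v)) ∧ σ (π h₀) = π h₁

variable {F V T : Type} [Field F] [Finite F] [AddCommGroup V] [Module F V] [Finite V] [Group T] [Finite T]
  {B : V →ₗ[F] V →ₗ[F] F} {π : Sp B →* T} {A : Subgroup T} {Γ : Subgroup (MulAut T)} {r : ℕ} {R : Subgroup T}

/-- elementary abelian groups of odd order -/
structure Ea (r : ℕ) (R : Subgroup T) : Prop where
  prime : r.Prime
  odd : Odd r
  exp : ∀ x ∈ R, x ^ r = 1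
  comm : ∀ x ∈ R, ∀ y ∈ R, x * y = y * x

theorem neg_pow_odd (hr : Odd r) {g : Sp B} (hg : g ^ r = 1) : (negOne B * g) ^ r = negOne B := by
  have h1 : Commute (negOne B) g := negOne_comm g
  obtain ⟨k, rfl⟩ := hr
  rw [h1.mul_pow, hg, mul_one, pow_succ, pow_mul, pow_two, negOne_mul_self, one_pow, one_mul]

/-- the lifts commute -/
theorem comm_lift (C : Ctx π) (hr : Odd r) {g h : Sp B} (hh : h ^ r = 1) (hc : π g * π h = π h * π g) :
    g * h = h * g := by
  rw [← map_mul, ← map_mul] at hc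
  rcases C.eq_iff.1 hc with h1 | h1
  · exact h1
  · exfalso
    have h2 : g * h * g⁻¹ = negOne B * h := by rw [h1]; group
    have h3 : (g * h * g⁻¹) ^ r = 1 := by rw [conj_pow, hh, mul_one, mul_inv_cancel]
    rw [h2, neg_pow_odd hr hh] at h3
    exact C.negOne_ne h3

/-- the lifts of odd order -/
def hat (C : Ctx π) (E : Ea r R) : Subgroup (Sp B) where
  carrier := {g | π g ∈ R ∧ g ^ r = 1}
  one_mem' := ⟨by rw [map_one]; exact R.one_mem, one_pow r⟩
  mul_mem' := by
    rintro a b ⟨ha, ha'⟩ ⟨hb, hb'⟩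
    refine ⟨by rw [map_mul]; exact R.mul_mem ha hb, ?_⟩
    have h1 : Commute a b := comm_lift C E.odd hb' (E.comm _ ha _ hb)
    rw [h1.mul_pow, ha', hb', one_mul]
  inv_mem' := by
    rintro a ⟨ha, ha'⟩
    exact ⟨by rw [map_inv]; exact R.inv_mem ha, by rw [inv_pow, ha', inv_one]⟩

theorem exists_hat (C : Ctx π) (E : Ea r R) {y : T} (hy : y ∈ R) : ∃ g ∈ hat C E, π g = y := by
  obtain ⟨g, rfl⟩ := C.surj y
  have h1 : π (g ^ r) = 1 := by rw [map_pow, E.exp _ hy]
  rcases C.ker _ h1 with h2 | h2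
  · exact ⟨g, ⟨hy, h2⟩, rfl⟩
  · refine ⟨negOne B * g, ⟨by rw [map_mul, C.neg, one_mul]; exact hy, ?_⟩, by rw [map_mul, C.neg, one_mul]⟩
    have h3 : Commute (negOne B) g := negOne_comm g
    obtain ⟨k, hk⟩ := E.odd
    rw [h3.mul_pow, h2]
    nth_rewrite 1 [hk]
    rw [pow_succ, pow_mul, pow_two, negOne_mul_self, one_pow, one_mul, negOne_mul_self]

theorem hat_comm (C : Ctx π) (E : Ea r R) {g h : Sp B} (hg : g ∈ hat C E) (hh : h ∈ hat C E) : g * h = h * g :=
  comm_lift C E.odd hh.2 (E.comm _ hg.1 _ hh.1)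

theorem isPGroup_hat (C : Ctx π) (E : Ea r R) : IsPGroup r (hat C E) := by
  rintro ⟨g, hg⟩
  exact ⟨1, Subtype.ext (by rw [pow_one]; exact hg.2)⟩

theorem hat_ne_bot (C : Ctx π) (E : Ea r R) (hR : R ≠ ⊥) : hat C E ≠ ⊥ := by
  intro h
  apply hR
  rw [eq_bot_iff]
  intro y hy
  obtain ⟨g, hg, rfl⟩ := exists_hat C E hy
  rw [h, Subgroup.mem_bot] at hg
  rw [hg, map_one]
  exact Subgroup.one_mem _

theorem hat_conj (C : Ctx π) (E : Ea r R) {a : Sp B} (ha : ∀ x ∈ R, π a * x * (π a)⁻¹ ∈ R) {g : Sp B}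
    (hg : g ∈ hat C E) : a * g * a⁻¹ ∈ hat C E :=
  ⟨by rw [map_mul, map_mul, map_inv]; exact ha _ hg.1, by rw [conj_pow, hg.2, mul_one, mul_inv_cancel]⟩

/-! ### the three cases -/

/-- `r` does not divide `q (q ^ 2 + 1)` -/
theorem plane_kill [IsSimpleGroup T] (C : Ctx π) (h : IF A Γ) (hno : ∀ v v' : V, B v v' = 1 → π (inv2 B v v') ∉ A)
    (E : Ea r R) (hRA : R ≤ A) (hR : R ≠ ⊥) (hinv : ∀ σ ∈ Γ, ∀ x ∈ R, σ x ∈ R) (hr1 : ¬ r ∣ Nat.card F)
    (hr2 : ¬ r ∣ Nat.card F * Nat.card F + 1) : False := by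
  obtain ⟨v, v', hv, hc⟩ := exists_comm C.hB C.h2 C.hV E.prime hr1 hr2 (isPGroup_hat C E)
  apply hno v v' hv
  apply H680.Fxy.IF.norm h hRA hinv hR
  intro k hk
  obtain ⟨g, hg, rfl⟩ := exists_hat C E hk
  rw [← map_inv, ← map_mul, ← map_mul, ← hc g hg, mul_inv_cancel_right]
  exact hk

/-- `A` contains the centraliser of an involution -/
theorem cent_kill (C : Ctx π) (hno : ∀ v v' : V, B v v' = 1 → π (inv2 B v v') ∉ A) {j : Sp B} (hj : j * j = negOne B)
    (hA : ∀ x : T, x * π j = π j * x → x ∈ A) : False := by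
  obtain ⟨v, v', h1, h2, h3, h4⟩ := exists_pair C.hB C.h2 C.hV hj
  apply hno v v' h1
  apply hA
  rw [← map_mul, ← map_mul, C.eq_iff]
  right
  have hjj := sq_iff.1 hj
  have e1 : B (j • v) (j • v') = 1 := by rw [B_smul_smul, h1]
  have e2 : B v' (j • v) = 0 := by rw [sym C.hB hj, h3]
  have e3 : inv2 B v v' • v' = v' := inv2_v' C.hB h1
  apply Sp.ext'
  intro z
  obtain ⟨a, b, c, d, rfl⟩ := four C.hB C.hV h1 e1 h2 h3 e2 h4 z
  simp only [mul_smul, smul_add', smul_fsmul, hjj, negOne_smul, inv2_v C.hB h1, e3, inv2_orth C.hB h1 h2 e2,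
    inv2_orth C.hB h1 h3 h4, smul_neg', neg_neg]

/-- the characteristic -/
theorem semi_kill [IsSimpleGroup T] (C : Ctx π) (h : IF A Γ) (hno : ∀ v v' : V, B v v' = 1 → π (inv2 B v v') ∉ A)
    (hsemi : SemiAut π) (E : Ea r R) (hR : R ≠ ⊥) (hinv : ∀ σ ∈ Γ, ∀ x ∈ R, σ x ∈ R)
    (hr1 : r ∣ Nat.card F) : False := by
  have : Fact r.Prime := ⟨E.prime⟩
  have hAR : ∀ a ∈ A, ∀ x ∈ R, a * x * a⁻¹ ∈ R := fun a ha x hx => hinv _ ((h.conj a).2 ha) x hx
  -- the fixed vectors
  let U : Submodule F V :=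
    { carrier := {v | ∀ g ∈ hat C E, g • v = v}
      add_mem' := fun {a b} ha hb g hg => by rw [smul_add', ha g hg, hb g hg]
      zero_mem' := fun g _ => smul_zero g
      smul_mem' := fun c x hx g hg => by rw [smul_fsmul, hx g hg] }
  have hU : ∀ v, v ∈ U ↔ ∀ g ∈ hat C E, g • v = v := fun v => Iff.rfl
  -- it is not zero
  obtain ⟨u, huU, hu0⟩ : ∃ u ∈ U, u ≠ 0 := by
    have h1 : r ∣ Nat.card V := by rw [C.hV]; exact dvd_pow hr1 (by norm_num)
    obtain ⟨b, hb, hb0⟩ := (isPGroup_hat C E).exists_fixed_point_of_prime_dvd_card_of_fixed_point V h1 (a := 0)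
      (fun g => smul_zero (g : Sp B))
    exact ⟨b, fun g hg => hb ⟨g, hg⟩, hb0.symm⟩
  -- its stabiliser
  let P : Subgroup T :=
    { carrier := {y | ∀ k : Sp B, π k = y → ∀ v, v ∈ U ↔ k • v ∈ U}
      one_mem' := by
        intro k hk v
        rcases C.ker k hk with rfl | rfl
        · rw [one_smul]
        · rw [negOne_smul, neg_mem_iff]
      mul_mem' := by
        intro a b ha hb k hk v
        obtain ⟨a', ha'⟩ := C.surj a
        have h1 : π (a'⁻¹ * k) = b := by rw [map_mul, map_inv, hk, ha', inv_mul_cancel_left]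
        rw [hb _ h1 v, ha a' ha', ← mul_smul, mul_inv_cancel_left]
      inv_mem' := by
        intro a ha k hk v
        have h1 : π k⁻¹ = a := by rw [map_inv, hk, inv_inv]
        rw [ha _ h1 (k • v), inv_smul_smul] }
  have hAP : A ≤ P := by
    intro a ha k hk v
    have h1 : ∀ g ∈ hat C E, k⁻¹ * g * k ∈ hat C E := by
      intro g hg
      have h2 := hat_conj C E (a := k⁻¹) (by
        rw [map_inv, hk]
        exact hAR _ (A.inv_mem ha)) hg
      rwa [inv_inv] at h2
    have h2 : ∀ g ∈ hat C E, k * g * k⁻¹ ∈ hat C E := fun g hg => hat_conj C E (by rw [hk]; exact hAR a ha) hg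
    constructor
    · intro hv g hg
      have h3 := hv _ (h1 g hg)
      rw [mul_smul, mul_smul, inv_smul_eq_iff] at h3
      exact h3
    · intro hv g hg
      have h3 := hv _ (h2 g hg)
      rw [mul_smul, mul_smul, inv_smul_smul] at h3
      exact smul_left_cancel k h3
  have hPinv : ∀ σ ∈ Γ, ∀ y ∈ P, σ y ∈ P := by
    intro σ hσ y hy k hk w
    obtain ⟨g, hg⟩ := hsemi σ
    -- lifts
    have key : ∀ h₀ h₁ : Sp B, (∀ v, h₁ • g v = g (h₀ • v)) → h₀ ^ r = 1 → h₁ ^ r = 1 := by
      intro h₀ h₁ h1 h2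
      have h3 : ∀ n : ℕ, ∀ v, h₁ ^ n • g v = g (h₀ ^ n • v) := by
        intro n
        induction n with
        | zero => intro v; rw [pow_zero, pow_zero, one_smul, one_smul]
        | succ n ih => intro v; rw [pow_succ, mul_smul, h1, ih, pow_succ, mul_smul]
      apply Sp.ext'
      intro x
      obtain ⟨v, rfl⟩ := g.surjective x
      rw [h3, h2, one_smul, one_smul]
    have hgU : ∀ v, v ∈ U ↔ g v ∈ U := by
      intro v
      constructor
      · intro hv k' hk'
        have h1 : σ⁻¹ (π k') ∈ R := hinv _ (Γ.inv_mem hσ) _ hk'.1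
        obtain ⟨h₀, hh₀, he⟩ := exists_hat C E h1
        obtain ⟨h₁, h2, h3⟩ := hg h₀
        rw [he, MulAut.apply_inv_self] at h3
        have h4 := key h₀ h₁ h2 hh₀.2
        rcases C.eq_iff.1 h3 with h5 | h5
        · rw [h5, h2, hv h₀ hh₀]
        · exfalso
          have h6 := hk'.2
          rw [h5, neg_pow_odd E.odd h4] at h6
          exact C.negOne_ne h6
      · intro hv h₀ hh₀
        obtain ⟨h₁, h2, h3⟩ := hg h₀
        have h4 : h₁ ∈ hat C E := ⟨by rw [← h3]; exact hinv σ hσ _ hh₀.1, key h₀ h₁ h2 hh₀.2⟩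
        have h5 := hv h₁ h4
        rw [h2] at h5
        exact g.injective h5
    obtain ⟨h₀, rfl⟩ := C.surj y
    obtain ⟨h₁, h2, h3⟩ := hg h₀
    rw [h3] at hk
    obtain ⟨v, rfl⟩ := g.surjective w
    have h4 : k • g v ∈ U ↔ h₁ • g v ∈ U := by
      rcases C.eq_iff.1 hk with rfl | rfl
      · exact Iff.rfl
      · rw [mul_smul, negOne_smul, neg_mem_iff]
    rw [h4, h2, ← hgU, ← hgU]
    exact hy h₀ rfl v
  have hP : P = A := by
    rcases h.max P hAP hPinv with h1 | h1
    · exact h1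
    · exfalso
      apply hat_ne_bot C E hR
      rw [eq_bot_iff]
      intro g hg
      rw [Subgroup.mem_bot]
      apply Sp.ext'
      intro x
      rw [one_smul]
      by_cases hx : x = 0
      · rw [hx, smul_zero]
      · obtain ⟨k, hk⟩ := trans0 C.hB hu0 hx
        have h2 : π k ∈ P := by rw [h1]; trivial
        have h3 := (h2 k rfl u).1 huU
        rw [hk] at h3
        exact h3 g hg
  -- an involution in the stabiliser
  have hinv2 : ∀ v v' : V, B v v' = 1 → (∀ x ∈ U, inv2 B v v' • x ∈ U) → False := by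
    intro v v' hv hU'
    apply hno v v' hv
    rw [← hP]
    intro k hk w
    have h4 : k • w ∈ U ↔ inv2 B v v' • w ∈ U := by
      rcases C.eq_iff.1 hk with rfl | rfl
      · exact Iff.rfl
      · rw [mul_smul, negOne_smul, neg_mem_iff]
    rw [h4]
    constructor
    · exact hU' w
    · intro h5
      have h6 := hU' _ h5
      rwa [← mul_smul, inv2_mul_self C.hB hv, one_smul] at h6
  by_cases hiso : ∃ w ∈ U, B u w ≠ 0
  · obtain ⟨w, hw, huw⟩ := hiso
    refine hinv2 u ((B u w)⁻¹ • w) (by rw [map_smul, smul_eq_mul, inv_mul_cancel₀ huw]) ?_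
    intro x hx
    rw [inv2_smul C.hB (by rw [map_smul, smul_eq_mul, inv_mul_cancel₀ huw])]
    exact U.sub_mem (U.add_mem (U.neg_mem hx) (U.smul_mem _ huU)) (U.smul_mem _ (U.smul_mem _ hw))
  · push Not at hiso
    obtain ⟨v', hv'⟩ := sep0 C.hB hu0
    refine hinv2 u v' hv' ?_
    intro x hx
    rw [inv2_smul C.hB hv', orth_symm C.hB (hiso x hx), mul_zero, zero_smul, sub_zero]
    exact U.add_mem (U.neg_mem hx) (U.smul_mem _ huU)

end Cfsg.Agent.H172.IF
end

-- part: H172/Cov/Lin
section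
/-!
# S2499, the orthogonal groups over the field of two elements: linear algebra (helper172)

`x` an endomorphism of finite order prime to the characteristic: dimensions of invariant subspaces.
-/

set_option autoImplicit false
set_option linter.unusedSectionVars false

namespace Cfsg.Agent.H172.Cov

open Module
open Cfsg.Agent.H383.Cov (coprime_ne_zero eq_zero_of_fix exists_fix finrank_add dvd_of_dvd_pow_sub dvd_of_free)

variable {F V : Type*} [Field F] [Finite F] [AddCommGroup V] [Module F V] [FiniteDimensional F V]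

/-- an invariant subspace is the sum of its intersections with `ker (x - 1)` and `range (x - 1)` -/
theorem split {x : Module.End F V} {M : ℕ} (hx : x ^ M = 1) (hq : M.Coprime (Nat.card F)) {W : Submodule F V}
    (hW : ∀ w ∈ W, x w ∈ W) :
    finrank F (W ⊓ LinearMap.ker (x - 1) : Submodule F V) + finrank F (W ⊓ LinearMap.range (x - 1) : Submodule F V) =
      finrank F W := by
  have hdis : (W ⊓ LinearMap.ker (x - 1)) ⊓ (W ⊓ LinearMap.range (x - 1)) = ⊥ := by
    rw [eq_bot_iff]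
    rintro v ⟨⟨-, h1⟩, ⟨-, u, hu⟩⟩
    rw [Submodule.mem_bot]
    exact eq_zero_of_fix hx hq (v := u) hu.symm (sub_eq_zero.1 h1)
  have hsup : (W ⊓ LinearMap.ker (x - 1)) ⊔ (W ⊓ LinearMap.range (x - 1)) = W := by
    apply le_antisymm (sup_le inf_le_left inf_le_left)
    -- restrict to `W`
    intro w hw
    have hres : (x.restrict hW) ^ M = 1 := by
      apply LinearMap.ext
      intro v
      apply Subtype.ext
      rw [Module.End.pow_restrict]
      simp only [hx, _root_.LinearMap.coe_restrict_apply, _root_.Module.End.one_apply]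
    obtain ⟨a, b, ha, hb⟩ := exists_fix hres hq (⟨w, hw⟩ : W)
    have ha' : x (a : V) = a := congrArg Subtype.val ha
    have hb' : w = (a : V) + (x (b : V) - b) := congrArg Subtype.val hb
    rw [hb']
    refine Submodule.add_mem_sup ⟨a.2, ?_⟩ ⟨W.sub_mem (hW _ b.2) b.2, b, rfl⟩
    change x (a : V) - a = 0
    rw [ha', sub_self]
  have h1 := Submodule.finrank_sup_add_finrank_inf_eq (W ⊓ LinearMap.ker (x - 1)) (W ⊓ LinearMap.range (x - 1))
  rw [hdis, hsup, finrank_bot] at h1
  omega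

/-- `c` divides the dimension of `W ⊓ range (x - 1)` -/
theorem dvd_range {x : Module.End F V} {r c : ℕ} (hr : r.Prime) (hq : r.Coprime (Nat.card F)) (hx : x ^ r = 1) (hc : 1 ≤ c)
    (h1 : r ∣ Nat.card F ^ c - 1) (h2 : ∀ i, 1 ≤ i → i < c → ¬ r ∣ Nat.card F ^ i - 1)
    {W : Submodule F V} (hW : ∀ w ∈ W, x w ∈ W) :
    c ∣ finrank F (W ⊓ LinearMap.range (x - 1) : Submodule F V) := by
  refine dvd_of_free hr hx hc h1 h2 (W := W ⊓ LinearMap.range (x - 1)) ?_ ?_
  · rintro u ⟨h3, v, rfl⟩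
    refine ⟨hW _ h3, x v, ?_⟩
    rw [← Module.End.mul_apply, ← Module.End.mul_apply, sub_mul, mul_sub, one_mul, mul_one]
  · rintro u ⟨-, v, hv⟩ hf
    exact eq_zero_of_fix hx hq (v := v) hv.symm hf

/-- `W ⊓ ker (x - 1)` is invariant under everything commuting with `x` -/
theorem ker_inv {x y : Module.End F V} (hxy : x * y = y * x) {W : Submodule F V} (hW : ∀ w ∈ W, y w ∈ W) :
    ∀ w ∈ W ⊓ LinearMap.ker (x - 1), y w ∈ W ⊓ LinearMap.ker (x - 1) := by
  rintro w ⟨h1, h2⟩
  refine ⟨hW w h1, ?_⟩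
  have h3 : x w = w := sub_eq_zero.1 h2
  change x (y w) - y w = 0
  rw [← Module.End.mul_apply, hxy, Module.End.mul_apply, h3, sub_self]

/-- the numerical data of a prime `r` with `q` of order `c` modulo `r` -/
structure Pr (q r c : ℕ) : Prop where
  prime : r.Prime
  cop : r.Coprime q
  pos : 1 ≤ c
  dvd : r ∣ q ^ c - 1
  min : ∀ i, 1 ≤ i → i < c → ¬ r ∣ q ^ i - 1

theorem Pr.dvd_range {r c : ℕ} (h : Pr (Nat.card F) r c) {x : Module.End F V} (hx : x ^ r = 1)
    {W : Submodule F V} (hW : ∀ w ∈ W, x w ∈ W) :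
    c ∣ finrank F (W ⊓ LinearMap.range (x - 1) : Submodule F V) :=
  Cov.dvd_range h.prime h.cop hx h.pos h.dvd h.min hW

theorem Pr.dvd_free {r c : ℕ} (h : Pr (Nat.card F) r c) {x : Module.End F V} (hx : x ^ r = 1)
    {W : Submodule F V} (hW : ∀ w ∈ W, x w ∈ W) (hfr : ∀ w ∈ W, x w = w → w = 0) : c ∣ finrank F W :=
  dvd_of_free h.prime hx h.pos h.dvd h.min hW hfr

/-- one prime: `dim W = a + b`, `c ∣ b`, `a ≤ dim ker`, `b ≤ dim range` -/
theorem Pr.one {r c : ℕ} (h : Pr (Nat.card F) r c) {x : Module.End F V} (hx : x ^ r = 1)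
    {W : Submodule F V} (hW : ∀ w ∈ W, x w ∈ W) :
    ∃ a b, finrank F W = a + b ∧ c ∣ b ∧ a ≤ finrank F (LinearMap.ker (x - 1)) ∧
      b ≤ finrank F (LinearMap.range (x - 1)) :=
  ⟨_, _, (split hx h.cop hW).symm, h.dvd_range hx hW, Submodule.finrank_mono inf_le_right,
    Submodule.finrank_mono inf_le_right⟩

/-- two primes: `x`, `y` commute, without common fixed vectors -/
theorem Pr.two {r c s d : ℕ} (h : Pr (Nat.card F) r c) (h' : Pr (Nat.card F) s d) {x y : Module.End F V}
    (hx : x ^ r = 1) (hy : y ^ s = 1) (hxy : x * y = y * x) (hfr : ∀ v, x v = v → y v = v → v = 0)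
    {W : Submodule F V} (hW : ∀ w ∈ W, x w ∈ W) (hW' : ∀ w ∈ W, y w ∈ W) :
    ∃ a b, finrank F W = a + b ∧ c ∣ b ∧ d ∣ a ∧ a ≤ finrank F (LinearMap.ker (x - 1)) ∧
      b ≤ finrank F (LinearMap.range (x - 1)) := by
  refine ⟨_, _, (split hx h.cop hW).symm, h.dvd_range hx hW, ?_, Submodule.finrank_mono inf_le_right,
    Submodule.finrank_mono inf_le_right⟩
  refine h'.dvd_free hy (ker_inv hxy hW') ?_
  rintro w ⟨-, h2⟩ h3
  exact hfr w (sub_eq_zero.1 h2) h3

/-- the total dimensions for one prime -/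
theorem Pr.tot {r c : ℕ} (h : Pr (Nat.card F) r c) {x : Module.End F V} (hx : x ^ r = 1) :
    finrank F (LinearMap.range (x - 1)) + finrank F (LinearMap.ker (x - 1)) = finrank F V ∧
      c ∣ finrank F (LinearMap.range (x - 1)) := by
  refine ⟨finrank_add, ?_⟩
  have := h.dvd_range hx (W := ⊤) (fun _ _ => trivial)
  rwa [top_inf_eq] at this

theorem range_pos {x : Module.End F V} (hx : x ≠ 1) : 0 < finrank F (LinearMap.range (x - 1)) := by
  rw [Nat.pos_iff_ne_zero]
  intro h
  apply hx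
  rw [Submodule.finrank_eq_zero] at h
  exact sub_eq_zero.1 (LinearMap.range_eq_bot.1 h)

/-- the total dimensions for two primes -/
theorem Pr.tot2 {r c s d : ℕ} (h : Pr (Nat.card F) r c) (h' : Pr (Nat.card F) s d) {x y : Module.End F V}
    (hx : x ^ r = 1) (hy : y ^ s = 1) (hxy : x * y = y * x) (hfr : ∀ v, x v = v → y v = v → v = 0) :
    finrank F (LinearMap.range (x - 1)) + finrank F (LinearMap.ker (x - 1)) = finrank F V ∧
      c ∣ finrank F (LinearMap.range (x - 1)) ∧ d ∣ finrank F (LinearMap.ker (x - 1)) := by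
  refine ⟨finrank_add, (h.tot hx).2, ?_⟩
  have h1 := h'.dvd_free (W := ⊤ ⊓ LinearMap.ker (x - 1)) hy (ker_inv hxy fun _ _ => trivial) ?_
  · rwa [top_inf_eq] at h1
  · rintro w ⟨-, h2⟩ h3
    exact hfr w (sub_eq_zero.1 h2) h3

end Cfsg.Agent.H172.Cov
end

-- part: H172/IF/Irr
section
/-!
# S5719, `PSp_4(q)`, `q` odd, rank one: isometries of order dividing `q ^ 2 + 1` (helper172)

* `irr` : an element of prime order `r`, `r` primitive divisor of `q ^ 4 - 1`, is irreducible on a space of dimension 4;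
* `exists_poly`, `adj`, `frob` : its centraliser;
* `card_cent` : at most `q ^ 2 + 1` isometries commute with it;
* `card_norm` : a group of isometries conjugating `x` into its centraliser has at most `4 (q ^ 2 + 1)` elements.
-/

set_option autoImplicit false
set_option linter.unusedSectionVars false

namespace Cfsg.Agent.H172.IF

open Module Polynomial Cfsg.Agent.H74.Psp
open Cfsg.Agent.H172.Cov (Pr)

section lin

variable {F V : Type*} [Field F] [Finite F] [AddCommGroup V] [Module F V] [FiniteDimensional F V]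

theorem irr {x : Module.End F V} {r : ℕ} (P : Pr (Nat.card F) r 4) (hx : x ^ r = 1) (hx1 : x ≠ 1) (hd : finrank F V = 4)
    {W : Submodule F V} (hW : ∀ w ∈ W, x w ∈ W) : W = ⊥ ∨ W = ⊤ := by
  obtain ⟨h1, h2⟩ := P.tot hx
  have h3 := Cov.range_pos hx1
  rw [hd] at h1
  have h4 : finrank F (LinearMap.ker (x - 1)) = 0 := by omega
  have h5 : LinearMap.ker (x - 1) = ⊥ := Submodule.finrank_eq_zero.1 h4
  have h6 : 4 ∣ finrank F W := P.dvd_free hx hW fun w _ hw => by
    have : w ∈ LinearMap.ker (x - 1) := by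
      rw [LinearMap.mem_ker, LinearMap.sub_apply, Module.End.one_apply, hw, sub_self]
    rw [h5] at this
    exact (Submodule.mem_bot F).1 this
  have h7 : finrank F W ≤ 4 := hd ▸ Submodule.finrank_le W
  have h8 : finrank F W = 0 ∨ finrank F W = 4 := by omega
  rcases h8 with h | h
  · exact Or.inl (Submodule.finrank_eq_zero.1 h)
  · exact Or.inr (Submodule.eq_top_of_finrank_eq (h.trans hd.symm))

theorem exists_poly {x : Module.End F V} (hnt : Nontrivial V)
    (hirr : ∀ W : Submodule F V, (∀ w ∈ W, x w ∈ W) → W = ⊥ ∨ W = ⊤) {g : Module.End F V} (hg : g * x = x * g) :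
    ∃ P : F[X], g = aeval x P := by
  obtain ⟨v, hv⟩ := exists_ne (0 : V)
  let W : Submodule F V := LinearMap.range ((LinearMap.applyₗ (R := F) v).comp (aeval x : F[X] →ₐ[F] Module.End F V).toLinearMap)
  have hWm : ∀ w, w ∈ W ↔ ∃ P : F[X], aeval x P v = w := fun w => Iff.rfl
  have h1 : W = ⊤ := by
    refine (hirr W ?_).resolve_left ?_
    · intro w hw
      obtain ⟨P, rfl⟩ := (hWm w).1 hw
      rw [hWm]
      refine ⟨X * P, ?_⟩
      rw [map_mul, aeval_X, Module.End.mul_apply]
    · intro h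
      have h2 : v ∈ W := (hWm v).2 ⟨1, by rw [map_one, Module.End.one_apply]⟩
      rw [h] at h2
      exact hv ((Submodule.mem_bot F).1 h2)
  obtain ⟨P, hP⟩ := (hWm (g v)).1 (by rw [h1]; trivial)
  refine ⟨P, ?_⟩
  have h2 : LinearMap.ker (g - aeval x P) = ⊤ := by
    refine (hirr _ ?_).resolve_left ?_
    · intro w hw
      rw [LinearMap.mem_ker, LinearMap.sub_apply, sub_eq_zero] at hw ⊢
      have h3 : g (x w) = x (g w) := congrArg (fun f : Module.End F V => f w) hg
      have h4 : aeval x P (x w) = x (aeval x P w) := by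
        have h5 : aeval x P * x = x * aeval x P := by
          have h6 : aeval x (P * X) = aeval x (X * P) := by rw [mul_comm]
          rwa [map_mul, map_mul, aeval_X] at h6
        exact congrArg (fun f : Module.End F V => f w) h5
      rw [h3, h4, hw]
    · intro h
      have h3 : v ∈ LinearMap.ker (g - aeval x P) := by
        rw [LinearMap.mem_ker, LinearMap.sub_apply, hP, sub_self]
      rw [h] at h3
      exact hv ((Submodule.mem_bot F).1 h3)
  apply LinearMap.ext
  intro w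
  have h3 : w ∈ LinearMap.ker (g - aeval x P) := by rw [h2]; trivial
  rw [LinearMap.mem_ker, LinearMap.sub_apply, sub_eq_zero] at h3
  exact h3

/-- the polynomials in `x` form a domain -/
theorem aeval_mul_ne {x : Module.End F V}
    (hirr : ∀ W : Submodule F V, (∀ w ∈ W, x w ∈ W) → W = ⊥ ∨ W = ⊤) {P Q : F[X]} (h : aeval x P * aeval x Q = 0) :
    aeval x P = 0 ∨ aeval x Q = 0 := by
  have h1 : ∀ w ∈ LinearMap.ker (aeval x P), x w ∈ LinearMap.ker (aeval x P) := by
    intro w hw
    rw [LinearMap.mem_ker] at hw ⊢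
    have h5 : aeval x P * x = x * aeval x P := by
      have h6 : aeval x (P * X) = aeval x (X * P) := by rw [mul_comm]
      rwa [map_mul, map_mul, aeval_X] at h6
    have h6 : aeval x P (x w) = x (aeval x P w) := congrArg (fun f : Module.End F V => f w) h5
    rw [h6, hw, map_zero]
  rcases hirr _ h1 with h2 | h2
  · right
    apply LinearMap.ext
    intro w
    have h3 : aeval x Q w ∈ LinearMap.ker (aeval x P) := by
      rw [LinearMap.mem_ker]
      exact congrArg (fun f : Module.End F V => f w) h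
    rw [h2] at h3
    exact (Submodule.mem_bot F).1 h3
  · left
    exact LinearMap.ker_eq_top.1 h2

/-- the ring of the polynomials in `x` -/
theorem isDomain_quot {x : Module.End F V} (hnt : Nontrivial V)
    (hirr : ∀ W : Submodule F V, (∀ w ∈ W, x w ∈ W) → W = ⊥ ∨ W = ⊤) :
    IsDomain (F[X] ⧸ RingHom.ker (aeval x : F[X] →ₐ[F] Module.End F V)) := by
  rw [Ideal.Quotient.isDomain_iff_prime]
  refine ⟨?_, ?_⟩
  · rw [Ne, Ideal.eq_top_iff_one, RingHom.mem_ker, map_one]
    obtain ⟨v, hv⟩ := exists_ne (0 : V)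
    intro h
    exact hv (congrArg (fun f : Module.End F V => f v) h)
  · intro P Q hPQ
    rw [RingHom.mem_ker] at hPQ ⊢
    rw [RingHom.mem_ker]
    exact aeval_mul_ne hirr (by rw [← map_mul]; exact hPQ)

end lin

section isom

variable {F V : Type*} [Field F] [Finite F] [AddCommGroup V] [Module F V] [Finite V] {B : V →ₗ[F] V →ₗ[F] F}

/-- the endomorphism -/
def en : Sp B →* Module.End F V where
  toFun g := ((g : V ≃ₗ[F] V) : V →ₗ[F] V)
  map_one' := rfl
  map_mul' _ _ := rfl

theorem en_apply (g : Sp B) (v : V) : en g v = g • v := rfl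

theorem en_injective : Function.Injective (en : Sp B → Module.End F V) := by
  intro g h hgh
  apply Sp.ext'
  intro x
  rw [← en_apply, hgh, en_apply]

/-- the adjoint of a polynomial in an isometry -/
theorem adj (x : Sp B) (P : F[X]) (u v : V) : B (aeval (en x) P u) v = B u (aeval (en x⁻¹) P v) := by
  induction P using Polynomial.induction_on' generalizing u v with
  | add p q hp hq => rw [map_add, map_add, LinearMap.add_apply, LinearMap.add_apply, map_add, LinearMap.add_apply, map_add, hp, hq]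
  | monomial n a =>
    rw [aeval_monomial, aeval_monomial, Module.End.mul_apply, Module.End.mul_apply, Module.algebraMap_end_apply,
      Module.algebraMap_end_apply, map_smul, LinearMap.smul_apply, map_smul, ← map_pow, ← map_pow, en_apply, en_apply,
      B_smul_left, inv_pow]

/-- the Frobenius map -/
theorem frob (x : Module.End F V) (P : F[X]) :
    (aeval x P) ^ (Nat.card F * Nat.card F) = aeval (x ^ (Nat.card F * Nat.card F)) P := by
  have := Fintype.ofFinite F
  rw [Nat.card_eq_fintype_card, ← map_pow, pow_mul, ← FiniteField.expand_card, ← FiniteField.expand_card, expand_aeval,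
    expand_aeval, ← pow_mul]

/-- an isometry commuting with the irreducible isometry `x` of order dividing `q ^ 2 + 1` -/
theorem pow_eq_one (hnt : Nontrivial V) (hB : Symp B) {x : Sp B}
    (hirr : ∀ W : Submodule F V, (∀ w ∈ W, en x w ∈ W) → W = ⊥ ∨ W = ⊤)
    (hx : x ^ (Nat.card F * Nat.card F + 1) = 1) {g : Sp B} (hg : g * x = x * g) :
    g ^ (Nat.card F * Nat.card F + 1) = 1 := by
  obtain ⟨P, hP⟩ := exists_poly hnt hirr (g := en g) (by rw [← map_mul, hg, map_mul])
  have h1 : x ^ (Nat.card F * Nat.card F) = x⁻¹ := by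
    rw [eq_inv_iff_mul_eq_one, ← pow_succ, hx]
  have h2 : en (g ^ (Nat.card F * Nat.card F)) = aeval (en x⁻¹) P := by
    rw [map_pow, hP, frob, ← map_pow, h1]
  have h3 : g ^ (Nat.card F * Nat.card F) = g⁻¹ := by
    apply Sp.ext'
    intro v
    rw [← sub_eq_zero]
    apply hB.nd
    intro u
    rw [skew hB, map_sub, ← en_apply, h2, ← adj, ← hP, en_apply, B_smul_left, sub_self, neg_zero]
  rw [pow_succ, h3, inv_mul_cancel]

theorem exists_root (hnt : Nontrivial V) {x : Sp B}
    (hirr : ∀ W : Submodule F V, (∀ w ∈ W, en x w ∈ W) → W = ⊥ ∨ W = ⊤) {g : Sp B} (hg : g * x = x * g) :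
    ∃ y : F[X] ⧸ RingHom.ker (aeval (en x) : F[X] →ₐ[F] Module.End F V),
      Ideal.kerLiftAlg (aeval (en x) : F[X] →ₐ[F] Module.End F V) y = en g := by
  obtain ⟨P, hP⟩ := exists_poly hnt hirr (g := en g) (by rw [← map_mul, hg, map_mul])
  exact ⟨Ideal.Quotient.mk _ P, by rw [hP]; rfl⟩

/-- **the centraliser** -/
theorem card_cent (hnt : Nontrivial V) (hB : Symp B) {x : Sp B}
    (hirr : ∀ W : Submodule F V, (∀ w ∈ W, en x w ∈ W) → W = ⊥ ∨ W = ⊤)
    (hx : x ^ (Nat.card F * Nat.card F + 1) = 1) {C : Subgroup (Sp B)} (hC : ∀ g ∈ C, g * x = x * g) :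
    Nat.card C ≤ Nat.card F * Nat.card F + 1 := by
  classical
  have hdom := isDomain_quot (x := en x) hnt hirr
  choose f hf using fun g : C => exists_root hnt hirr (hC g g.2)
  have hinj := Ideal.kerLiftAlg_injective (aeval (en x) : F[X] →ₐ[F] Module.End F V)
  have hfi : Function.Injective f := by
    intro g h hgh
    have h1 := hf g
    rw [hgh, hf h] at h1
    exact Subtype.ext (en_injective h1.symm)
  have hmem : ∀ g, f g ∈ nthRootsFinset (Nat.card F * Nat.card F + 1)
      (1 : F[X] ⧸ RingHom.ker (aeval (en x) : F[X] →ₐ[F] Module.End F V)) := by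
    intro g
    rw [mem_nthRootsFinset (Nat.succ_pos _)]
    apply hinj
    rw [map_pow, hf, ← map_pow, pow_eq_one hnt hB hirr hx (hC g g.2), map_one, map_one]
  have h1 : Nat.card C ≤ Nat.card (nthRootsFinset (Nat.card F * Nat.card F + 1)
      (1 : F[X] ⧸ RingHom.ker (aeval (en x) : F[X] →ₐ[F] Module.End F V))) :=
    Nat.card_le_card_of_injective (fun g => ⟨f g, hmem g⟩) fun g h hgh => hfi (congrArg Subtype.val hgh)
  refine h1.trans (le_of_eq_of_le (Nat.card_eq_fintype_card.trans (Fintype.card_coe _)) ?_)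
  rw [nthRootsFinset]
  exact (Multiset.toFinset_card_le _).trans (card_nthRoots _ _)

/-- **the normaliser** -/
theorem card_norm (hnt : Nontrivial V) (hB : Symp B) {x : Sp B}
    (hirr : ∀ W : Submodule F V, (∀ w ∈ W, en x w ∈ W) → W = ⊥ ∨ W = ⊤)
    (hx : x ^ (Nat.card F * Nat.card F + 1) = 1) (hd : finrank F V = 4) {M : Subgroup (Sp B)}
    (hM : ∀ g ∈ M, (g * x * g⁻¹) * x = x * (g * x * g⁻¹)) :
    Nat.card M ≤ 4 * (Nat.card F * Nat.card F + 1) := by
  classical
  have hdom := isDomain_quot (x := en x) hnt hirr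
  have hMf : Fintype M := Fintype.ofFinite M
  choose f hf using fun g : M => exists_root hnt hirr (hM g g.2)
  have hinj := Ideal.kerLiftAlg_injective (aeval (en x) : F[X] →ₐ[F] Module.End F V)
  have hint : IsIntegral F (en x) := Algebra.IsIntegral.isIntegral _
  -- the values are roots of the minimal polynomial
  have hroot : ∀ g, f g ∈ ((minpoly F (en x)).aroots
      (F[X] ⧸ RingHom.ker (aeval (en x) : F[X] →ₐ[F] Module.End F V))).toFinset := by
    intro g
    rw [Multiset.mem_toFinset, mem_aroots]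
    refine ⟨minpoly.ne_zero hint, hinj ?_⟩
    rw [← aeval_algHom_apply, hf, map_zero]
    have h1 : en ((g : Sp B) * x * (g : Sp B)⁻¹) = (LinearEquiv.conjAlgEquiv F ((g : Sp B) : V ≃ₗ[F] V)) (en x) := rfl
    rw [h1, aeval_algHom_apply, minpoly.aeval, map_zero]
  have hcard : ((minpoly F (en x)).aroots
      (F[X] ⧸ RingHom.ker (aeval (en x) : F[X] →ₐ[F] Module.End F V))).toFinset.card ≤ 4 := by
    refine (Multiset.toFinset_card_le _).trans ?_
    refine (card_roots' _).trans ?_
    refine (natDegree_map_le).trans ?_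
    rw [← hd, ← LinearMap.charpoly_natDegree (en x)]
    exact natDegree_le_of_dvd (LinearMap.minpoly_dvd_charpoly _) (LinearMap.charpoly_monic _).ne_zero
  -- the fibres
  let C : Subgroup (Sp B) := Subgroup.centralizer {x}
  have hCf : Fintype C := Fintype.ofFinite C
  have hC : ∀ g ∈ C, g * x = x * g := fun g hg => (Subgroup.mem_centralizer_singleton_iff.1 hg)
  have hfib : ∀ b ∈ ((Finset.univ : Finset M).image f :),
      ((Finset.univ : Finset M).filter fun g => f g = b).card ≤ Nat.card F * Nat.card F + 1 := by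
    intro b hb
    obtain ⟨g₀, -, rfl⟩ := Finset.mem_image.1 hb
    refine le_trans ?_ (card_cent hnt hB hirr hx hC)
    rw [Nat.card_eq_fintype_card, ← Finset.card_univ]
    refine Finset.card_le_card_of_injOn (fun g => if h : (g₀ : Sp B)⁻¹ * g ∈ C then ⟨_, h⟩ else 1) (fun _ _ => Finset.mem_coe.2 (Finset.mem_univ _)) ?_
    have key : ∀ g : M, f g = f g₀ → (g₀ : Sp B)⁻¹ * g ∈ C := by
      intro g hg
      have h1 := hf g
      rw [hg, hf g₀] at h1
      have h2 := en_injective h1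
      rw [Subgroup.mem_centralizer_singleton_iff]
      have h3 : (g : Sp B) * x = ((g₀ : Sp B) * x * (g₀ : Sp B)⁻¹) * g := by rw [h2]; group
      rw [mul_assoc, h3]
      group
    intro g hg g' hg' h
    rw [Finset.mem_coe, Finset.mem_filter] at hg hg'
    simp only [dif_pos (key g hg.2), dif_pos (key g' hg'.2), Subtype.mk.injEq] at h
    exact Subtype.ext (mul_left_cancel h)
  have h1 := (Finset.card_le_mul_card_image (Finset.univ : Finset M) _ hfib :)
  have h2 : ((Finset.univ : Finset M).image f).card ≤ 4 := by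
    refine (Finset.card_le_card ?_).trans hcard
    intro b hb
    obtain ⟨g, -, rfl⟩ := Finset.mem_image.1 hb
    exact hroot g
  rw [Nat.card_eq_fintype_card, ← Finset.card_univ, mul_comm 4]
  exact h1.trans (Nat.mul_le_mul_left _ h2)

end isom

end Cfsg.Agent.H172.IF
end

-- part: H172/IF/One
section
/-!
# S5719, `PSp_4(q)`, `q` odd: point stabilisers of 2-rank one (helper172)

* `irr_kill` : `r` divides `q ^ 2 + 1`;
* `caseB1` : no point stabiliser of 2-rank one without involutions of type `t₁`.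
-/

set_option autoImplicit false
set_option linter.unusedSectionVars false

namespace Cfsg.Agent.H172.IF

open Subgroup Module Cfsg.Agent.H74.Psp Cfsg.Agent.H209.Fxy Cfsg.Agent.H804.P4
open Cfsg.Agent.H172.Cov (Pr)

variable {F V T : Type} [Field F] [Finite F] [AddCommGroup V] [Module F V] [Finite V] [Group T] [Finite T]
  {B : V →ₗ[F] V →ₗ[F] F} {π : Sp B →* T} {A : Subgroup T} {Γ : Subgroup (MulAut T)} {r : ℕ} {R : Subgroup T}

/-- the lifts of a subgroup -/
theorem card_comap (C : Ctx π) (A : Subgroup T) : Nat.card (A.comap π) = 2 * Nat.card A := by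
  have h1 : (A.comap π).index = A.index := Subgroup.index_comap_of_surjective A C.surj
  have h2 : Nat.card (Sp B) = 2 * Nat.card T := by
    rw [Subgroup.card_eq_card_quotient_mul_card_subgroup π.ker,
      Nat.card_congr (QuotientGroup.quotientKerEquivOfSurjective π C.surj).toEquiv, mul_comm]
    congr 1
    have h3 : (π.ker : Set (Sp B)) = {1, negOne B} := by
      ext g
      rw [SetLike.mem_coe, MonoidHom.mem_ker, Set.mem_insert_iff, Set.mem_singleton_iff]
      constructor
      · exact C.ker g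
      · rintro (rfl | rfl)
        · exact map_one π
        · exact C.neg
    have h4 : Nat.card π.ker = (π.ker : Set (Sp B)).ncard := rfl
    rw [h4, h3, Set.ncard_pair C.negOne_ne.symm]
  have h3 := (A.comap π).index_mul_card
  have h4 := A.index_mul_card
  have h5 : 0 < A.index := Nat.pos_of_ne_zero Subgroup.index_ne_zero_of_finite
  rw [h1, h2, ← h4] at h3
  apply Nat.eq_of_mul_eq_mul_left h5
  rw [h3]
  ring

/-- arithmetic of a primitive divisor of `q ^ 4 - 1` -/
theorem pr_four {q r : ℕ} (hq : 1 ≤ q) (hr : r.Prime) (hodd : Odd r) (hd : r ∣ q * q + 1) : Pr q r 4 := by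
  have h2 : ¬ r ∣ 2 := by
    intro h
    have h3 := (Nat.prime_dvd_prime_iff_eq hr Nat.prime_two).1 h
    rw [h3] at hodd
    exact absurd hodd (by decide)
  have hcop : r.Coprime q := by
    rw [Nat.Prime.coprime_iff_not_dvd hr]
    intro h
    have h3 : r ∣ 1 := (Nat.dvd_add_right (dvd_mul_of_dvd_left h q)).1 hd
    exact hr.one_lt.ne' (Nat.dvd_one.1 h3)
  obtain ⟨k, rfl⟩ : ∃ k, q = k + 1 := ⟨q - 1, by omega⟩
  have e2 : (k + 1) ^ 2 - 1 = k * (k + 2) := by
    have : (k + 1) ^ 2 = k * (k + 2) + 1 := by ring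
    omega
  have n2 : ¬ r ∣ (k + 1) ^ 2 - 1 := by
    intro h
    apply h2
    have h3 : (k + 1) * (k + 1) + 1 = ((k + 1) ^ 2 - 1) + 2 := by
      rw [e2]; ring
    rw [h3] at hd
    exact (Nat.dvd_add_right h).1 hd
  have n1 : ¬ r ∣ k := fun h => n2 (by rw [e2]; exact dvd_mul_of_dvd_left h _)
  refine ⟨hr, hcop, by norm_num, ?_, ?_⟩
  · have e4 : (k + 1) ^ 4 - 1 = ((k + 1) * (k + 1) + 1) * (k * (k + 2)) := by
      have : (k + 1) ^ 4 = ((k + 1) * (k + 1) + 1) * (k * (k + 2)) + 1 := by ring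
      omega
    rw [e4]
    exact dvd_mul_of_dvd_left hd _
  · intro i h1 h4 hdi
    interval_cases i
    · rw [pow_one, Nat.add_sub_cancel] at hdi
      exact n1 hdi
    · exact n2 hdi
    · -- `q ^ 3 = 1`, `q ^ 2 = -1`
      have e3 : (k + 1) ^ 3 - 1 = k * (k ^ 2 + 3 * k + 3) := by
        have : (k + 1) ^ 3 = k * (k ^ 2 + 3 * k + 3) + 1 := by ring
        omega
      rw [e3] at hdi
      rcases (Nat.Prime.dvd_mul hr).1 hdi with h | h
      · exact n1 h
      · -- `r ∣ k² + 3k + 3`, `r ∣ k² + 2k + 2`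
        have e5 : k ^ 2 + 3 * k + 3 = ((k + 1) * (k + 1) + 1) + (k + 1) := by ring
        rw [e5] at h
        have h6 : r ∣ k + 1 := (Nat.dvd_add_right hd).1 h
        have h7 : r ∣ 1 := (Nat.dvd_add_right (dvd_mul_of_dvd_left h6 _)).1 hd
        exact hr.one_lt.ne' (Nat.dvd_one.1 h7)

/-- the final inequality -/
theorem numerics {q c k ρ N : ℕ} (hq : 3 ≤ q) (hN : 2 * N = q ^ 4 * ((q ^ 2 - 1) * (q ^ 4 - 1)))
    (hc : q * (q ^ 2 - 1) * (q - 1) ≤ 2 * c) (hk : 5 * k ≤ 2 * (q * q + 1)) (h1 : c ≤ ρ * k) (h2 : ρ ^ 5 * c < N) :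
    False := by
  obtain ⟨m, rfl⟩ : ∃ m, q = m + 3 := ⟨q - 3, by omega⟩
  have e1 : (m + 3) ^ 2 - 1 = (m + 2) * (m + 4) := by
    have : (m + 3) ^ 2 = (m + 2) * (m + 4) + 1 := by ring
    omega
  have e2 : (m + 3) ^ 4 - 1 = (m + 2) * (m + 4) * ((m + 3) * (m + 3) + 1) := by
    have : (m + 3) ^ 4 = (m + 2) * (m + 4) * ((m + 3) * (m + 3) + 1) + 1 := by ring
    omega
  have e3 : m + 3 - 1 = m + 2 := rfl
  rw [e1, e2] at hN
  rw [e1, e3] at hc
  set S := (m + 3) * (m + 3) + 1 with hS
  set D := (m + 2) * (m + 4) with hD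
  -- `c ^ 6 < k ^ 5 N`
  have h3 : c ^ 6 < k ^ 5 * N ∨ c = 0 := by
    rcases Nat.eq_zero_or_pos c with h | h
    · exact Or.inr h
    left
    have hk0 : 0 < k := by
      rcases Nat.eq_zero_or_pos k with h' | h'
      · rw [h', mul_zero] at h1; omega
      · exact h'
    calc c ^ 6 = c ^ 5 * c := by ring
      _ ≤ (ρ * k) ^ 5 * c := Nat.mul_le_mul_right _ (Nat.pow_le_pow_left h1 5)
      _ = k ^ 5 * (ρ ^ 5 * c) := by ring
      _ < k ^ 5 * N := Nat.mul_lt_mul_of_pos_left h2 (by positivity)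
  have hc0 : 0 < c := by
    have : 0 < (m + 3) * D * (m + 2) := by (clear * -; positivity)
    omega
  have h4 : c ^ 6 < k ^ 5 * N := h3.resolve_right (by omega)
  -- multiply out
  have h5 : (5 ^ 5 * ((m + 3) * D * (m + 2)) ^ 6) < 1024 * S ^ 6 * ((m + 3) ^ 4 * D ^ 2) := by
    calc 5 ^ 5 * ((m + 3) * D * (m + 2)) ^ 6 ≤ 5 ^ 5 * (2 * c) ^ 6 :=
          Nat.mul_le_mul_left _ (Nat.pow_le_pow_left hc 6)
      _ = 5 ^ 5 * 64 * c ^ 6 := by ring
      _ < 5 ^ 5 * 64 * (k ^ 5 * N) := Nat.mul_lt_mul_of_pos_left h4 (by norm_num)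
      _ = 32 * (5 * k) ^ 5 * (2 * N) := by ring
      _ ≤ 32 * (2 * S) ^ 5 * (2 * N) := Nat.mul_le_mul_right _ (Nat.mul_le_mul_left _ (Nat.pow_le_pow_left hk 5))
      _ = 1024 * S ^ 6 * ((m + 3) ^ 4 * D ^ 2) := by rw [hN]; ring
  -- the opposite inequality
  have h6 : 4 * S ≤ 5 * D := by
    rw [hS, hD]
    nlinarith only []
  have h7 : S ≤ (m + 3) * (m + 2) ^ 3 := by
    rw [hS]
    nlinarith only [Nat.zero_le (m ^ 3)]
  have h8 : 1024 * S ^ 6 * ((m + 3) ^ 4 * D ^ 2) ≤ 5 ^ 5 * ((m + 3) * D * (m + 2)) ^ 6 := by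
    have h9 : 256 * S ^ 4 ≤ 625 * D ^ 4 := by
      have := Nat.pow_le_pow_left h6 4
      calc 256 * S ^ 4 = (4 * S) ^ 4 := by ring
        _ ≤ (5 * D) ^ 4 := this
        _ = 625 * D ^ 4 := by ring
    have h10 : S ^ 2 ≤ (m + 3) ^ 2 * (m + 2) ^ 6 := by
      calc S ^ 2 ≤ ((m + 3) * (m + 2) ^ 3) ^ 2 := Nat.pow_le_pow_left h7 2
        _ = _ := by ring
    calc 1024 * S ^ 6 * ((m + 3) ^ 4 * D ^ 2) = 4 * ((256 * S ^ 4) * S ^ 2) * ((m + 3) ^ 4 * D ^ 2) := by ring
      _ ≤ 4 * ((625 * D ^ 4) * ((m + 3) ^ 2 * (m + 2) ^ 6)) * ((m + 3) ^ 4 * D ^ 2) :=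
          Nat.mul_le_mul_right _ (Nat.mul_le_mul_left _ (Nat.mul_le_mul h9 h10))
      _ = 2500 * ((m + 3) * D * (m + 2)) ^ 6 := by ring
      _ ≤ _ := Nat.mul_le_mul_right _ (by norm_num)
  omega

theorem odd_card (h2 : (2 : F) ≠ 0) : Odd (Nat.card F) := by
  have := Fintype.ofFinite F
  rw [Nat.card_eq_fintype_card, Nat.odd_iff]
  apply FiniteField.odd_card_of_char_ne_two
  intro h
  apply h2
  have h3 : ((2 : ℕ) : F) = 0 := by rw [← h]; exact ringChar.Nat.cast_ringChar
  exact_mod_cast h3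

theorem finrank_eq (C : Ctx π) : finrank F V = 4 := by
  have h1 : Nat.card V = Nat.card F ^ finrank F V := Module.natCard_eq_pow_finrank
  rw [C.hV] at h1
  exact (Nat.pow_right_injective (show 2 ≤ Nat.card F from Finite.one_lt_card) h1).symm

/-- **`r` divides `q ^ 2 + 1`** -/
theorem irr_kill [IsSimpleGroup T] (C : Ctx π) (h : IF A Γ) (hna : ∃ a b : T, a * b ≠ b * a) (E : Ea r R) (hRA : R ≤ A)
    (hR : R ≠ ⊥) (hinv : ∀ σ ∈ Γ, ∀ x ∈ R, σ x ∈ R) (hr : r ∣ Nat.card F * Nat.card F + 1) {j : Sp B}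
    (hj : j * j = negOne B) (hjA : π j ∈ A)
    (hcen : Nat.card F * (Nat.card F ^ 2 - 1) * (Nat.card F - 1) ≤ 2 * Nat.card (centralizer ({π j} : Set T))) :
    False := by
  classical
  have hAR : ∀ a ∈ A, ∀ x ∈ R, a * x * a⁻¹ ∈ R := fun a ha x hx => hinv _ ((h.conj a).2 ha) x hx
  have hqo : Odd (Nat.card F) := odd_card C.h2
  have hq1 : 1 < Nat.card F := Finite.one_lt_card
  have hq3 : 3 ≤ Nat.card F := by
    obtain ⟨k, hk⟩ := hqo
    omega
  have hd := finrank_eq C
  have hnt : Nontrivial V := by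
    rw [← Finite.one_lt_card_iff_nontrivial, C.hV]
    exact Nat.one_lt_pow (by norm_num) hq1
  have P : Pr (Nat.card F) r 4 := pr_four hq1.le E.prime E.odd hr
  -- every element is irreducible
  have hI : ∀ x ∈ hat C E, x ≠ 1 → (∀ W : Submodule F V, (∀ w ∈ W, en x w ∈ W) → W = ⊥ ∨ W = ⊤) ∧
      x ^ (Nat.card F * Nat.card F + 1) = 1 := by
    intro x hx hx1
    refine ⟨fun W hW => irr P (x := en x) ?_ ?_ hd hW, ?_⟩
    · rw [← map_pow, hx.2, map_one]
    · intro h1
      apply hx1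
      apply en_injective
      rw [h1, map_one]
    · obtain ⟨m, hm⟩ := hr
      rw [hm, pow_mul, hx.2, one_pow]
  -- a nontrivial element
  obtain ⟨x, hx, hx1⟩ : ∃ x ∈ hat C E, x ≠ 1 := by
    by_contra! hcon
    exact hat_ne_bot C E hR ((Subgroup.eq_bot_iff_forall _).2 hcon)
  obtain ⟨hirr, hxq⟩ := hI x hx hx1
  have h1 := card_norm hnt C.hB hirr hxq hd (M := A.comap π) (by
    intro g hg
    exact hat_comm C E (hat_conj C E (hAR _ hg) hx) hx)
  rw [card_comap C] at h1
  have h2 : Nat.card A ≤ 2 * (Nat.card F * Nat.card F + 1) := by omega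
  -- the centraliser of `π j` in `R`
  have hfree : ∀ y ∈ R, y * π j = π j * y → y = 1 := by
    intro y hy hc
    by_contra hy1
    obtain ⟨g, hg, rfl⟩ := exists_hat C E hy
    have hg1 : g ≠ 1 := fun h' => hy1 (by rw [h', map_one])
    obtain ⟨hirr', hgq⟩ := hI g hg hg1
    have h3 : j * g = g * j := comm_lift C E.odd hg.2 hc.symm
    have h4 := pow_eq_one hnt C.hB hirr' hgq h3
    obtain ⟨k, hk⟩ := hqo
    have h5 : Nat.card F * Nat.card F + 1 = 2 * (2 * (k * k + k) + 1) := by rw [hk]; ring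
    rw [h5, pow_mul, pow_two, hj, pow_succ, pow_mul, pow_two, negOne_mul_self, one_pow, one_mul] at h4
    exact C.negOne_ne h4
  -- `5 ≤ |R|`
  have hR5 : 5 ≤ Nat.card R := by
    have h3 : r ∣ Nat.card R := by
      have hntR : Nontrivial R := (Subgroup.nontrivial_iff_ne_bot R).2 hR
      obtain ⟨y, hy⟩ := exists_ne (1 : R)
      have hyr : y ^ r = 1 := Subtype.ext (E.exp y y.2)
      have h4 : orderOf y = r := by
        have : Fact r.Prime := ⟨E.prime⟩
        exact orderOf_eq_prime hyr hy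
      rw [← h4]
      exact _root_.orderOf_dvd_natCard y
    have h4 : 5 ≤ r := by
      have h5 := E.prime.two_le
      by_contra! hlt
      have h6 : r = 3 := by
        have h7 := E.odd
        interval_cases r
        · exact absurd h7 (by decide)
        · rfl
        · exact absurd h7 (by decide)
      rw [h6] at hr
      have h8 : Nat.card F % 3 = 0 ∨ Nat.card F % 3 = 1 ∨ Nat.card F % 3 = 2 := by omega
      have h9 : (Nat.card F * Nat.card F + 1) % 3 = 0 := Nat.mod_eq_zero_of_dvd hr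
      rcases h8 with h8 | h8 | h8 <;> simp only [Nat.add_mod, Nat.mul_mod, h8, _root_.MulZeroClass.mul_zero, _root_.Nat.zero_mod, _root_.Nat.one_mod, _root_.zero_add, _root_.one_ne_zero, _root_.mul_one, _root_.Nat.reduceAdd, _root_.Nat.mod_succ, _root_.OfNat.ofNat_ne_zero, _root_.Nat.reduceMul, _root_.Nat.reduceMod] at h9
    exact h4.trans (Nat.le_of_dvd Nat.card_pos h3)
  -- `|R| |A ∩ C| ≤ |A|`
  let K : Subgroup T := A ⊓ centralizer ({π j} : Set T)
  have hK : ∀ y ∈ K, y * π j = π j * y := fun y hy => Subgroup.mem_centralizer_singleton_iff.1 hy.2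
  have h3 : Nat.card R * Nat.card K ≤ Nat.card A := by
    rw [← Nat.card_prod]
    refine Nat.card_le_card_of_injective (fun p : R × K => (⟨(p.1 : T) * (p.2 : T), A.mul_mem (hRA p.1.2) p.2.2.1⟩ : A)) ?_
    rintro ⟨a, b⟩ ⟨a', b'⟩ hab
    have h4 : (a : T) * b = a' * b' := congrArg Subtype.val hab
    have h5 : (a' : T)⁻¹ * a = b' * (b : T)⁻¹ := by
      rw [eq_mul_inv_iff_mul_eq, mul_assoc, h4, inv_mul_cancel_left]
    have h6 : (a' : T)⁻¹ * a = 1 := by
      apply hfree _ (R.mul_mem (R.inv_mem a'.2) a.2)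
      rw [h5]
      exact hK _ (K.mul_mem b'.2 (K.inv_mem b.2))
    have h7 : a = a' := Subtype.ext (inv_mul_eq_one.1 h6).symm
    rw [h6, eq_comm, mul_inv_eq_one] at h5
    exact Prod.ext h7 (Subtype.ext h5).symm
  have h4 : 5 * Nat.card K ≤ 2 * (Nat.card F * Nat.card F + 1) :=
    (Nat.mul_le_mul_right _ hR5).trans (h3.trans h2)
  -- the index
  obtain ⟨-, -, -, -, h5⟩ := Cfsg.Agent.H999.IFB.IF.E2' h hna hjA (C.orderOf_j hj)
  obtain ⟨h6, -⟩ := h5 (centralizer ({π j} : Set T)) le_rfl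
  have h7 := (centralizer ({π j} : Set T)).index_mul_card
  have h8 : Nat.card (centralizer ({π j} : Set T)) ≤ A.relIndex (centralizer ({π j} : Set T)) * Nat.card K := by
    have h10 : Nat.card (centralizer ({π j} : Set T)) =
        (A.subgroupOf (centralizer ({π j} : Set T))).index * Nat.card (A.subgroupOf (centralizer ({π j} : Set T))) :=
      (Subgroup.index_mul_card _).symm
    rw [h10, Subgroup.relIndex]
    apply Nat.mul_le_mul_left
    refine Nat.card_le_card_of_injective (fun a : A.subgroupOf (centralizer ({π j} : Set T)) =>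
      (⟨((a : centralizer ({π j} : Set T)) : T), a.2, (a : centralizer ({π j} : Set T)).2⟩ : K)) ?_
    intro a b hab
    have h11 : ((a : centralizer ({π j} : Set T)) : T) = ((b : centralizer ({π j} : Set T)) : T) :=
      congrArg (fun z : K => (z : T)) hab
    exact Subtype.ext (Subtype.ext h11)
  have hN : 2 * Nat.card T = Nat.card F ^ 4 * ((Nat.card F ^ 2 - 1) * (Nat.card F ^ 4 - 1)) := by
    rw [← C.card, ← Subgroup.card_top (G := T), ← card_comap C, Subgroup.comap_top, Subgroup.card_top]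
  exact numerics hq3 hN hcen h4 h8 (by
    rw [← h7]
    exact Nat.mul_lt_mul_of_pos_right h6 Nat.card_pos)

/-- `T` is not abelian -/
theorem not_comm [IsSimpleGroup T] (h : IF A Γ) : ∃ a b : T, a * b ≠ b * a := by
  by_contra! hcon
  have h1 : A.Normal := ⟨fun n hn g => by rw [hcon g n, mul_inv_cancel_right]; exact hn⟩
  rcases h1.eq_bot_or_eq_top with h2 | h2
  · exact h.ne_bot h2
  · exact h.ne_top h2

/-- **No point stabiliser of 2-rank one without involutions of type `t₁`.** -/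
theorem caseB1 [IsSimpleGroup T] (C : Ctx π) (hsemi : SemiAut π) (hcen : ∀ j : Sp B, j * j = negOne B →
      Nat.card F * (Nat.card F ^ 2 - 1) * (Nat.card F - 1) ≤ 2 * Nat.card (centralizer ({π j} : Set T)))
    (h : IF A Γ) (hno : ∀ v v' : V, B v v' = 1 → π (inv2 B v v') ∉ A)
    (hone : ∀ s ∈ A, ∀ t ∈ A, orderOf s = 2 → orderOf t = 2 → s * t = t * s → s = t) {t : T} (ht : t ∈ A)
    (ht2 : orderOf t = 2) : False := by
  have hna := not_comm h
  rcases C.inv_type ht2 with ⟨v, v', hv, rfl⟩ | ⟨j, hj, rfl⟩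
  · exact hno v v' hv ht
  · rcases rank_one h hna hone ht ht2 with h1 | ⟨r, R, h1, h2, h3, h4, h5, h6, h7⟩
    · exact cent_kill C hno hj h1
    · have E : Ea r R := ⟨h1, h2, h5, h6⟩
      by_cases hr1 : r ∣ Nat.card F
      · exact semi_kill C h hno hsemi E h4 h7 hr1
      · by_cases hr2 : r ∣ Nat.card F * Nat.card F + 1
        · exact irr_kill C h hna E h3 h4 h7 hr2 hj ht (hcen j hj)
        · exact plane_kill C h hno E h3 h4 h7 hr1 hr2

end Cfsg.Agent.H172.IF
end

-- part: H580/IF/Burn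
section
/-!
# S5719, PSp_4(q): a counting lemma (helper580)

`P ≤ S`, `|P| = q`, all nonidentity elements of `P` are conjugate in `S`, `X ≤ S` of index `< q`: then `P ≤ X`.
-/

set_option autoImplicit false
set_option linter.unusedSectionVars false

namespace Cfsg.Agent.H580.Fx

open MulAction Subgroup

theorem le_of_index_lt {S : Type*} [Group S] [Finite S] (P X : Subgroup S)
    (hP : ∀ x ∈ P, ∀ y ∈ P, x ≠ 1 → y ≠ 1 → IsConj x y) (hX : X.index < Nat.card P) : P ≤ X := by
  classical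
  have : Fintype S := Fintype.ofFinite S
  have : Fintype P := Fintype.ofFinite P
  have : Fintype (S ⧸ X) := Fintype.ofFinite _
  by_cases h1 : ∃ a ∈ P, a ≠ 1
  swap
  · push Not at h1
    intro x hx
    rw [h1 x hx]
    exact X.one_mem
  obtain ⟨a, ha, ha1⟩ := h1
  -- number of fixed points
  have hfix : ∀ x ∈ P, x ≠ 1 → Fintype.card (fixedBy (S ⧸ X) x) = Fintype.card (fixedBy (S ⧸ X) a) := by
    intro x hx hx1
    obtain ⟨c, hc⟩ := isConj_iff.1 (hP a ha x hx ha1 hx1)
    symm
    refine Fintype.card_congr ⟨fun y => ⟨c • y.1, ?_⟩, fun y => ⟨c⁻¹ • y.1, ?_⟩, fun y => ?_, fun y => ?_⟩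
    · have h2 := y.2
      rw [mem_fixedBy] at h2 ⊢
      rw [← hc, smul_smul, mul_assoc, mul_assoc, inv_mul_cancel, mul_one, ← smul_smul, h2]
    · have h2 := y.2
      rw [mem_fixedBy] at h2 ⊢
      have h3 : a * c⁻¹ = c⁻¹ * x := by rw [← hc]; group
      rw [smul_smul, h3, ← smul_smul, h2]
    · exact Subtype.ext (inv_smul_smul c y.1)
    · exact Subtype.ext (smul_inv_smul c y.1)
  have hb := MulAction.sum_card_fixedBy_eq_card_orbits_mul_card_group P (S ⧸ X)
  have hsplit : ∑ x : P, Fintype.card (fixedBy (S ⧸ X) x) =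
      Fintype.card (S ⧸ X) + (Fintype.card P - 1) * Fintype.card (fixedBy (S ⧸ X) a) := by
    rw [← Finset.add_sum_erase Finset.univ _ (Finset.mem_univ (1 : P))]
    congr 1
    · refine Fintype.card_congr ⟨fun y => y.1, fun y => ⟨y, ?_⟩, fun y => rfl, fun y => rfl⟩
      rw [mem_fixedBy, one_smul]
    · rw [Finset.sum_congr rfl (g := fun _ => Fintype.card (fixedBy (S ⧸ X) a))]
      · rw [Finset.sum_const, Finset.card_erase_of_mem (Finset.mem_univ _), Finset.card_univ, smul_eq_mul]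
      · intro x hx
        have h2 : (x : S) ≠ 1 := fun h => (Finset.ne_of_mem_erase hx) (Subtype.ext h)
        exact hfix x x.2 h2
  rw [hsplit] at hb
  have hle : Fintype.card (fixedBy (S ⧸ X) a) ≤ Fintype.card (S ⧸ X) :=
    Fintype.card_le_of_injective (fun y => y.1) Subtype.val_injective
  have hq : Fintype.card (S ⧸ X) < Fintype.card P := by
    rw [← Nat.card_eq_fintype_card, ← Nat.card_eq_fintype_card]
    exact hX
  have hP1 : 1 ≤ Fintype.card P := Fintype.card_pos
  set m := Fintype.card (S ⧸ X) with hm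
  set f := Fintype.card (fixedBy (S ⧸ X) a) with hf
  set q := Fintype.card P with hq'
  set o := Fintype.card (Quotient (orbitRel P (S ⧸ X))) with ho
  have heq : m = f := by
    obtain ⟨r, hr⟩ : ∃ r, q = r + 1 := ⟨q - 1, by omega⟩
    rw [hr] at hb hq
    simp only [Nat.add_sub_cancel] at hb
    rcases Nat.lt_or_ge f o with h2 | h2
    · -- `o ≥ f + 1`
      have h3 : (f + 1) * (r + 1) ≤ o * (r + 1) := Nat.mul_le_mul_right _ h2
      linarith only [hq, hb, h3]
    · have h3 : o * (r + 1) ≤ f * (r + 1) := Nat.mul_le_mul_right _ h2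
      linarith only [hle, hb, h3]
  -- `a` fixes all points
  have hall : ∀ y : S ⧸ X, a • y = y := by
    have h2 : Function.Surjective (fun y : fixedBy (S ⧸ X) a => y.1) :=
      ((Fintype.bijective_iff_injective_and_card _).2 ⟨Subtype.val_injective, heq.symm⟩).2
    intro y
    obtain ⟨z, rfl⟩ := h2 y
    exact z.2
  intro x hx
  by_cases hx1 : x = 1
  · rw [hx1]
    exact X.one_mem
  obtain ⟨c, hc⟩ := isConj_iff.1 (hP a ha x hx ha1 hx1)
  have h2 := hall ((c⁻¹ : S) : S ⧸ X)
  rw [MulAction.Quotient.smul_coe, smul_eq_mul, eq_comm, QuotientGroup.eq, inv_inv, ← mul_assoc, hc] at h2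
  exact h2

end Cfsg.Agent.H580.Fx
end

-- part: H580/IF/EvenA
section
/-!
# S5719, PSp_4(q), q even, step (a): a transvection in `A` gives all transvections (helper580)
-/

set_option autoImplicit false
set_option linter.unusedSectionVars false

namespace Cfsg.Agent.H580.Fx

open MulAction Subgroup Module Cfsg.Agent.H74.Psp

variable {F V : Type*} [Field F] [AddCommGroup V] [Module F V] {B : V →ₗ[F] V →ₗ[F] F}

/-- the group of transvections with centre `w` -/
noncomputable def Th (hB : Symp B) (w : V) : Multiplicative F →* Sp B where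
  toFun c := t B w c.toAdd
  map_one' := t_zero hB w
  map_mul' _ _ := (t_mul hB w _ _).symm

theorem t_inj (hB : Symp B) [FiniteDimensional F V] {w : V} (hw : w ≠ 0) {c d : F} (h : t B w c = t B w d) :
    c = d := by
  obtain ⟨y, hy⟩ := sep0 hB hw
  have h2 := congrArg (fun g : Sp B => g • y) h
  simp only [t_smul hB] at h2
  have h3 : (c * B y w) • w = (d * B y w) • w := add_left_cancel h2
  rw [skew hB y w, hy] at h3
  have h4 := smul_left_injective F hw h3
  simpa using h4

theorem card_Th (hB : Symp B) [FiniteDimensional F V] {w : V} (hw : w ≠ 0) :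
    Nat.card (Th hB w).range = Nat.card F := by
  have h1 : Function.Injective (Th hB w) := fun a b h => t_inj hB hw h
  exact (Nat.card_congr (MonoidHom.ofInjective h1).toEquiv).symm

theorem stab_le (hB : Symp B) (v : V) (a : F) :
    stabilizer (Sp B) v ≤ centralizer {t B v a} := by
  intro g hg
  rw [mem_stabilizer_iff] at hg
  rw [mem_centralizer_singleton_iff, ← mul_inv_eq_iff_eq_mul, conj_t hB, hg]

/-- (E2) -/
def HE2 (A : Subgroup (Sp B)) : Prop :=
  ∀ t ∈ A, t ≠ 1 → t * t = 1 → ∀ C : Subgroup (Sp B), C ≤ centralizer {t} →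
    A.relIndex C ^ 5 < (centralizer {t}).index

section

variable [Finite F] [Finite V] (hB : Symp B) (hV : Nat.card V = Nat.card F ^ 4)
include hB hV

theorem cent_idx {v : V} (hv : v ≠ 0) (a : F) : (centralizer {t B v a}).index < Nat.card F ^ 4 := by
  have h1 : (centralizer {t B v a}).index ≤ (stabilizer (Sp B) v).index :=
    Subgroup.index_antitone (stab_le hB v a)
  have h2 : (stabilizer (Sp B) v).index ≤ Nat.card V - 1 := by
    rw [index_stabilizer]
    have h3 : orbit (Sp B) v ⊆ ({0} : Set V)ᶜ := by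
      rintro _ ⟨g, rfl⟩
      exact (smul_ne_zero_iff_ne g).2 hv
    have h4 := Set.ncard_le_ncard h3 (Set.toFinite _)
    rw [Set.ncard_compl, Set.ncard_singleton] at h4
    exact h4
  have h3 : 0 < Nat.card V := Nat.card_pos
  omega

variable {A : Subgroup (Sp B)} (hA : HE2 A) [CharP F 2]
include hA

theorem relIndex_lt {v : V} (hv : v ≠ 0) {a : F} (ha : a ≠ 0) (h : t B v a ∈ A) {C : Subgroup (Sp B)}
    (hC : C ≤ centralizer {t B v a}) : A.relIndex C < Nat.card F := by
  have h1 := hA _ h (by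
    intro h0
    rw [← t_zero hB v] at h0
    exact ha (t_inj hB hv h0)) (by rw [t_mul hB, CharTwo.add_self_eq_zero, t_zero hB]) C hC
  have h2 := h1.trans (cent_idx hB hV hv a)
  by_contra! h3
  have h4 : Nat.card F ^ 4 ≤ A.relIndex C ^ 5 :=
    (Nat.pow_le_pow_right Nat.card_pos (by norm_num)).trans (Nat.pow_le_pow_left h3 5)
  omega

theorem exists_t_orth {v : V} (hv : v ≠ 0) {a : F} (ha : a ≠ 0) (h : t B v a ∈ A) {w : V} (hw : w ≠ 0)
    (hvw : B v w = 0) : ∃ c : F, c ≠ 0 ∧ t B w c ∈ A := by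
  have hle : (Th hB w).range ≤ centralizer {t B v a} := by
    rintro _ ⟨c, rfl⟩
    refine stab_le hB v a ?_
    rw [mem_stabilizer_iff]
    exact t_smul_orth hB w _ (orth_symm hB hvw)
  have h1 := relIndex_lt hB hV hA hv ha h hle
  by_contra! h2
  have h3 : A.subgroupOf (Th hB w).range = ⊥ := by
    rw [Subgroup.eq_bot_iff_forall]
    rintro ⟨_, ⟨c, rfl⟩⟩ hx
    rw [mem_subgroupOf] at hx
    apply Subtype.ext
    by_cases hc : c.toAdd = 0
    · change t B w c.toAdd = 1
      rw [hc, t_zero hB]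
    · exact absurd hx (h2 _ hc)
  rw [Subgroup.relIndex, h3, Subgroup.index_bot, card_Th hB hw] at h1
  exact lt_irrefl _ h1

omit hA [CharP F 2] in
theorem exists_orth2 (v w : V) : ∃ z, z ≠ 0 ∧ B v z = 0 ∧ B w z = 0 := by
  by_contra! hcon
  have hinj : Function.Injective (fun x : V => (B v x, B w x)) := by
    intro x y hxy
    rw [Prod.mk.injEq] at hxy
    by_contra hne
    have h1 := hcon (x - y) (sub_ne_zero.2 hne) (by rw [map_sub, hxy.1, sub_self])
    exact h1 (by rw [map_sub, hxy.2, sub_self])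
  have h1 := Nat.card_le_card_of_injective _ hinj
  rw [Nat.card_prod, hV] at h1
  have h2 : 1 < Nat.card F := Finite.one_lt_card
  have h3 : Nat.card F * Nat.card F < Nat.card F ^ 4 := by
    rw [← sq]
    exact Nat.pow_lt_pow_right h2 (by norm_num)
  omega

theorem exists_t {v : V} (hv : v ≠ 0) {a : F} (ha : a ≠ 0) (h : t B v a ∈ A) {w : V} (hw : w ≠ 0) :
    ∃ c : F, c ≠ 0 ∧ t B w c ∈ A := by
  obtain ⟨z, hz, h1, h2⟩ := exists_orth2 hB hV v w
  obtain ⟨c, hc, h3⟩ := exists_t_orth hB hV hA hv ha h hz h1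
  exact exists_t_orth hB hV hA hz hc h3 hw (orth_symm hB h2)

/-- **Step (a)** -/
theorem all_Tv {v : V} (hv : v ≠ 0) {a : F} (ha : a ≠ 0) (h : t B v a ∈ A) (x : V) : Tv A x := by
  by_cases hx : x = 0
  · rw [hx]
    exact Tv.zero hB
  obtain ⟨x', hx'⟩ := sep0 hB hx
  obtain ⟨w, hw, h1, h2⟩ := exists_orth2 hB hV x x'
  obtain ⟨c, hc, h3⟩ := exists_t hB hV hA hv ha h hw
  set S := centralizer {t B w c} with hS
  have h4 := relIndex_lt hB hV hA hw hc h3 (C := S) le_rfl
  have hTS : (Th hB x).range ≤ S := by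
    rintro _ ⟨d, rfl⟩
    refine stab_le hB w c ?_
    rw [mem_stabilizer_iff]
    exact t_smul_orth hB x _ h1
  have hhS : ∀ s : F, s ≠ 0 → hh B x x' s ∈ S := by
    intro s hs
    refine stab_le hB w c ?_
    rw [mem_stabilizer_iff]
    exact hh_smul_orth hB hx' hs h1 h2
  have h5 := le_of_index_lt ((Th hB x).range.subgroupOf S) (A.subgroupOf S) (by
    rintro ⟨g, hgS⟩ hg ⟨k, hkS⟩ hk hg1 hk1
    rw [mem_subgroupOf] at hg hk
    obtain ⟨y, hy⟩ := hg
    obtain ⟨z, hz⟩ := hk
    change t B x y.toAdd = g at hy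
    change t B x z.toAdd = k at hz
    have hy0 : y.toAdd ≠ 0 := by
      intro h0
      rw [h0, t_zero hB] at hy
      exact hg1 (Subtype.ext hy.symm)
    have hz0 : z.toAdd ≠ 0 := by
      intro h0
      rw [h0, t_zero hB] at hz
      exact hk1 (Subtype.ext hz.symm)
    obtain ⟨s, hs⟩ : ∃ s : F, s ^ 2 = z.toAdd / y.toAdd := by
      have := Fintype.ofFinite F
      obtain ⟨s, hs⟩ := (FiniteField.isSquare_of_char_two (CharP.eq F (ringChar.charP F) inferInstance)
        (z.toAdd / y.toAdd))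
      exact ⟨s, by rw [hs, sq]⟩
    have hs0 : s ≠ 0 := by
      rintro rfl
      rw [zero_pow two_ne_zero, eq_comm, div_eq_zero_iff] at hs
      rcases hs with hs | hs
      · exact hz0 hs
      · exact hy0 hs
    rw [isConj_iff]
    refine ⟨⟨hh B x x' s, hhS s hs0⟩, Subtype.ext ?_⟩
    change hh B x x' s * g * (hh B x x' s)⁻¹ = k
    rw [← hy, ← hz, conj_t hB, hh_smul_v hB hx' hs0, t_scale hB, hs, div_mul_cancel₀ _ hy0])
    (by
      have h6 : Nat.card ((Th hB x).range.subgroupOf S) = Nat.card F := by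
        rw [← card_Th hB hx]
        exact Nat.card_congr (Subgroup.subgroupOfEquivOfLe hTS).toEquiv
      rw [h6]
      exact h4)
  intro d
  have h6 : (⟨t B x d, hTS ⟨Multiplicative.ofAdd d, rfl⟩⟩ : S) ∈ (Th hB x).range.subgroupOf S := by
    rw [mem_subgroupOf]
    exact ⟨Multiplicative.ofAdd d, rfl⟩
  exact h5 h6

end

end Cfsg.Agent.H580.Fx
end

-- part: H580/IF/EvenB
section
/-!
# S5719, PSp_4(q), q even, step (b): no transvections in `A` (helper580)
-/

set_option autoImplicit false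
set_option linter.unusedSectionVars false
set_option linter.unusedSimpArgs false

namespace Cfsg.Agent.H580.Fx

open MulAction Subgroup Module Cfsg.Agent.H74.Psp

variable {F V : Type*} [Field F] [AddCommGroup V] [Module F V] {B : V →ₗ[F] V →ₗ[F] F}

/-- a symplectic basis of a 4-dimensional space -/
structure Bas (B : V →ₗ[F] V →ₗ[F] F) (e1 e2 f1 f2 : V) : Prop where
  h11 : B e1 f1 = 1
  h22 : B e2 f2 = 1
  hee : B e1 e2 = 0
  hff : B f1 f2 = 0
  h12 : B e1 f2 = 0
  h21 : B e2 f1 = 0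
  ker : ∀ x, B x e1 = 0 → B x e2 = 0 → B x f1 = 0 → B x f2 = 0 → x = 0

namespace Bas

variable {e1 e2 f1 f2 : V} (hB : Symp B) (hb : Bas B e1 e2 f1 f2) [CharP F 2]
include hB hb

theorem r11 : B f1 e1 = 1 := by rw [skew hB, hb.h11, CharTwo.neg_eq]
theorem r22 : B f2 e2 = 1 := by rw [skew hB, hb.h22, CharTwo.neg_eq]
theorem ree : B e2 e1 = 0 := orth_symm hB hb.hee
theorem rff : B f2 f1 = 0 := orth_symm hB hb.hff
theorem r12 : B f2 e1 = 0 := orth_symm hB hb.h12
theorem r21 : B f1 e2 = 0 := orth_symm hB hb.h21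

theorem repr (x : V) : x = B x f1 • e1 + B x f2 • e2 + B x e1 • f1 + B x e2 • f2 := by
  rw [← sub_eq_zero]
  apply hb.ker <;>
  · simp only [map_add, map_sub, map_smul, LinearMap.add_apply, LinearMap.sub_apply, LinearMap.smul_apply, smul_eq_mul,
      hB.alt, hb.h11, hb.h22, hb.hee, hb.hff, hb.h12, hb.h21, hb.r11 hB, hb.r22 hB, hb.ree hB, hb.rff hB, hb.r12 hB,
      hb.r21 hB]
    ring

theorem ext {g h : Sp B} (h1 : g • e1 = h • e1) (h2 : g • e2 = h • e2) (h3 : g • f1 = h • f1)
    (h4 : g • f2 = h • f2) : g = h := by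
  apply Sp.ext'
  intro x
  rw [hb.repr hB x]
  simp only [smul_add', smul_fsmul, h1, h2, h3, h4]

theorem E_f1 (c γ a : F) : E B e1 (c • f2 + γ • e2) a • f1 = f1 + (c • f2 + γ • e2) + a • e1 := by
  rw [E_smul hB (by simp [hb.hee, hb.h12])]
  simp only [map_add, map_smul, hb.hff, hb.r11 hB, hb.r21 hB, smul_eq_mul, mul_zero, mul_one, zero_smul, one_smul,
    add_zero]

theorem E_f2 (c γ a : F) : E B e1 (c • f2 + γ • e2) a • f2 = f2 + γ • e1 := by
  rw [E_smul hB (by simp [hb.hee, hb.h12])]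
  simp only [map_add, map_smul, hB.alt, hb.r12 hB, hb.r22 hB, smul_eq_mul, mul_zero, mul_one, zero_smul, zero_add,
    add_zero]

theorem E_e2 (c γ a : F) : E B e1 (c • f2 + γ • e2) a • e2 = e2 + c • e1 := by
  rw [E_smul hB (by simp [hb.hee, hb.h12])]
  simp only [map_add, map_smul, hB.alt, hb.ree hB, hb.h22, smul_eq_mul, mul_zero, mul_one, zero_smul, zero_add,
    add_zero]

theorem E_e1 (c γ a : F) : E B e1 (c • f2 + γ • e2) a • e1 = e1 :=
  E_smul_v hB (by simp [hb.hee, hb.h12]) a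

theorem E_f1' (γ a : F) : E B e1 (γ • e2) a • f1 = f1 + γ • e2 + a • e1 := by
  have := hb.E_f1 hB 0 γ a
  simpa using this

theorem E_f2' (γ a : F) : E B e1 (γ • e2) a • f2 = f2 + γ • e1 := by
  have := hb.E_f2 hB 0 γ a
  simpa using this

theorem E_e2' (γ a : F) : E B e1 (γ • e2) a • e2 = e2 := by
  have := hb.E_e2 hB 0 γ a
  simpa using this

theorem E_e1' (γ a : F) : E B e1 (γ • e2) a • e1 = e1 := by
  have := hb.E_e1 hB 0 γ a
  simpa using this

/-- an element fixing `e1` and `e2` -/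
theorem form {h : Sp B} (h1 : h • e1 = e1) (h2 : h • e2 = e2) :
    h = E B e1 (B (h • f1) f2 • e2) (B (h • f1) f1) * t B e2 (B (h • f2) f2) := by
  have hf1 : h • f1 = f1 + B (h • f1) f2 • e2 + B (h • f1) f1 • e1 := by
    have h3 := hb.repr hB (h • f1)
    have h4 : B (h • f1) e1 = 1 := by rw [← hb.r11 hB, ← B_smul_smul h f1 e1, h1]
    have h5 : B (h • f1) e2 = 0 := by rw [← hb.r21 hB, ← B_smul_smul h f1 e2, h2]
    rw [h4, h5] at h3
    rw [h3]
    simp only [map_add, map_smul, LinearMap.add_apply, LinearMap.smul_apply, smul_eq_mul,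
      hB.alt, hb.h11, hb.h22, hb.hee, hb.hff, hb.h12, hb.h21, hb.r11 hB, hb.r22 hB, hb.ree hB, hb.rff hB, hb.r12 hB,
      hb.r21 hB]
    module
  have hf2 : h • f2 = f2 + B (h • f2) f1 • e1 + B (h • f2) f2 • e2 := by
    have h3 := hb.repr hB (h • f2)
    have h4 : B (h • f2) e1 = 0 := by rw [← hb.r12 hB, ← B_smul_smul h f2 e1, h1]
    have h5 : B (h • f2) e2 = 1 := by rw [← hb.r22 hB, ← B_smul_smul h f2 e2, h2]
    rw [h4, h5] at h3
    rw [h3]
    simp only [map_add, map_smul, LinearMap.add_apply, LinearMap.smul_apply, smul_eq_mul,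
      hB.alt, hb.h11, hb.h22, hb.hee, hb.hff, hb.h12, hb.h21, hb.r11 hB, hb.r22 hB, hb.ree hB, hb.rff hB, hb.r12 hB,
      hb.r21 hB]
    module
  have hsym : B (h • f2) f1 = B (h • f1) f2 := by
    have h3 : B (h • f1) (h • f2) = 0 := by rw [B_smul_smul, hb.hff]
    have h4 : B (f1 + B (h • f1) f2 • e2 + B (h • f1) f1 • e1) (f2 + B (h • f2) f1 • e1 + B (h • f2) f2 • e2) = 0 := by
      rw [← hf1, ← hf2, h3]
    generalize B (h • f1) f2 = x at h4 ⊢
    generalize B (h • f2) f1 = y at h4 ⊢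
    simp only [map_add, map_smul, LinearMap.add_apply, LinearMap.smul_apply, smul_eq_mul,
      hB.alt, hb.h11, hb.h22, hb.hee, hb.hff, hb.h12, hb.h21, hb.r11 hB, hb.r22 hB, hb.ree hB, hb.rff hB, hb.r12 hB,
      hb.r21 hB] at h4
    rw [← CharTwo.add_eq_zero]
    linear_combination h4
  apply hb.ext hB
  · rw [mul_smul, t_smul hB, hb.hee, mul_zero, zero_smul, add_zero, hb.E_e1' hB, h1]
  · rw [mul_smul, t_smul hB, hB.alt, mul_zero, zero_smul, add_zero, hb.E_e2' hB, h2]
  · rw [mul_smul, t_smul hB, hb.r21 hB, mul_zero, zero_smul, add_zero, hb.E_f1' hB]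
    exact hf1
  · rw [mul_smul, t_smul hB, hb.r22 hB, mul_one, smul_add', smul_fsmul, hb.E_f2' hB, hb.E_e2' hB, ← hsym]
    exact hf2

/-- conjugating `E e1 (γ e2) α` by an element of `U` -/
theorem conj_R {g : Sp B} {s : F} (h1 : g • e1 = e1) (h2 : g • e2 = e2 + s • e1) (γ α : F) :
    g * E B e1 (γ • e2) α * g⁻¹ = E B e1 (γ • e2) α := by
  have hw : B e1 (γ • e2) = 0 := by rw [map_smul, hb.hee, smul_zero]
  rw [conj_E hB g hw, h1, smul_fsmul, h2, smul_add, smul_smul, E_add_v hB hw, CharTwo.two_eq_zero, zero_mul, add_zero]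

/-- conjugating `t e2 b` by an element of `U` -/
theorem conj_T {g : Sp B} {s : F} (h2 : g • e2 = e2 + s • e1) (b : F) :
    g * t B e2 b * g⁻¹ = t B e2 b * E B e1 ((s * b) • e2) (s ^ 2 * b) := by
  have h0 : B e2 (s • e1) = 0 := by rw [map_smul, hb.ree hB, smul_zero]
  rw [conj_t hB g e2 b, h2, t_add hB h0, mul_assoc]
  congr 1
  have h3 : E B e2 (b • s • e1) 0 = E B e1 ((s * b) • e2) 0 := by
    rw [smul_smul, E_comm0 hB (by rw [map_smul, hb.ree hB, smul_zero]), E_scale hB hb.hee, mul_zero, mul_comm b s]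
  rw [h3, t_scale hB, t, E_mul hB (map_zero _) (by rw [map_smul, hb.hee, smul_zero]), map_zero, zero_add, add_zero,
    add_zero]

end Bas

/-- the Sylow 2-subgroup `U` -/
def UU (B : V →ₗ[F] V →ₗ[F] F) (e1 e2 : V) : Subgroup (Sp B) where
  carrier := {g | g • e1 = e1 ∧ ∃ s : F, g • e2 = e2 + s • e1}
  one_mem' := ⟨one_smul _ _, 0, by rw [one_smul, zero_smul, add_zero]⟩
  mul_mem' := by
    rintro g h ⟨h1, s, h2⟩ ⟨h3, s', h4⟩
    refine ⟨by rw [mul_smul, h3, h1], s + s', ?_⟩
    rw [mul_smul, h4, smul_add', smul_fsmul, h1, h2, add_smul, add_assoc]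
  inv_mem' := by
    rintro g ⟨h1, s, h2⟩
    have h3 : g⁻¹ • e1 = e1 := by rw [inv_smul_eq_iff, h1]
    refine ⟨h3, -s, ?_⟩
    rw [inv_smul_eq_iff, smul_add', smul_fsmul, h1, h2, neg_smul, add_neg_cancel_right]

/-- `Q₂` -/
def QQ (B : V →ₗ[F] V →ₗ[F] F) (e1 e2 : V) : Subgroup (Sp B) := stabilizer (Sp B) e1 ⊓ stabilizer (Sp B) e2

theorem card_le_mul {G M : Type*} [Group G] [Finite G] (φ : G → M) (K : Subgroup G)
    (h : ∀ a b, φ a = φ b → a⁻¹ * b ∈ K) : Nat.card G ≤ (Set.range φ).ncard * Nat.card K := by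
  classical
  choose r hr using fun m : Set.range φ => m.2
  have h1 : Function.Injective (fun g : G => ((⟨φ g, g, rfl⟩ : Set.range φ),
      (⟨(r ⟨φ g, g, rfl⟩)⁻¹ * g, h _ _ (hr _)⟩ : K))) := by
    intro a b hab
    simp only [Prod.mk.injEq, Subtype.mk.injEq] at hab
    obtain ⟨h2, h3⟩ := hab
    have h4 : (⟨φ a, a, rfl⟩ : Set.range φ) = ⟨φ b, b, rfl⟩ := h2
    rw [h4] at h3
    exact mul_left_cancel h3
  have h2 := Nat.card_le_card_of_injective _ h1
  rwa [Nat.card_prod, Nat.card_coe_set_eq] at h2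

theorem card_subgroupOf_le {G : Type*} [Group G] [Finite G] (H K : Subgroup G) :
    Nat.card (H.subgroupOf K) ≤ Nat.card H :=
  Nat.card_le_card_of_injective (fun x => (⟨x.1.1, mem_subgroupOf.1 x.2⟩ : H))
    (fun _ _ h => Subtype.ext (Subtype.ext (Subtype.mk.inj h)))

/-- `Q₁ ∩ Q₂` -/
def RR (B : V →ₗ[F] V →ₗ[F] F) (e1 e2 f2 : V) : Subgroup (Sp B) where
  carrier := {g | g • e1 = e1 ∧ g • e2 = e2 ∧ ∃ s : F, g • f2 = f2 + s • e1}
  one_mem' := ⟨one_smul _ _, one_smul _ _, 0, by rw [one_smul, zero_smul, add_zero]⟩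
  mul_mem' := by
    rintro g h ⟨h1, h0, s, h2⟩ ⟨h3, h0', s', h4⟩
    refine ⟨by rw [mul_smul, h3, h1], by rw [mul_smul, h0', h0], s + s', ?_⟩
    rw [mul_smul, h4, smul_add', smul_fsmul, h1, h2, add_smul, add_assoc]
  inv_mem' := by
    rintro g ⟨h1, h0, s, h2⟩
    have h3 : g⁻¹ • e1 = e1 := by rw [inv_smul_eq_iff, h1]
    refine ⟨h3, by rw [inv_smul_eq_iff, h0], -s, ?_⟩
    rw [inv_smul_eq_iff, smul_add', smul_fsmul, h1, h2, neg_smul, add_neg_cancel_right]

section count

variable {e1 e2 f1 f2 : V} (hB : Symp B) (hb : Bas B e1 e2 f1 f2) [CharP F 2] [Finite F] [Finite V]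
include hB hb

theorem mem_RR {g : Sp B} (hg : g ∈ RR B e1 e2 f2) : g = E B e1 (B (g • f1) f2 • e2) (B (g • f1) f1) := by
  obtain ⟨h1, h2, s, h3⟩ := hg
  have h4 := hb.form hB h1 h2
  have h5 : B (g • f2) f2 = 0 := by rw [h3]; simp [hB.alt, hb.h12]
  rw [h5, t_zero hB, mul_one] at h4
  exact h4

theorem E_sub {γ α α' : F} : (E B e1 (γ • e2) α)⁻¹ * E B e1 (γ • e2) α' = t B e1 (α' - α) := by
  have hw : B e1 (γ • e2) = 0 := by rw [map_smul, hb.hee, smul_zero]
  rw [E_inv hB hw, E_mul hB (by rw [map_neg, hw, neg_zero]) hw, neg_add_cancel, map_neg, hB.alt, neg_zero, add_zero, t]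
  congr 1
  ring

theorem card_RR {A : Subgroup (Sp B)} (hno : ∀ a : F, a ≠ 0 → t B e1 a ∉ A) :
    Nat.card (A ⊓ RR B e1 e2 f2 : Subgroup (Sp B)) ≤ Nat.card F := by
  refine Nat.card_le_card_of_injective (fun g : (A ⊓ RR B e1 e2 f2 : Subgroup (Sp B)) => B ((g : Sp B) • f1) f2) ?_
  rintro ⟨g, hgA, hgR⟩ ⟨h, hhA, hhR⟩ hgh
  simp only at hgh
  apply Subtype.ext
  change g = h
  have h1 := mem_RR hB hb hgR
  have h2 := mem_RR hB hb hhR
  rw [hgh] at h1
  have h3 : g⁻¹ * h = t B e1 (B (h • f1) f1 - B (g • f1) f1) := by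
    rw [← E_sub hB hb (γ := B (h • f1) f2), ← h1, ← h2]
  by_contra hne
  refine hno (B (h • f1) f1 - B (g • f1) f1) ?_ ?_
  · intro h0
    rw [h0, t_zero hB, inv_mul_eq_one] at h3
    exact hne h3
  · rw [← h3]
    exact A.mul_mem (A.inv_mem hgA) hhA

theorem comm_mem {A : Subgroup (Sp B)} {g h : Sp B} (hg : g ∈ A) (hh : h ∈ A) {s : F} (g1 : g • e1 = e1)
    (g2 : g • e2 = e2 + s • e1) (h1 : h • e1 = e1) (h2 : h • e2 = e2) :
    E B e1 ((s * B (h • f2) f2) • e2) (s ^ 2 * B (h • f2) f2) ∈ A := by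
  have h3 := hb.form hB h1 h2
  have h4 : g * h * g⁻¹ = h * E B e1 ((s * B (h • f2) f2) • e2) (s ^ 2 * B (h • f2) f2) := by
    have h5 : g * (E B e1 (B (h • f1) f2 • e2) (B (h • f1) f1) * t B e2 (B (h • f2) f2)) * g⁻¹ =
        (g * E B e1 (B (h • f1) f2 • e2) (B (h • f1) f1) * g⁻¹) * (g * t B e2 (B (h • f2) f2) * g⁻¹) := by
      group
    rw [← h3] at h5
    rw [h5, hb.conj_R hB g1 g2, hb.conj_T hB g2, ← mul_assoc, ← h3]
  have h5 : E B e1 ((s * B (h • f2) f2) • e2) (s ^ 2 * B (h • f2) f2) = h⁻¹ * (g * h * g⁻¹) := by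
    rw [h4, inv_mul_cancel_left]
  rw [h5]
  exact A.mul_mem (A.inv_mem hh) (A.mul_mem (A.mul_mem hg hh) (A.inv_mem hg))

theorem card_AU {A : Subgroup (Sp B)} (hno : ∀ a : F, a ≠ 0 → t B e1 a ∉ A) :
    Nat.card (A ⊓ UU B e1 e2 : Subgroup (Sp B)) ≤ 2 * Nat.card F ^ 2 := by
  set q := Nat.card F with hq
  have he1 : e1 ≠ 0 := by
    rintro rfl
    have := hb.h11
    rw [map_zero, LinearMap.zero_apply] at this
    exact zero_ne_one this
  let φ : (A ⊓ UU B e1 e2 : Subgroup (Sp B)) → F := fun g => B ((g : Sp B) • e2) f1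
  let ψ : (A ⊓ QQ B e1 e2 : Subgroup (Sp B)) → F := fun g => B ((g : Sp B) • f2) f2
  have hφ : ∀ g : (A ⊓ UU B e1 e2 : Subgroup (Sp B)), (g : Sp B) • e2 = e2 + φ g • e1 := by
    rintro ⟨g, hgA, h1, s, h2⟩
    have h3 : B (g • e2) f1 = s := by rw [h2]; simp [hb.h21, hb.h11]
    change g • e2 = e2 + B (g • e2) f1 • e1
    rw [h3, h2]
  have hc1 := card_le_mul φ ((A ⊓ QQ B e1 e2).subgroupOf (A ⊓ UU B e1 e2)) (by
    intro a b hab
    rw [mem_subgroupOf]
    refine ⟨(a⁻¹ * b).2.1, ?_, ?_⟩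
    · change ((a⁻¹ * b : (A ⊓ UU B e1 e2 : Subgroup (Sp B))) : Sp B) • e1 = e1
      exact ((a⁻¹ * b).2.2).1
    · change ((a : Sp B)⁻¹ * (b : Sp B)) • e2 = e2
      rw [mul_smul, inv_smul_eq_iff, hφ a, hφ b, hab])
  have hc2 := card_le_mul ψ ((A ⊓ RR B e1 e2 f2).subgroupOf (A ⊓ QQ B e1 e2)) (by
    rintro ⟨a, haA, ha1, ha2⟩ ⟨b, hbA, hb1, hb2⟩ hab
    change a • e1 = e1 at ha1
    change a • e2 = e2 at ha2
    change b • e1 = e1 at hb1
    change b • e2 = e2 at hb2
    have hab' : B (a • f2) f2 = B (b • f2) f2 := hab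
    rw [mem_subgroupOf]
    refine ⟨A.mul_mem (A.inv_mem haA) hbA, ?_, ?_, B (b • f1) f2 - B (a • f1) f2, ?_⟩
    · change (a⁻¹ * b) • e1 = e1
      rw [mul_smul, inv_smul_eq_iff, ha1, hb1]
    · change (a⁻¹ * b) • e2 = e2
      rw [mul_smul, inv_smul_eq_iff, ha2, hb2]
    · change (a⁻¹ * b) • f2 = f2 + (B (b • f1) f2 - B (a • f1) f2) • e1
      rw [mul_smul, inv_smul_eq_iff, smul_add', smul_fsmul, ha1]
      have key : ∀ k : Sp B, k • e1 = e1 → k • e2 = e2 → k • f2 = f2 + B (k • f1) f2 • e1 + B (k • f2) f2 • e2 := by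
        intro k k1 k2
        have h3 := hb.form hB k1 k2
        have h4 := congrArg (fun g : Sp B => g • f2) h3
        rw [mul_smul, t_smul hB, hb.r22 hB, mul_one, smul_add', smul_fsmul, hb.E_f2' hB, hb.E_e2' hB] at h4
        exact h4
      rw [key a ha1 ha2, key b hb1 hb2, hab']
      module)
  have hc3 : Nat.card ((A ⊓ QQ B e1 e2).subgroupOf (A ⊓ UU B e1 e2)) ≤ Nat.card (A ⊓ QQ B e1 e2 : Subgroup (Sp B)) :=
    card_subgroupOf_le _ _
  have hc4 : Nat.card ((A ⊓ RR B e1 e2 f2).subgroupOf (A ⊓ QQ B e1 e2)) ≤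
      Nat.card (A ⊓ RR B e1 e2 f2 : Subgroup (Sp B)) := card_subgroupOf_le _ _
  have hc5 := card_RR hB hb hno
  -- the commutator map
  set L := Set.range φ with hL
  set D := Set.range ψ with hD
  have hcm : ∀ s ∈ L, ∀ b ∈ D, E B e1 ((s * b) • e2) (s ^ 2 * b) ∈ A := by
    rintro _ ⟨g, rfl⟩ _ ⟨h, rfl⟩
    exact comm_mem hB hb g.2.1 h.2.1 (g.2.2).1 (hφ g) (mem_stabilizer_iff.1 h.2.2.1) (mem_stabilizer_iff.1 h.2.2.2)
  have h0L : (0 : F) ∈ L := ⟨1, by
    change B ((1 : Sp B) • e2) f1 = 0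
    rw [one_smul, hb.h21]⟩
  have h0D : (0 : F) ∈ D := ⟨1, by
    change B ((1 : Sp B) • f2) f2 = 0
    rw [one_smul, hB.alt]⟩
  have hinj : Set.InjOn (fun x : F × F => x.1 * x.2) ((L \ {0}) ×ˢ (D \ {0})) := by
    rintro ⟨s, b⟩ ⟨⟨hs, hs0⟩, hb', hb0⟩ ⟨s', b'⟩ ⟨⟨hs', hs0'⟩, hb'', hb0'⟩ h1
    simp only [Set.mem_singleton_iff] at hs0 hb0 hs0' hb0' h1
    have h2 := hcm s hs b hb'
    have h3 := hcm s' hs' b' hb''
    rw [← h1] at h3
    have h4 := A.mul_mem (A.inv_mem h2) h3
    rw [E_sub hB hb] at h4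
    have h5 : s' ^ 2 * b' - s ^ 2 * b = 0 := by
      by_contra h6
      exact hno _ h6 h4
    have h6 : (s' - s) * (s * b) = 0 := by linear_combination h5 + s' * h1
    have h7 : s' = s := by
      rcases mul_eq_zero.1 h6 with h7 | h7
      · exact sub_eq_zero.1 h7
      · exact absurd h7 (mul_ne_zero hs0 hb0)
    subst h7
    rw [Prod.mk.injEq]
    exact ⟨rfl, mul_left_cancel₀ hs0 h1⟩
  have hle : ((L \ {0}) ×ˢ (D \ {0}) : Set (F × F)).ncard ≤ (({0} : Set F)ᶜ).ncard :=
    Set.ncard_le_ncard_of_injOn _ (by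
      rintro ⟨s, b⟩ ⟨⟨hs, hs0⟩, hb', hb0⟩
      exact mul_ne_zero hs0 hb0) hinj (Set.toFinite _)
  rw [Set.ncard_prod, Set.ncard_sdiff_singleton_of_mem h0L, Set.ncard_sdiff_singleton_of_mem h0D, Set.ncard_compl,
    Set.ncard_singleton, ← hq] at hle
  have hL1 : 0 < L.ncard := (Set.ncard_pos (Set.toFinite _)).2 ⟨0, h0L⟩
  have hD1 : 0 < D.ncard := (Set.ncard_pos (Set.toFinite _)).2 ⟨0, h0D⟩
  have hLq : L.ncard ≤ q := by
    rw [hq, ← Set.ncard_univ]
    exact Set.ncard_le_ncard (Set.subset_univ _) (Set.toFinite _)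
  have hDq : D.ncard ≤ q := by
    rw [hq, ← Set.ncard_univ]
    exact Set.ncard_le_ncard (Set.subset_univ _) (Set.toFinite _)
  have hLD : L.ncard * D.ncard ≤ 2 * q := by
    obtain ⟨l, hl⟩ : ∃ l, L.ncard = l + 1 := ⟨L.ncard - 1, by omega⟩
    obtain ⟨d, hd⟩ : ∃ d, D.ncard = d + 1 := ⟨D.ncard - 1, by omega⟩
    rw [hl, hd] at hle
    rw [hl] at hLq
    rw [hd] at hDq
    rw [hl, hd]
    simp only [Nat.add_sub_cancel] at hle
    rcases Nat.eq_zero_or_pos l with rfl | hl0
    · omega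
    rcases Nat.eq_zero_or_pos d with rfl | hd0
    · omega
    obtain ⟨l', rfl⟩ : ∃ l', l = l' + 1 := ⟨l - 1, by omega⟩
    obtain ⟨d', rfl⟩ : ∃ d', d = d' + 1 := ⟨d - 1, by omega⟩
    have h1 : (l' + 1) * (d' + 1) = l' * d' + l' + d' + 1 := by ring
    have h2 : (l' + 1 + 1) * (d' + 1 + 1) = l' * d' + 2 * l' + 2 * d' + 4 := by ring
    have h3 := Nat.zero_le (l' * d')
    rw [h2]
    rw [h1] at hle
    omega
  calc Nat.card (A ⊓ UU B e1 e2 : Subgroup (Sp B))
      ≤ L.ncard * (D.ncard * q) := hc1.trans (Nat.mul_le_mul_left _ (hc3.trans (hc2.trans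
        (Nat.mul_le_mul_left _ (hc4.trans hc5)))))
    _ = (L.ncard * D.ncard) * q := by ring
    _ ≤ (2 * q) * q := Nat.mul_le_mul_right _ hLD
    _ = 2 * q ^ 2 := by ring

theorem card_UU : Nat.card F ^ 4 ≤ Nat.card (UU B e1 e2) := by
  have hT : ∀ s γ a b : F, E B e1 (s • f2 + γ • e2) a * t B e2 b ∈ UU B e1 e2 := by
    intro s γ a b
    refine ⟨?_, s, ?_⟩
    · rw [mul_smul, t_smul hB, hb.hee, mul_zero, zero_smul, add_zero, hb.E_e1 hB]
    · rw [mul_smul, t_smul hB, hB.alt, mul_zero, zero_smul, add_zero, hb.E_e2 hB]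
  have h1 : Function.Injective (fun x : F × F × F × F => (⟨_, hT x.1 x.2.1 x.2.2.1 x.2.2.2⟩ : UU B e1 e2)) := by
    rintro ⟨s, γ, a, b⟩ ⟨s', γ', a', b'⟩ h
    simp only [Subtype.mk.injEq] at h
    have h2 := congrArg (fun g : Sp B => g • f1) h
    simp only [mul_smul, t_smul hB, hb.r21 hB, mul_zero, zero_smul, add_zero, hb.E_f1 hB] at h2
    have h3 := congrArg (fun g : Sp B => g • f2) h
    simp only [mul_smul, t_smul hB, hb.r22 hB, mul_one, smul_add', smul_fsmul, hb.E_f2 hB, hb.E_e2 hB] at h3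
    have g1 := congrArg (fun x => B x e2) h2
    have g2 := congrArg (fun x => B x f2) h2
    have g3 := congrArg (fun x => B x f1) h2
    have g4 := congrArg (fun x => B x f2) h3
    simp only [map_add, map_smul, LinearMap.add_apply, LinearMap.smul_apply, smul_eq_mul,
      hB.alt, hb.h11, hb.h22, hb.hee, hb.hff, hb.h12, hb.h21, hb.r11 hB, hb.r22 hB, hb.ree hB, hb.rff hB, hb.r12 hB,
      hb.r21 hB, mul_zero, mul_one, zero_add, add_zero] at g1 g2 g3 g4
    rw [Prod.mk.injEq, Prod.mk.injEq, Prod.mk.injEq]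
    exact ⟨g1, g2, g3, g4⟩
  have h2 := Nat.card_le_card_of_injective _ h1
  rw [Nat.card_prod, Nat.card_prod, Nat.card_prod] at h2
  refine le_trans (le_of_eq ?_) h2
  ring

/-- the involution `t` is centralised by `U` -/
theorem UU_le {x : Sp B} (h1 : x • e1 = e1) (h2 : x • e2 = e2) (h3 : B (x • f2) f2 = 0) :
    UU B e1 e2 ≤ centralizer {x} := by
  rintro g ⟨g1, s, g2⟩
  have h4 := hb.form hB h1 h2
  rw [h3, t_zero hB, mul_one] at h4
  rw [mem_centralizer_singleton_iff, ← mul_inv_eq_iff_eq_mul, h4, hb.conj_R hB g1 g2]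

end count

end Cfsg.Agent.H580.Fx
end

-- part: H580/IF/EvenC
section
/-!
# S5719, PSp_4(q), q even: the contradiction in `Sp B` (helper580)
-/

set_option autoImplicit false
set_option linter.unusedSectionVars false
set_option linter.unusedSimpArgs false

namespace Cfsg.Agent.H580.Fx

open MulAction Subgroup Module Cfsg.Agent.H74.Psp

variable {F V : Type*} [Field F] [AddCommGroup V] [Module F V] {B : V →ₗ[F] V →ₗ[F] F}

section basis

variable [Finite F] [Finite V] (hB : Symp B) (hV : Nat.card V = Nat.card F ^ 4)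
include hB hV

theorem bas_of {e1 e2 : V} (h1 : e1 ≠ 0) (h12 : B e1 e2 = 0) (h2 : ∀ a : F, e2 ≠ a • e1) :
    ∃ f1 f2, Bas B e1 e2 f1 f2 := by
  have : FiniteDimensional F V := inferInstance
  obtain ⟨f2, h3, h4⟩ := sep1 hB h2
  have h5 : ∀ a b : F, e1 ≠ a • e2 + b • f2 := by
    intro a b h
    have h6 : B e1 e2 = a * 0 + b * B f2 e2 := by
      nth_rewrite 1 [h]
      rw [map_add, LinearMap.add_apply, map_smul, map_smul, LinearMap.smul_apply, LinearMap.smul_apply, hB.alt,
        smul_eq_mul, smul_eq_mul]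
    rw [h12, skew hB f2 e2, h4] at h6
    have hb : b = 0 := by linear_combination h6
    rw [hb, zero_smul, add_zero] at h
    have ha : a ≠ 0 := by
      rintro rfl
      rw [zero_smul] at h
      exact h1 h
    apply h2 a⁻¹
    rw [h, smul_smul, inv_mul_cancel₀ ha, one_smul]
  obtain ⟨f1, h6, h7, h8⟩ := sep2 hB h5
  refine ⟨f1, f2, h8, h4, h12, orth_symm hB h7, h3, h6, ?_⟩
  let T : V → F × F × F × F := fun x => (B x e1, B x e2, B x f1, B x f2)
  have hT : Function.Surjective T := by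
    rintro ⟨a, b, c, d⟩
    refine ⟨c • e1 + d • e2 - a • f1 - b • f2, ?_⟩
    simp only [T, map_add, map_sub, map_smul, LinearMap.add_apply, LinearMap.sub_apply, LinearMap.smul_apply,
      smul_eq_mul, hB.alt, h8, h4, h12, h7, h3, h6, orth_symm hB h7, orth_symm hB h3, orth_symm hB h6,
      orth_symm hB h12, skew hB f1 e1, skew hB f2 e2]
    rw [Prod.mk.injEq, Prod.mk.injEq, Prod.mk.injEq]
    refine ⟨?_, ?_, ?_, ?_⟩ <;> ring
  have hTb := (Nat.bijective_iff_surjective_and_card T).2 ⟨hT, by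
    rw [Nat.card_prod, Nat.card_prod, Nat.card_prod, hV]
    ring⟩
  intro x x1 x2 x3 x4
  apply hTb.1
  simp only [T, x1, x2, x3, x4, map_zero, LinearMap.zero_apply]

theorem bas_of' {e1 : V} (h1 : e1 ≠ 0) : ∃ e2 f1 f2, Bas B e1 e2 f1 f2 := by
  obtain ⟨w, hw⟩ := sep0 hB h1
  obtain ⟨z, hz, h2, h3⟩ := exists_orth2 hB hV e1 w
  obtain ⟨f1, f2, h⟩ := bas_of hB hV h1 h2 (by
    intro a ha
    rw [ha, map_smul, skew hB, hw, smul_eq_mul] at h3
    have ha0 : a = 0 := by linear_combination -h3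
    rw [ha0, zero_smul] at ha
    exact hz ha)
  exact ⟨z, f1, f2, h⟩

variable [CharP F 2]

omit hV in
theorem exists_vec {g : Sp B} (hg : g * g = 1) : ∃ x₀ : V, ∀ x, B (g • x) x = B x x₀ ^ 2 := by
  have : PerfectRing F 2 := PerfectRing.ofFiniteOfIsReduced 2 F
  have hadd : ∀ a b : F, (frobeniusEquiv F 2).symm (a + b) = (frobeniusEquiv F 2).symm a + (frobeniusEquiv F 2).symm b :=
    fun a b => map_add _ a b
  have hinv : g⁻¹ = g := (inv_eq_of_mul_eq_one_left hg :)
  let φ : V →ₗ[F] F :=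
    { toFun := fun v => (frobeniusEquiv F 2).symm (B (g • v) v)
      map_add' := fun v w => by
        rw [← hadd]
        have h3 : B (g • (v + w)) (v + w) = B (g • v) v + B (g • w) w := by
          rw [smul_add', map_add, map_add, LinearMap.add_apply, LinearMap.add_apply]
          have h4 : B (g • w) v = - B (g • v) w := by
            rw [B_smul_left, hinv, skew hB]
          rw [h4]
          ring
        rw [h3]
      map_smul' := fun c v => by
        have h3 : B (g • (c • v)) (c • v) = c ^ 2 * B (g • v) v := by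
          rw [smul_fsmul, map_smul, map_smul, LinearMap.smul_apply, smul_eq_mul, smul_eq_mul]
          ring
        have h4 : (frobeniusEquiv F 2).symm (c ^ 2) = c := by
          rw [← frobenius_def, ← frobeniusEquiv_apply, RingEquiv.symm_apply_apply]
        rw [h3, map_mul, h4, RingHom.id_apply, smul_eq_mul] }
  have : FiniteDimensional F V := inferInstance
  obtain ⟨y, hy⟩ := repr hB φ
  refine ⟨y, fun x => ?_⟩
  rw [hy]
  have h3 : frobeniusEquiv F 2 (φ x) = B (g • x) x := RingEquiv.apply_symm_apply _ _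
  rw [← h3, frobeniusEquiv_apply, frobenius_def]

theorem exists_bas {g : Sp B} (hg : g * g = 1) (hg1 : g ≠ 1) :
    ∃ e1 e2 f1 f2, Bas B e1 e2 f1 f2 ∧ g • e1 = e1 ∧ g • e2 = e2 ∧ B (g • f2) f2 = 0 := by
  have hinv : g⁻¹ = g := (inv_eq_of_mul_eq_one_left hg :)
  have hgg : ∀ x : V, g • g • x = x := fun x => by rw [← mul_smul, hg, one_smul]
  have hneg : ∀ x : V, -x = x := by
    intro x
    have h1 : (-1 : F) • x = (1 : F) • x := by rw [CharTwo.neg_eq]
    rwa [neg_smul, one_smul] at h1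
  obtain ⟨x₀, hx₀⟩ := exists_vec hB hg
  -- step 1
  obtain ⟨e1, he1, hge1, hperp⟩ : ∃ e1 : V, e1 ≠ 0 ∧ g • e1 = e1 ∧ ∀ x, B x e1 = 0 → B (g • x) x = 0 := by
    by_cases h0 : x₀ = 0
    · obtain ⟨x, hx⟩ : ∃ x : V, g • x ≠ x := by
        by_contra! hcon
        exact hg1 (Sp.ext' fun x => by rw [hcon, one_smul])
      refine ⟨g • x - x, sub_ne_zero.2 hx, ?_, fun y _ => ?_⟩
      · rw [smul_sub, hgg, ← neg_sub, hneg]
      · rw [hx₀, h0, map_zero, zero_pow two_ne_zero]
    · refine ⟨x₀, h0, ?_, fun x hx => by rw [hx₀, hx, zero_pow two_ne_zero]⟩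
      rw [← sub_eq_zero]
      apply hB.nd
      intro y
      rw [skew hB, neg_eq_zero, map_sub, sub_eq_zero]
      have h1 : B y (g • x₀) = B (g • y) x₀ := by
        rw [B_smul_left, hinv]
      have h2 : B (g • y) x₀ ^ 2 = B y x₀ ^ 2 := by
        rw [← hx₀, ← hx₀, hgg, skew hB, CharTwo.neg_eq]
      rw [h1]
      have h3 : (B (g • y) x₀ - B y x₀) ^ 2 = 0 := by
        have h4 : (2 : F) = 0 := CharTwo.two_eq_zero
        linear_combination h2 + (B y x₀ ^ 2 - B (g • y) x₀ * B y x₀) * h4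
      exact sub_eq_zero.1 (pow_eq_zero_iff two_ne_zero |>.1 h3)
  -- step 2
  obtain ⟨y1, f1, y2, hb⟩ := bas_of' hB hV he1
  obtain ⟨e2, he2, hge2, hind⟩ : ∃ e2 : V, B e1 e2 = 0 ∧ g • e2 = e2 ∧ ∀ a : F, e2 ≠ a • e1 := by
    have horth : ∀ y, B e1 y = 0 → B e1 (g • y - y) = 0 := by
      intro y hy
      rw [map_sub, hy, sub_zero, ← hge1, B_smul_smul, hy]
    have hfix : ∀ y : V, g • (g • y - y) = g • y - y := by
      intro y
      rw [smul_sub, hgg, ← neg_sub, hneg]
    by_cases c1 : ∀ a : F, g • y1 - y1 ≠ a • e1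
    · exact ⟨g • y1 - y1, horth _ hb.hee, hfix y1, c1⟩
    by_cases c2 : ∀ a : F, g • y2 - y2 ≠ a • e1
    · exact ⟨g • y2 - y2, horth _ hb.h12, hfix y2, c2⟩
    push Not at c1 c2
    obtain ⟨a1, ha1⟩ := c1
    obtain ⟨a2, ha2⟩ := c2
    rw [sub_eq_iff_eq_add] at ha1 ha2
    by_cases h0 : a1 = 0
    · refine ⟨y1, hb.hee, by rw [ha1, h0, zero_smul, zero_add], ?_⟩
      intro a ha
      have h1 := hb.h22
      rw [ha, map_smul, LinearMap.smul_apply, hb.h12, smul_zero] at h1
      exact zero_ne_one h1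
    · refine ⟨a2 • y1 - a1 • y2, ?_, ?_, ?_⟩
      · rw [map_sub, map_smul, map_smul, hb.hee, hb.h12, smul_zero, smul_zero, sub_zero]
      · rw [smul_sub, smul_fsmul, smul_fsmul, ha1, ha2]
        module
      · intro a ha
        have h1 : B (a2 • y1 - a1 • y2) y1 = 0 := by
          rw [ha, map_smul, LinearMap.smul_apply, hb.hee, smul_zero]
        rw [map_sub, LinearMap.sub_apply, map_smul, map_smul, LinearMap.smul_apply, LinearMap.smul_apply, hB.alt,
          hb.r22 hB, smul_eq_mul, smul_eq_mul] at h1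
        apply h0
        linear_combination -h1
  obtain ⟨f1', f2', hb'⟩ := bas_of hB hV he1 he2 hind
  exact ⟨e1, e2, f1', f2', hb', hge1, hge2, hperp _ (orth_symm hB hb'.h12)⟩

/-- **Sp_4(q), q even**: no counterexample (E2) with an involution. -/
theorem even_false {A : Subgroup (Sp B)} (hA : HE2 A) (hne : ∃ x, ¬ Tv A x) (hq : 4 ≤ Nat.card F)
    (hcard : Nat.card (Sp B) = Nat.card F ^ 4 * ((Nat.card F ^ 2 - 1) * (Nat.card F ^ 4 - 1))) {g : Sp B}
    (hgA : g ∈ A) (hg1 : g ≠ 1) (hg : g * g = 1) : False := by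
  have hno : ∀ v : V, v ≠ 0 → ∀ a : F, a ≠ 0 → t B v a ∉ A := by
    intro v hv a ha h
    obtain ⟨x, hx⟩ := hne
    exact hx (all_Tv hB hV hA hv ha h x)
  obtain ⟨e1, e2, f1, f2, hb, h1, h2, h3⟩ := exists_bas hB hV hg hg1
  have he1 : e1 ≠ 0 := by
    rintro rfl
    have := hb.h11
    rw [map_zero, LinearMap.zero_apply] at this
    exact zero_ne_one this
  have hle := UU_le hB hb h1 h2 h3
  have h4 := hA g hgA hg1 hg _ hle
  have h5 := card_AU hB hb (hno e1 he1)
  have h6 := card_UU hB hb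
  have h7 : (centralizer {g}).index ≤ (UU B e1 e2).index := Subgroup.index_antitone hle
  have h8 := (UU B e1 e2).card_mul_index
  have h9 : Nat.card (A ⊓ UU B e1 e2 : Subgroup (Sp B)) * A.relIndex (UU B e1 e2) = Nat.card (UU B e1 e2) := by
    have h10 := (A.subgroupOf (UU B e1 e2)).card_mul_index
    have h11 : Nat.card (A.subgroupOf (UU B e1 e2)) = Nat.card (A ⊓ UU B e1 e2 : Subgroup (Sp B)) := by
      rw [← Subgroup.inf_subgroupOf_right]
      exact Nat.card_congr (Subgroup.subgroupOfEquivOfLe inf_le_right).toEquiv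
    rw [h11] at h10
    exact h10
  rw [hcard] at h8
  generalize Nat.card F = q at *
  generalize A.relIndex (UU B e1 e2) = r at *
  generalize Nat.card (A ⊓ UU B e1 e2 : Subgroup (Sp B)) = m at *
  generalize Nat.card (UU B e1 e2) = u at *
  generalize (UU B e1 e2).index = i at *
  have hi : i < q ^ 6 := by
    have h10 : q ^ 4 * i ≤ q ^ 4 * ((q ^ 2 - 1) * (q ^ 4 - 1)) := by
      rw [← h8]
      exact Nat.mul_le_mul_right _ h6
    have h11 : i ≤ (q ^ 2 - 1) * (q ^ 4 - 1) := Nat.le_of_mul_le_mul_left h10 (by positivity)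
    have h12 : (q ^ 2 - 1) * (q ^ 4 - 1) < q ^ 2 * q ^ 4 := by
      apply Nat.mul_lt_mul_of_lt_of_le
      · have : 0 < q ^ 2 := by positivity
        omega
      · omega
      · positivity
    calc i ≤ _ := h11
      _ < _ := h12
      _ = q ^ 6 := by ring
  have hr : r ^ 5 < q ^ 6 := h4.trans (lt_of_le_of_lt h7 hi)
  have h10 : q ^ 2 * q ^ 2 ≤ (2 * r) * q ^ 2 := by
    calc q ^ 2 * q ^ 2 = q ^ 4 := by ring
      _ ≤ u := h6
      _ = m * r := h9.symm
      _ ≤ (2 * q ^ 2) * r := Nat.mul_le_mul_right _ h5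
      _ = (2 * r) * q ^ 2 := by ring
  have h11 : q ^ 2 ≤ 2 * r := Nat.le_of_mul_le_mul_right h10 (by positivity)
  have h12 : (q ^ 2) ^ 5 ≤ (2 * r) ^ 5 := Nat.pow_le_pow_left h11 5
  have h13 : (2 * r) ^ 5 = 32 * r ^ 5 := by ring
  have h14 : q ^ 6 * q ^ 4 < q ^ 6 * 32 := by
    calc q ^ 6 * q ^ 4 = (q ^ 2) ^ 5 := by ring
      _ ≤ 32 * r ^ 5 := by rw [← h13]; exact h12
      _ < 32 * q ^ 6 := by omega
      _ = q ^ 6 * 32 := by ring
  have h15 : q ^ 4 < 32 := Nat.lt_of_mul_lt_mul_left h14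
  have h16 : 4 ^ 4 ≤ q ^ 4 := Nat.pow_le_pow_left hq 4
  omega

end basis

end Cfsg.Agent.H580.Fx
end

-- part: H580/IF/Even
section
/-!
# S5719, `PSp_4(q)`, `q` even (helper580)
-/

set_option autoImplicit false
set_option linter.unusedSectionVars false

namespace Cfsg.Agent.H580.Fx

open MulAction Subgroup Module Cfsg Cfsg.Agent.H74.Psp Cfsg.Agent.H209.Fxy
open Cfsg.Agent.ClassicalGeometry.SympBasic Cfsg.Agent.ClassicalGeometry.SympInvolutions

variable (F : Type) [Field F] [Fintype F]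

theorem charP_of_even (h : Even (Fintype.card F)) : CharP F 2 := by
  obtain ⟨p, hp⟩ := CharP.exists F
  have : Fact p.Prime := ⟨CharP.char_is_prime F p⟩
  obtain ⟨n, hn, hc⟩ := FiniteField.card F p
  rw [hc] at h
  have h2 : 2 ∣ p := Nat.prime_two.prime.dvd_of_dvd_pow h.two_dvd
  have h3 : p = 2 := ((Nat.prime_dvd_prime_iff_eq Nat.prime_two hn).1 h2).symm
  rw [← h3]
  exact hp

/-- in characteristic two, `PSp_4(F)` is `Sp` -/
theorem exists_iso [CharP F 2] : Nonempty (PSp 2 F ≃* Sp (sympBilin 2 F)) := by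
  have h1 : Subgroup.center (Matrix.symplecticGroup (Fin 2) F) = ⊥ := by
    rw [Subgroup.eq_bot_iff_forall]
    intro z hz
    rcases center_eq hz with h | h
    · exact Subtype.ext h
    · apply Subtype.ext
      rw [h]
      ext i j
      rw [Matrix.neg_apply, CharTwo.neg_eq]
      rfl
  let e1 : PSp 2 F ≃* Matrix.symplecticGroup (Fin 2) F :=
    (QuotientGroup.quotientMulEquivOfEq h1).trans QuotientGroup.quotientBot
  exact ⟨e1.trans (MulEquiv.ofBijective (toSp 2) (toSp_bijective 2))⟩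

/-- **The cell `PSp_4(q)`, `q` even.** -/
theorem psp4_even (h3 : 3 ≤ Fintype.card F) (hev : Even (Fintype.card F)) (hs : IsSimpleGroup (PSp 2 F)) :
    KillE (PSp 2 F) := by
  classical
  have := charP_of_even F hev
  have h4 : 4 ≤ Fintype.card F := by
    obtain ⟨k, hk⟩ := hev
    omega
  obtain ⟨e⟩ := exists_iso F
  intro A Γ hA ⟨t, htA, ht⟩
  have hs' : IsSimpleGroup (Sp (sympBilin 2 F)) := (MulEquiv.isSimpleGroup_congr e).1 hs
  have h5 := hA.map e
  set A' := A.map e.toMonoidHom with hA'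
  have hB : Symp (sympBilin 2 F) := symp_sympBilin 2
  have hq : Nat.card F = Fintype.card F := Nat.card_eq_fintype_card
  have hV : Nat.card (Fin 2 ⊕ Fin 2 → F) = Nat.card F ^ 4 := by
    rw [Nat.card_fun, Nat.card_sum, Nat.card_fin]
  have hcard : Nat.card (Sp (sympBilin 2 F)) = Nat.card F ^ 4 * ((Nat.card F ^ 2 - 1) * (Nat.card F ^ 4 - 1)) := by
    rw [← Nat.card_congr (MulEquiv.ofBijective (toSp 2) (toSp_bijective (F := F) 2)).toEquiv,
      LieClassical.SympCount.card_symplecticGroup, hq, Finset.prod_range_succ, Finset.prod_range_one]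
    norm_num only []
  have hne : ∃ x, ¬ Tv A' x := by
    let K : Subgroup (Matrix.symplecticGroup (Fin 2) F) := A'.comap (toSp 2)
    have hK : K.map (toSp 2) = A' := Subgroup.map_comap_eq_self_of_surjective (toSp_bijective 2).2 A'
    have hK1 : K ≠ ⊤ := by
      intro h6
      apply h5.ne_top
      rw [← hK, h6]
      exact Subgroup.map_top_of_surjective _ (toSp_bijective 2).2
    obtain ⟨x, hx⟩ := exists_not_Tv 2 hK1
    rw [hK] at hx
    exact ⟨x, hx⟩
  have hna : ∃ a b : Sp (sympBilin 2 F), a * b ≠ b * a := by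
    by_contra! hcon
    have h0 : (Pi.single (Sum.inl 0) 1 : Fin 2 ⊕ Fin 2 → F) ≠ 0 := by
      intro h
      have := congrFun h (Sum.inl 0)
      rw [Pi.single_eq_same, Pi.zero_apply] at this
      exact one_ne_zero this
    obtain ⟨x', hx'⟩ := sep0 hB h0
    obtain ⟨s, hs0, hs1⟩ : ∃ s : F, s ≠ 0 ∧ s ≠ 1 := by
      by_contra! h6
      have h7 : Fintype.card F ≤ 2 := by
        rw [← Finset.card_univ]
        refine (Finset.card_le_card (t := {0, 1}) fun x _ => ?_).trans (Finset.card_le_two)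
        by_cases hx : x = 0
        · simp only [hx, _root_.Finset.mem_insert, _root_.Finset.mem_singleton, _root_.zero_ne_one, _root_.or_false]
        · simp only [h6 x hx, _root_.Finset.mem_insert, _root_.one_ne_zero, _root_.Finset.mem_singleton, _root_.or_true]
      omega
    have h6 := conj_t hB (hh (sympBilin 2 F) (Pi.single (Sum.inl 0) 1) x' s) (Pi.single (Sum.inl 0) 1) 1
    rw [hcon, inv_mul_cancel_left, hh_smul_v hB hx' hs0, t_scale hB, mul_one] at h6
    have h7 := t_inj hB h0 h6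
    have h8 : (s + 1) ^ 2 = 0 := by
      have h9 : (2 : F) = 0 := CharTwo.two_eq_zero
      linear_combination -h7 + (s + 1) * h9
    have h9 := pow_eq_zero_iff two_ne_zero |>.1 h8
    exact hs1 (CharTwo.add_eq_zero.1 h9)
  have hE2 : HE2 A' := by
    intro g hg hg1 hgg C hC
    have h6 : orderOf g = 2 := orderOf_eq_prime (by rw [sq, hgg]) hg1
    exact ((H999.IFB.IF.E2' h5 hna hg h6).2.2.2.2 C hC).1
  have ht2 : orderOf (e t) = 2 := by rw [MulEquiv.orderOf_eq, ht]
  refine even_false hB hV hE2 hne (by rw [hq]; exact h4) hcard (g := e t) ⟨t, htA, rfl⟩ ?_ ?_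
  · intro h6
    rw [h6, orderOf_one] at ht2
    exact absurd ht2 (by norm_num)
  · rw [← sq]
    exact orderOf_dvd_iff_pow_eq_one.1 (dvd_of_eq ht2)

end Cfsg.Agent.H580.Fx
end

private theorem dce_2e50feb86f0d : _root_.True := by
  try have : _root_.True := by simp only [_root_.Cfsg.Agent.H172.IF.hat.congr_simp]
  exact _root_.True.intro
end

section
prune_inst 0xfcbcfbe9f83ddfdfff7e7fa6d8cdfc39901fffe4dff94bffe069ff0bdf030809c523ad09e010fe0eb7401410a87843f97eceffe26bdc7ffffd5ff41ffbee0ff5f7b508519488340fbc0ffe03f0778e7f000000000000000000000000000000000200000000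

-- part: H804/IF/P4Main
section
prune_inst 0x24004020000000000000001000200020000000200000000008200102000000600d802000080004040a20000100010020020000104000000000000000000000000000000421400000000010000000000000000000000000000000000000000000000000000
set_option linter.all false
open scoped Cfsg.Agent.FastGrp

-- part: H804/IF/P4Frame
section
/-!
# S5719, `PSp_4(q)`, `q` odd: the concrete projection (helper804)
-/

set_option autoImplicit false
set_option linter.unusedSectionVars false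

namespace Cfsg.Agent.H804.P4

open Subgroup Cfsg Cfsg.Agent.H74.Psp Cfsg.Agent.H209.Fxy Cfsg.Agent.ClassicalGeometry.SympBasic

/-- `Sp B ≃ symplecticGroup` -/
noncomputable def e0 (F : Type*) [Field F] : Matrix.symplecticGroup (Fin 2) F ≃* Sp (sympBilin 2 F) :=
  MulEquiv.ofBijective (toSp 2) (toSp_bijective 2)

end Cfsg.Agent.H804.P4
end

-- part: H804/IF/P4Sl
section
/-!
# S5719, `PSp_4(q)`, `q` odd: two facts on subgroups of `SL₂(q)` (helper804)

* `odd_index` : `-1 ∈ M ≤ SL₂(q)` without elements of square `-1` has index at least `q + 1`;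
* `sl_top` : `-1 ∈ M`, `|SL₂(q) : M|⁵ < q²(q²+1)` implies `M = SL₂(q)`.
-/

set_option autoImplicit false
set_option linter.unusedSectionVars false

namespace Cfsg.Agent.H804.P4

open Matrix OnePoint
open Cfsg.Agent.ClassicalGeometry.SL2Line Cfsg.Agent.ClassicalGeometry.SL2Borel
open Cfsg.Agent.ClassicalGeometry.SL2Outer Cfsg.Agent.ClassicalGeometry.MinIndexPSL2
open Cfsg.Agent.ClassicalGeometry.MinIndexMain

section

variable {F : Type*} [Field F]

theorem sl_sq_eq_one (h2 : (2 : F) ≠ 0) {m : _root_.Matrix.SpecialLinearGroup (Fin 2) F} (h : m * m = 1) : m = 1 ∨ m = -1 := by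
  have h00 := congrArg (fun g : _root_.Matrix.SpecialLinearGroup (Fin 2) F => g 0 0) h
  have h01 := congrArg (fun g : _root_.Matrix.SpecialLinearGroup (Fin 2) F => g 0 1) h
  have h10 := congrArg (fun g : _root_.Matrix.SpecialLinearGroup (Fin 2) F => g 1 0) h
  have h11 := congrArg (fun g : _root_.Matrix.SpecialLinearGroup (Fin 2) F => g 1 1) h
  simp only [sl_mul_apply, sl_one_apply] at h00 h01 h10 h11
  norm_num only [_root_.ite_true, _root_.zero_ne_one, _root_.ite_false, _root_.one_ne_zero] at h00 h01 h10 h11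
  have hd := det_eq m
  have ha : m 0 0 * (m 0 0 + m 1 1) = 2 := by linear_combination h00 + hd
  have ht : m 0 0 + m 1 1 ≠ 0 := fun h0 => by
    rw [h0, mul_zero] at ha
    exact h2 ha.symm
  have hb : m 0 1 = 0 := by
    have : m 0 1 * (m 0 0 + m 1 1) = 0 := by linear_combination h01
    exact (mul_eq_zero.1 this).resolve_right ht
  have hc : m 1 0 = 0 := by
    have : m 1 0 * (m 0 0 + m 1 1) = 0 := by linear_combination h10
    exact (mul_eq_zero.1 this).resolve_right ht
  have h1 : m 0 0 * m 0 0 = 1 := by rw [hb] at h00; linear_combination h00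
  rw [hb, zero_mul, sub_zero] at hd
  rcases sq1_cases h1 with h3 | h3
  · left
    rw [h3, one_mul] at hd
    apply sl_ext <;> rw [sl_one_apply] <;> simp [h3, hb, hc, hd]
  · right
    rw [h3] at hd
    have h4 : m 1 1 = -1 := by linear_combination -hd
    apply sl_ext <;> rw [sl_neg_apply, sl_one_apply] <;> simp [h3, hb, hc, h4]

theorem neg_one_ne (h2 : (2 : F) ≠ 0) : (-1 : _root_.Matrix.SpecialLinearGroup (Fin 2) F) ≠ 1 := by
  intro h
  have h00 := congrArg (fun g : _root_.Matrix.SpecialLinearGroup (Fin 2) F => g 0 0) h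
  simp only [sl_neg_apply, sl_one_apply, if_true] at h00
  apply h2
  linear_combination -h00

attribute [local instance] slLineAction

/-- **Subgroups without elements of square `-1`.** -/
theorem odd_index [Finite F] (h2 : (2 : F) ≠ 0) (M : Subgroup (_root_.Matrix.SpecialLinearGroup (Fin 2) F))
    (hneg : (-1 : _root_.Matrix.SpecialLinearGroup (Fin 2) F) ∈ M) (h4 : ∀ m ∈ M, m * m ≠ -1) : Nat.card F + 1 ≤ M.index := by
  classical
  by_contra hcon
  have hidx : M.index ≤ Nat.card F := by omega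
  have htop : M ≠ ⊤ := by
    rintro rfl
    apply h4 (mk 0 (-1) 1 0 (by ring)) (Subgroup.mem_top _)
    apply sl_ext <;> rw [sl_neg_apply, sl_one_apply, sl_mul_apply] <;> simp [mk_00, mk_01, mk_10, mk_11]
  have htr := isPretransitive M hneg htop hidx
  have hc := card_stab_mul (G := M) (∞ : OnePoint F)
  rw [MulAction.orbit_eq_univ, Set.ncard_univ, card_line] at hc
  -- `2` divides the order of the stabiliser
  have hneg' : (⟨-1, hneg⟩ : M) ∈ MulAction.stabilizer M (∞ : OnePoint F) := by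
    rw [MulAction.mem_stabilizer_iff]
    exact (sl_smul_infty_eq_iff (-1)).2 (by rw [sl_neg_apply, sl_one_apply]; simp)
  have h5 : 2 ∣ Nat.card (MulAction.stabilizer M (∞ : OnePoint F)) := by
    have h6 : orderOf (⟨⟨-1, hneg⟩, hneg'⟩ : MulAction.stabilizer M (∞ : OnePoint F)) = 2 := by
      apply orderOf_eq_prime
      · rw [pow_two]
        apply Subtype.ext
        apply Subtype.ext
        show (-1 : _root_.Matrix.SpecialLinearGroup (Fin 2) F) * -1 = 1
        rw [neg_mul_neg, one_mul]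
      · intro h
        have h7 : (-1 : _root_.Matrix.SpecialLinearGroup (Fin 2) F) = 1 := congrArg (fun x => ((x : M) : _root_.Matrix.SpecialLinearGroup (Fin 2) F))
          (congrArg Subtype.val h)
        exact neg_one_ne h2 h7
    have h7 := orderOf_dvd_natCard (⟨⟨-1, hneg⟩, hneg'⟩ : MulAction.stabilizer M (∞ : OnePoint F))
    rwa [h6] at h7
  have h6 : 2 ∣ Nat.card F + 1 := by
    have hodd : ¬ 2 ∣ Nat.card F := by
      intro hd
      apply h2
      have := Fintype.ofFinite F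
      rw [Nat.card_eq_fintype_card] at hd
      have h3 : ringChar F = 2 := FiniteField.even_card_iff_char_two.2 (by omega)
      have := ringChar.Nat.cast_ringChar (R := F)
      rw [h3] at this
      exact_mod_cast this
    omega
  have h7 : 2 ^ 2 ∣ Nat.card M := by
    rw [← hc, pow_two]
    exact Nat.mul_dvd_mul h5 h6
  obtain ⟨K, hK⟩ := Sylow.exists_subgroup_card_pow_prime 2 h7
  have h8 : ∀ k ∈ K, (k : _root_.Matrix.SpecialLinearGroup (Fin 2) F) = 1 ∨ (k : _root_.Matrix.SpecialLinearGroup (Fin 2) F) = -1 := by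
    intro k hk
    have h9 : (k : M) ^ 4 = 1 := by
      have := pow_card_eq_one' (x := (⟨k, hk⟩ : K))
      rw [hK] at this
      exact congrArg Subtype.val this
    have h10 : ((k : _root_.Matrix.SpecialLinearGroup (Fin 2) F) * k) * (k * k) = 1 := by
      have := congrArg (fun x : M => (x : _root_.Matrix.SpecialLinearGroup (Fin 2) F)) h9
      simp only [Subgroup.coe_pow, Subgroup.coe_one] at this
      rw [← pow_two, ← pow_two, ← pow_mul]
      exact this
    rcases sl_sq_eq_one h2 h10 with h11 | h11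
    · exact sl_sq_eq_one h2 h11
    · exact absurd h11 (h4 _ k.2)
  have h9 : Nat.card K ≤ 2 := by
    have hinj : Function.Injective (fun k : K => decide (((k : M) : _root_.Matrix.SpecialLinearGroup (Fin 2) F) = 1)) := by
      intro k k' hkk
      simp only [decide_eq_decide] at hkk
      apply Subtype.ext
      apply Subtype.ext
      rcases h8 k k.2 with h10 | h10 <;> rcases h8 k' k'.2 with h11 | h11
      · rw [h10, h11]
      · exact absurd (hkk.1 h10) (by rw [h11]; exact neg_one_ne h2)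
      · exact absurd (hkk.2 h11) (by rw [h10]; exact neg_one_ne h2)
      · rw [h10, h11]
    have := Nat.card_le_card_of_injective _ hinj
    rwa [Nat.card_eq_fintype_card (α := Bool), Fintype.card_bool] at this
  rw [hK] at h9
  norm_num at h9

theorem uni_pow (b : F) (k : ℕ) : uni b ^ k = uni (k * b) := by
  induction k with
  | zero => rw [pow_zero, Nat.cast_zero, zero_mul, uni_zero]
  | succ k ih => rw [pow_succ, ih, ← uni_add, Nat.cast_succ, add_mul, one_mul]

theorem center_pm (h2 : (2 : F) ≠ 0) {z : _root_.Matrix.SpecialLinearGroup (Fin 2) F}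
    (hz : z ∈ Subgroup.center (_root_.Matrix.SpecialLinearGroup (Fin 2) F)) : z = 1 ∨ z = -1 := by
  apply sl_sq_eq_one h2
  rw [Matrix.SpecialLinearGroup.mem_center_iff] at hz
  obtain ⟨r, hr, hz⟩ := hz
  have h : ∀ i j, z i j = if i = j then r else 0 := by
    intro i j
    have : (z : Matrix (Fin 2) (Fin 2) F) i j = (Matrix.scalar (Fin 2) r) i j := by rw [hz]
    rw [this, Matrix.scalar_apply, Matrix.diagonal_apply]
  rw [Fintype.card_fin] at hr
  apply sl_ext <;> rw [sl_mul_apply, sl_one_apply] <;> simp [h, ← pow_two, hr]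

/-- **Subgroups of small index.** -/
theorem sl_top [Finite F] (h2 : (2 : F) ≠ 0) (M : Subgroup (_root_.Matrix.SpecialLinearGroup (Fin 2) F))
    (hneg : (-1 : _root_.Matrix.SpecialLinearGroup (Fin 2) F) ∈ M)
    (h5 : M.index ^ 5 < Nat.card F ^ 2 * (Nat.card F ^ 2 + 1)) : M = ⊤ := by
  classical
  have := Fintype.ofFinite F
  by_contra htop
  have hq1 : 1 < Nat.card F := Finite.one_lt_card
  have hodd : ¬ 2 ∣ Nat.card F := by
    intro hd
    apply h2
    rw [Nat.card_eq_fintype_card] at hd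
    have h3 : ringChar F = 2 := FiniteField.even_card_iff_char_two.2 (by omega)
    have := ringChar.Nat.cast_ringChar (R := F)
    rw [h3] at this
    exact_mod_cast this
  have hlt : M.index < Nat.card F := by
    by_contra hge
    have h6 : Nat.card F ^ 5 ≤ M.index ^ 5 := Nat.pow_le_pow_left (not_lt.1 hge) 5
    have h7 : Nat.card F ^ 2 * (Nat.card F ^ 2 + 1) ≤ Nat.card F ^ 5 := by
      have h8 : Nat.card F ^ 2 + 1 ≤ Nat.card F ^ 3 := by nlinarith only [hq1]
      calc Nat.card F ^ 2 * (Nat.card F ^ 2 + 1) ≤ Nat.card F ^ 2 * Nat.card F ^ 3 := Nat.mul_le_mul_left _ h8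
        _ = _ := by ring
    omega
  obtain ⟨p, hp⟩ := CharP.exists F
  have hpp : Fact (Nat.Prime p) := ⟨CharP.char_is_prime F p⟩
  have hmain := Cfsg.Agent.ClassicalGeometry.MinIndexFinal.main (F := F) (E := FiniteField.Extension F p 2) M hneg
    htop hlt.le (FiniteField.natCard_extension F p 2)
  -- the prime case
  have hprime : ∀ r : ℕ, r.Prime → Nat.card F = r → False := by
    intro r hr hFr
    obtain ⟨b, hb⟩ := exists_uni_not_mem M htop hlt.le
    apply hb
    have h6 : M.relIndex (Subgroup.zpowers (uni b)) ∣ r := by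
      refine dvd_trans (Subgroup.relIndex_dvd_card M _) ?_
      rw [Nat.card_zpowers]
      apply orderOf_dvd_of_pow_eq_one
      rw [uni_pow]
      have : ((r : ℕ) : F) = 0 := by
        rw [← hFr, Nat.card_eq_fintype_card]
        exact FiniteField.cast_card_eq_zero F
      rw [this, zero_mul, uni_zero]
    have h7 : M.relIndex (Subgroup.zpowers (uni b)) ≤ M.index := by
      rw [← Subgroup.relIndex_top_right]
      exact Subgroup.relIndex_le_of_le_right le_top (by
        rw [Subgroup.relIndex_top_right]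
        exact Subgroup.index_ne_zero_of_finite)
    rcases (Nat.dvd_prime hr).1 h6 with h8 | h8
    · exact Subgroup.relIndex_eq_one.1 h8 (Subgroup.mem_zpowers _)
    · omega
  have hcase : Nat.card F = 3 ∨ Nat.card F = 5 ∨ Nat.card F = 7 ∨ Nat.card F = 9 ∨ Nat.card F = 11 := by
    rcases hmain with h | h | ⟨-, h⟩ <;> omega
  rcases hcase with h | h | h | h | h
  · exact hprime 3 (by norm_num) h
  · exact hprime 5 (by norm_num) h
  · exact hprime 7 (by norm_num) h
  · -- nine
    have hidx : M.index ≤ 5 := by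
      by_contra hge
      have h6 : 6 ^ 5 ≤ M.index ^ 5 := Nat.pow_le_pow_left (by omega) 5
      rw [h] at h5
      norm_num at h5 h6
      omega
    have hs := Cfsg.Agent.TwoFusion.SLTwoFacts.isSimpleGroup_psl (F := F) (by
      rw [← Nat.card_eq_fintype_card, h]
      norm_num)
    let mk' : _root_.Matrix.SpecialLinearGroup (Fin 2) F →* Matrix.ProjectiveSpecialLinearGroup (Fin 2) F :=
      QuotientGroup.mk' (Subgroup.center (_root_.Matrix.SpecialLinearGroup (Fin 2) F))
    have hsurj : Function.Surjective mk' := QuotientGroup.mk'_surjective _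
    have hker : mk'.ker = Subgroup.center (_root_.Matrix.SpecialLinearGroup (Fin 2) F) := QuotientGroup.ker_mk' _
    have hi : (M.map mk').index = M.index := by
      apply Subgroup.index_map_eq _ hsurj
      rw [hker]
      intro z hz
      rcases center_pm h2 hz with rfl | rfl
      · exact M.one_mem
      · exact hneg
    have hne : M.map mk' ≠ ⊤ := by
      intro h6
      apply htop
      rw [← Subgroup.index_eq_one, ← hi, h6, Subgroup.index_top]
    have h6 := Cfsg.Agent.H554.card_dvd_factorial hne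
    have h7 : Nat.card (Matrix.ProjectiveSpecialLinearGroup (Fin 2) F) ≤ 120 := by
      refine le_trans (Nat.le_of_dvd (Nat.factorial_pos _) h6) ?_
      rw [hi]
      exact Nat.factorial_le hidx
    have h8 : Nat.card (Subgroup.center (_root_.Matrix.SpecialLinearGroup (Fin 2) F)) ≤ 2 := by
      have hinj : Function.Injective (fun k : Subgroup.center (_root_.Matrix.SpecialLinearGroup (Fin 2) F) =>
          decide ((k : _root_.Matrix.SpecialLinearGroup (Fin 2) F) = 1)) := by
        intro k k' hkk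
        simp only [decide_eq_decide] at hkk
        apply Subtype.ext
        rcases center_pm h2 k.2 with h10 | h10 <;> rcases center_pm h2 k'.2 with h11 | h11
        · rw [h10, h11]
        · exact absurd (hkk.1 h10) (by rw [h11]; exact neg_one_ne h2)
        · exact absurd (hkk.2 h11) (by rw [h10]; exact neg_one_ne h2)
        · rw [h10, h11]
      have := Nat.card_le_card_of_injective _ hinj
      rwa [Nat.card_eq_fintype_card (α := Bool), Fintype.card_bool] at this
    have h9 := Subgroup.card_eq_card_quotient_mul_card_subgroup (Subgroup.center (_root_.Matrix.SpecialLinearGroup (Fin 2) F))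
    rw [card_sl2, h] at h9
    have h10 : Nat.card (_root_.Matrix.SpecialLinearGroup (Fin 2) F ⧸ Subgroup.center (_root_.Matrix.SpecialLinearGroup (Fin 2) F)) ≤ 120 := h7
    have h11 := Nat.mul_le_mul h10 h8
    rw [← h9] at h11
    norm_num at h11
  · exact hprime 11 (by norm_num) h

end

end Cfsg.Agent.H804.P4
end

-- part: H804/IF/P4Hom
section
/-!
# S5719, `PSp_4(q)`, `q` odd: `SL₂` of a hyperbolic pair (helper804)

`sl hB h : SL(2,F) →* Sp B` for `h : B v v' = 1`: `v ↦ g₀₀ v + g₁₀ v'`, `v' ↦ g₀₁ v + g₁₁ v'`, the identity on the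
orthogonal complement.
-/

set_option autoImplicit false
set_option linter.unusedSectionVars false

namespace Cfsg.Agent.H804.P4

open Subgroup Module Cfsg.Agent.H74.Psp Cfsg.Agent.H209.Fxy Cfsg.Agent.ClassicalGeometry.SL2Line
open Cfsg.Agent.ClassicalGeometry.SL2Borel Cfsg.Agent.ClassicalGeometry.MinIndexPSL2

section

variable {F V : Type*} [Field F] [AddCommGroup V] [Module F V] {B : V →ₗ[F] V →ₗ[F] F}

local notation "SL2" => Matrix.SpecialLinearGroup (Fin 2)

/-- the linear map of `g` -/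
noncomputable def slfun (B : V →ₗ[F] V →ₗ[F] F) (v v' : V) (g : SL2 F) : V →ₗ[F] V :=
  LinearMap.id + ((g 0 0 - 1) • B.flip v' + g 0 1 • B v).smulRight v +
    (g 1 0 • B.flip v' + (g 1 1 - 1) • B v).smulRight v'

theorem slfun_apply (v v' : V) (g : SL2 F) (x : V) : slfun B v v' g x =
    x + ((g 0 0 - 1) * B x v' + g 0 1 * B v x) • v + (g 1 0 * B x v' + (g 1 1 - 1) * B v x) • v' := by
  simp only [slfun, _root_.Fin.isValue, _root_.LinearMap.add_apply, _root_.LinearMap.id_coe, _root_.id_eq, _root_.LinearMap.coe_smulRight, _root_.LinearMap.smul_apply, _root_.LinearMap.flip_apply, _root_.smul_eq_mul]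

theorem slfun_one (v v' : V) : slfun B v v' (1 : SL2 F) = LinearMap.id := by
  apply LinearMap.ext
  intro x
  rw [slfun_apply]
  simp [sl_one_apply]

theorem slfun_mul (hB : Symp B) {v v' : V} (h : B v v' = 1) (g k : SL2 F) :
    slfun B v v' g ∘ₗ slfun B v v' k = slfun B v v' (g * k) := by
  have h1 : B v' v = -1 := by rw [skew hB, h]
  apply LinearMap.ext
  intro x
  rw [LinearMap.comp_apply, slfun_apply, slfun_apply, slfun_apply]
  simp only [sl_mul_apply, map_add, LinearMap.map_smul, LinearMap.add_apply, LinearMap.smul_apply, smul_eq_mul,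
    hB.alt, h]
  match_scalars <;> ring

/-- **`SL₂` of a hyperbolic pair** -/
noncomputable def sl (hB : Symp B) {v v' : V} (h : B v v' = 1) : SL2 F →* Sp B where
  toFun g := ⟨LinearEquiv.ofLinearMap (slfun B v v' g) (slfun B v v' g⁻¹)
      (by rw [slfun_mul hB h, mul_inv_cancel, slfun_one]) (by rw [slfun_mul hB h, inv_mul_cancel, slfun_one]), by
    intro x y
    change B (slfun B v v' g x) (slfun B v v' g y) = B x y
    have h1 : B v' v = -1 := by rw [skew hB, h]
    have hd := det_eq g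
    simp only [slfun_apply, map_add, LinearMap.map_smul, LinearMap.add_apply, LinearMap.smul_apply, smul_eq_mul,
      hB.alt, h, h1, skew hB v' y, skew hB x v]
    linear_combination (B x v' * B v y - B y v' * B v x) * hd⟩
  map_one' := by
    apply Sp.ext'
    intro x
    change slfun B v v' 1 x = x
    rw [slfun_one]
    rfl
  map_mul' g k := by
    apply Sp.ext'
    intro x
    rw [mul_smul]
    change slfun B v v' (g * k) x = slfun B v v' g (slfun B v v' k x)
    rw [← slfun_mul hB h]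
    rfl

variable (hB : Symp B) {v v' : V} (h : B v v' = 1)

theorem sl_smul (g : SL2 F) (x : V) : sl hB h g • x =
    x + ((g 0 0 - 1) * B x v' + g 0 1 * B v x) • v + (g 1 0 * B x v' + (g 1 1 - 1) * B v x) • v' :=
  slfun_apply v v' g x

theorem sl_v (g : SL2 F) : sl hB h g • v = g 0 0 • v + g 1 0 • v' := by
  rw [sl_smul, h, hB.alt]
  module

theorem sl_v' (g : SL2 F) : sl hB h g • v' = g 0 1 • v + g 1 1 • v' := by
  rw [sl_smul, h, hB.alt]
  module

theorem sl_orth (g : SL2 F) {x : V} (h1 : B v x = 0) (h2 : B v' x = 0) : sl hB h g • x = x := by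
  rw [sl_smul, h1, orth_symm hB h2]
  module

theorem sl_tt (a b c : F) : ∃ g : SL2 F, sl hB h g = t B (a • v + b • v') c := by
  refine ⟨_root_.Cfsg.Agent.ClassicalGeometry.SL2Line.mk (1 + c * a * b) (-(c * a ^ 2)) (c * b ^ 2) (1 - c * a * b) (by ring), ?_⟩
  apply Sp.ext'
  intro x
  rw [sl_smul, t_smul hB]
  simp only [mk_00, mk_01, mk_10, mk_11, map_add, LinearMap.map_smul, smul_eq_mul, skew hB v x]
  match_scalars <;> ring

theorem sl_inj : Function.Injective (sl hB h) := by
  intro g k hgk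
  have h1 : B v' v = -1 := by rw [skew hB, h]
  have e1 := congrArg (fun f : Sp B => f • v) hgk
  have e2 := congrArg (fun f : Sp B => f • v') hgk
  simp only [sl_v, sl_v'] at e1 e2
  have f1 := congrArg (fun x => B x v') e1
  have f2 := congrArg (fun x => B v x) e1
  have f3 := congrArg (fun x => B x v') e2
  have f4 := congrArg (fun x => B v x) e2
  simp only [map_add, LinearMap.map_smul, LinearMap.add_apply, LinearMap.smul_apply, smul_eq_mul, hB.alt, h, mul_one,
    mul_zero, add_zero, zero_add] at f1 f2 f3 f4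
  exact sl_ext f1 f3 f2 f4

theorem sl_neg_one : sl hB h (-1) = negOne B * inv2 B v v' := by
  apply Sp.ext'
  intro x
  rw [sl_smul, mul_smul, inv2_smul hB h, negOne_smul, skew hB v x]
  simp only [sl_neg_apply, sl_one_apply]
  norm_num only [_root_.ite_true, _root_.neg_mul, _root_.zero_ne_one, _root_.ite_false, _root_.neg_zero, _root_.mul_neg, _root_.MulZeroClass.zero_mul, _root_.add_zero, _root_.neg_smul, _root_.one_ne_zero, _root_.neg_neg, _root_.zero_add, _root_.neg_sub]
  module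

/-- orthogonal pairs -/
theorem sl_comm {u u' : V} (hu : B u u' = 1) (h1 : B v u = 0) (h2 : B v u' = 0) (h3 : B v' u = 0) (h4 : B v' u' = 0)
    (g k : SL2 F) : sl hB h g * sl hB hu k = sl hB hu k * sl hB h g := by
  apply Sp.ext'
  intro x
  rw [mul_smul, mul_smul, sl_smul, sl_smul, sl_smul, sl_smul]
  simp only [map_add, LinearMap.map_smul, LinearMap.add_apply, LinearMap.smul_apply, smul_eq_mul, h1, h2, h3, h4,
    orth_symm hB h1, orth_symm hB h2, orth_symm hB h3, orth_symm hB h4]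
  match_scalars <;> ring

end

end Cfsg.Agent.H804.P4
end

-- part: H804/IF/P4A
section
/-!
# S5719, `PSp_4(q)`, `q` odd: `A` contains an involution of type `t₁` (helper804)
-/

set_option autoImplicit false
set_option linter.unusedSectionVars false
set_option linter.unusedSimpArgs false

namespace Cfsg.Agent.H804.P4

open Subgroup Module Cfsg.Agent.H74.Psp Cfsg.Agent.H209.Fxy Cfsg.Agent.ClassicalGeometry.SL2Line
open Cfsg.Agent.ClassicalGeometry.SL2Borel Cfsg.Agent.ClassicalGeometry.MinIndexPSL2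

section

variable {F V : Type*} [Field F] [Finite F] [AddCommGroup V] [Module F V] [Finite V] {B : V →ₗ[F] V →ₗ[F] F}

local notation "SL2" => Matrix.SpecialLinearGroup (Fin 2)

/-- the orthogonal pair -/
theorem exists_orth (hB : Symp B) (hV : Nat.card V = Nat.card F ^ 4) {v v' : V} (h : B v v' = 1) :
    ∃ u u' : V, B u u' = 1 ∧ B v u = 0 ∧ B v u' = 0 ∧ B v' u = 0 ∧ B v' u' = 0 := by
  obtain ⟨y0, hy0⟩ : ∃ y0 : V, ∀ a b : F, y0 ≠ a • v + b • v' := by
    by_contra! hcon
    have hs : Function.Surjective (fun p : F × F => p.1 • v + p.2 • v') := by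
      intro z
      obtain ⟨a, b, hab⟩ := hcon z
      exact ⟨(a, b), hab.symm⟩
    have h3 := Nat.card_le_card_of_surjective _ hs
    rw [hV, Nat.card_prod, ← pow_two] at h3
    have h4 : Nat.card F ^ 2 < Nat.card F ^ 4 := Nat.pow_lt_pow_right Finite.one_lt_card (by norm_num)
    omega
  obtain ⟨u, a1, b1, hu1, hu2, hu3⟩ := decompV hB h y0
  have hu0 : u ≠ 0 := by
    rintro rfl
    exact hy0 a1 b1 (by rw [hu1, zero_add])
  obtain ⟨w0, hw0⟩ := sep0 hB hu0
  obtain ⟨u', a2, b2, hw1, hw2, hw3⟩ := decompV hB h w0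
  refine ⟨u, u', ?_, hu2, hw2, hu3, hw3⟩
  rw [hw1, map_add, map_add, LinearMap.map_smul, LinearMap.map_smul, orth_symm hB hu2, orth_symm hB hu3, smul_zero,
    smul_zero, add_zero, add_zero] at hw0
  exact hw0

/-- `inv2` of orthogonal pairs -/
theorem inv2_eq (hB : Symp B) (hV : Nat.card V = Nat.card F ^ 4) {v v' u u' : V} (h : B v v' = 1) (hu : B u u' = 1)
    (h1 : B v u = 0) (h2 : B v u' = 0) (h3 : B v' u = 0) (h4 : B v' u' = 0) :
    inv2 B u u' = negOne B * inv2 B v v' := by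
  apply Sp.ext'
  intro z
  obtain ⟨a, b, c, d, rfl⟩ := four hB hV h hu h1 h2 h3 h4 z
  rw [mul_smul, negOne_smul, inv2_smul hB h, inv2_smul hB hu]
  simp only [map_add, LinearMap.map_smul, LinearMap.add_apply, LinearMap.smul_apply, smul_eq_mul, hB.alt, h, hu, h1,
    h2, h3, h4, orth_symm hB h1, orth_symm hB h2, orth_symm hB h3, orth_symm hB h4, skew hB v' v, skew hB u' u]
  module

/-- the centraliser of `inv2` -/
theorem index_centralizer (hB : Symp B) (hV : Nat.card V = Nat.card F ^ 4)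
    (hcard : Nat.card (Sp B) = Nat.card F ^ 4 * ((Nat.card F ^ 2 - 1) * (Nat.card F ^ 4 - 1)))
    {v v' : V} (h : B v v' = 1) :
    (centralizer ({inv2 B v v'} : Set (Sp B))).index ≤ Nat.card F ^ 2 * (Nat.card F ^ 2 + 1) := by
  classical
  obtain ⟨u, u', hu, h1, h2, h3, h4⟩ := exists_orth hB hV h
  set C := centralizer ({inv2 B v v'} : Set (Sp B)) with hC
  have hq : 1 < Nat.card F := Finite.one_lt_card
  have hsq : 2 ^ 2 ≤ Nat.card F ^ 2 := Nat.pow_le_pow_left hq 2
  have hmem : ∀ p : SL2 F × SL2 F, sl hB h p.1 * sl hB hu p.2 ∈ C := by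
    intro p
    rw [hC, mem_centralizer_singleton_iff]
    have e1 : inv2 B v v' = negOne B * sl hB h (-1) := by
      rw [sl_neg_one, ← mul_assoc, negOne_mul_self, one_mul]
    have e2 : sl hB h p.1 * sl hB h (-1) = sl hB h (-1) * sl hB h p.1 := by
      rw [← map_mul, ← map_mul, mul_neg, neg_mul, mul_one, one_mul]
    have e3 := sl_comm hB h hu h1 h2 h3 h4 (-1) p.2
    rw [e1]
    calc sl hB h p.1 * sl hB hu p.2 * (negOne B * sl hB h (-1))
        = (sl hB h p.1 * sl hB hu p.2 * negOne B) * sl hB h (-1) := by group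
      _ = (negOne B * (sl hB h p.1 * sl hB hu p.2)) * sl hB h (-1) := by rw [negOne_comm]
      _ = negOne B * (sl hB h p.1 * (sl hB hu p.2 * sl hB h (-1))) := by group
      _ = negOne B * ((sl hB h p.1 * sl hB h (-1)) * sl hB hu p.2) := by rw [← e3]; group
      _ = _ := by rw [e2]; group
  have hinj : Function.Injective (fun p : SL2 F × SL2 F => (⟨sl hB h p.1 * sl hB hu p.2, hmem p⟩ : C)) := by
    rintro ⟨g, k⟩ ⟨g', k'⟩ he
    have he' : sl hB h g * sl hB hu k = sl hB h g' * sl hB hu k' := congrArg Subtype.val he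
    have e1 : sl hB hu k • v = v := sl_orth hB hu k (orth_symm hB h1) (orth_symm hB h2)
    have e1' : sl hB hu k' • v = v := sl_orth hB hu k' (orth_symm hB h1) (orth_symm hB h2)
    have e2 : sl hB hu k • v' = v' := sl_orth hB hu k (orth_symm hB h3) (orth_symm hB h4)
    have e2' : sl hB hu k' • v' = v' := sl_orth hB hu k' (orth_symm hB h3) (orth_symm hB h4)
    have hg : sl hB h g = sl hB h g' := by
      apply Sp.ext'
      intro z
      obtain ⟨a, b, c, d, rfl⟩ := four hB hV h hu h1 h2 h3 h4 z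
      have f1 := congrArg (fun f : Sp B => f • v) he'
      have f2 := congrArg (fun f : Sp B => f • v') he'
      simp only [mul_smul, e1, e1', e2, e2'] at f1 f2
      simp only [smul_add', smul_fsmul, f1, f2, sl_orth hB h _ h1 h3, sl_orth hB h _ h2 h4]
    rw [hg] at he'
    exact Prod.ext (sl_inj hB h hg) (sl_inj hB hu (mul_left_cancel he'))
  have h5 := Nat.card_le_card_of_injective _ hinj
  rw [Nat.card_prod, card_sl2] at h5
  have h6 := C.index_mul_card
  rw [hcard] at h6
  have h7 : 0 < Nat.card F * (Nat.card F ^ 2 - 1) := Nat.mul_pos (by omega) (by omega)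
  have h8 : C.index * ((Nat.card F * (Nat.card F ^ 2 - 1)) * (Nat.card F * (Nat.card F ^ 2 - 1))) ≤
      (Nat.card F ^ 2 * (Nat.card F ^ 2 + 1)) * ((Nat.card F * (Nat.card F ^ 2 - 1)) *
        (Nat.card F * (Nat.card F ^ 2 - 1))) := by
    calc _ ≤ C.index * Nat.card C := Nat.mul_le_mul_left _ h5
      _ = Nat.card F ^ 4 * ((Nat.card F ^ 2 - 1) * (Nat.card F ^ 4 - 1)) := h6
      _ = _ := by
        obtain ⟨m, hm⟩ : ∃ m, Nat.card F ^ 2 = m + 1 := ⟨Nat.card F ^ 2 - 1, by omega⟩
        have e4 : Nat.card F ^ 4 - 1 = m * (m + 2) := by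
          have : Nat.card F ^ 4 = (Nat.card F ^ 2) ^ 2 := by ring
          rw [this, hm]
          have : (m + 1) ^ 2 = m * (m + 2) + 1 := by ring
          omega
        have e5 : Nat.card F ^ 2 - 1 = m := by omega
        rw [e4, e5]
        have e6 : Nat.card F ^ 4 = (m + 1) * (m + 1) := by rw [← hm]; ring
        have e7 : (m + 1) * (m + 1 + 1) * (Nat.card F * m * (Nat.card F * m)) =
          (m + 1) * (m + 1 + 1) * (Nat.card F ^ 2 * m ^ 2) := by ring
        rw [hm, e7, e6, hm]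
        ring
  exact Nat.le_of_mul_le_mul_right h8 (Nat.mul_pos h7 h7)

/-- transvections commuting with `g` -/
theorem line_of_comm (hB : Symp B) {g : Sp B} {w : V} (hw : w ≠ 0) (hc : g * t B w 1 = t B w 1 * g) :
    ∃ c : F, g • w = c • w := by
  obtain ⟨y, hy⟩ := sep0 hB hw
  have h1 : t B (g • w) 1 = t B w 1 := by rw [← conj_t hB, hc, mul_inv_cancel_right]
  have h2 := congrArg (fun k : Sp B => k • y) h1
  simp only [t_smul hB, one_mul, add_right_inj] at h2
  rw [skew hB y w, hy] at h2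
  have h3 : B y (g • w) ≠ 0 := by
    intro h0
    rw [h0, zero_smul] at h2
    apply hw
    have h4 : (-1 : F) • w = 0 := h2.symm
    rwa [neg_one_smul, neg_eq_zero] at h4
  refine ⟨-(B y (g • w))⁻¹, ?_⟩
  calc g • w = (B y (g • w))⁻¹ • (B y (g • w) • (g • w)) := by
        rw [smul_smul, inv_mul_cancel₀ h3, one_smul]
    _ = _ := by rw [h2, smul_smul]; congr 1; ring

variable {T : Type*} [Group T] {π : Sp B →* T}

/-- commuting in `T` with a transvection -/
theorem Ctx.comm_t (C : Ctx π) {g : Sp B} {w : V} (hw : w ≠ 0)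
    (hc : π g * π (t B w (2 : F)⁻¹) = π (t B w (2 : F)⁻¹) * π g) : ∃ c : F, g • w = c • w := by
  apply line_of_comm C.hB hw
  rw [← map_mul, ← map_mul] at hc
  have h1 : t B w 1 = t B w (2 : F)⁻¹ * t B w (2 : F)⁻¹ := by
    rw [t_mul C.hB, ← two_mul, mul_inv_cancel₀ C.h2]
  rw [h1]
  rcases C.eq_iff.1 hc with h3 | h3
  · rw [← mul_assoc, h3, mul_assoc, h3, mul_assoc]
  · rw [← mul_assoc, h3, mul_assoc, mul_assoc, h3, ← mul_assoc (t B w 2⁻¹) (negOne B), ← negOne_comm,
      mul_assoc (negOne B), ← mul_assoc (negOne B) (negOne B), negOne_mul_self, one_mul, mul_assoc]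

/-- an element acting by scalars on three vectors -/
theorem scal3 (hB : Symp B) {v v' : V} (h : B v v' = 1) {g : Sp B} {a b c : F} (h1 : g • v = a • v)
    (h2 : g • v' = b • v') (h3 : g • (v + v') = c • (v + v')) : a = b ∧ a * a = 1 := by
  rw [smul_add', h1, h2, smul_add] at h3
  have e1 := congrArg (fun x => B x v') h3
  have e2 := congrArg (fun x => B v x) h3
  simp only [map_add, LinearMap.map_smul, LinearMap.add_apply, LinearMap.smul_apply, smul_eq_mul, hB.alt, h, mul_one,
    mul_zero, add_zero, zero_add] at e1 e2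
  have e3 := B_smul_smul g v v'
  rw [h1, h2] at e3
  simp only [LinearMap.map_smul, LinearMap.smul_apply, smul_eq_mul, h, mul_one] at e3
  have e4 : a = b := e1.trans e2.symm
  exact ⟨e4, by rw [← e3, e4]⟩

end

section

variable {F V T : Type*} [Field F] [Finite F] [AddCommGroup V] [Module F V] [Finite V] [Group T] [Finite T]
  [IsSimpleGroup T] {B : V →ₗ[F] V →ₗ[F] F} {π : Sp B →* T} {A : Subgroup T} {Γ : Subgroup (MulAut T)}

theorem Ctx.hna (C : Ctx π) : ∃ a b : T, a * b ≠ b * a := by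
  by_contra! hcon
  have hnt : Nontrivial V := by
    rw [← Finite.one_lt_card_iff_nontrivial, C.hV]
    exact Nat.one_lt_pow (by norm_num) Finite.one_lt_card
  obtain ⟨x, hx⟩ := exists_ne (0 : V)
  obtain ⟨y, hy⟩ := sep0 C.hB hx
  -- `t x` and `t y` do not commute modulo signs
  obtain ⟨c, hc⟩ := C.comm_t (g := t B y 1) hx (hcon _ _)
  rw [t_smul C.hB, hy, one_mul, one_smul] at hc
  have h1 := congrArg (fun z => B x z) hc
  simp only [map_add, LinearMap.map_smul, C.hB.alt, hy, smul_zero, zero_add] at h1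
  exact one_ne_zero h1

variable (C : Ctx π) (hIF : IF A Γ)
include C hIF

/-- The `SL₂`'s of an involution of type `t₁` in `A`. -/
theorem sl_mem {v v' : V} (h : B v v' = 1) (hmem : π (inv2 B v v') ∈ A) (g : Matrix.SpecialLinearGroup (Fin 2) F) :
    π (sl C.hB h g) ∈ A := by
  have h1 : π (inv2 B v v') ≠ 1 := by
    intro h1
    rcases C.ker _ h1 with h2 | h2
    · obtain ⟨u, u', hu, h3, h4, h5, h6⟩ := exists_orth C.hB C.hV h
      have e1 := inv2_orth C.hB h h3 h5
      rw [h2, one_smul] at e1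
      have e2 := congrArg (fun x => B x u') e1
      simp only [map_neg, LinearMap.neg_apply, hu] at e2
      apply C.h2
      linear_combination e2
    · have e1 := inv2_v C.hB h
      rw [h2, negOne_smul] at e1
      have e2 := congrArg (fun x => B x v') e1
      simp only [map_neg, LinearMap.neg_apply, h] at e2
      apply C.h2
      linear_combination -e2
  have key := Cfsg.Agent.H847.IF.lift_E2 hIF C.hna π C.surj hmem h1 (by rw [inv2_mul_self C.hB h, map_one])
    (B := (sl C.hB h).range) (by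
      rintro _ ⟨k, rfl⟩
      have e1 : inv2 B v v' = negOne B * sl C.hB h (-1) := by
        rw [sl_neg_one, ← mul_assoc, negOne_mul_self, one_mul]
      rw [e1, ← mul_assoc, ← negOne_comm, mul_assoc, mul_assoc, ← map_mul, ← map_mul, mul_neg, neg_mul, mul_one,
        one_mul])
  have key2 := lt_of_lt_of_le key (index_centralizer C.hB C.hV C.card h)
  rw [← Subgroup.index_comap] at key2
  have h2 := sl_top C.h2 ((A.comap π).comap (sl C.hB h)) (by
    rw [mem_comap, mem_comap, sl_neg_one, map_mul, C.neg, one_mul]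
    exact hmem) key2
  have h3 : g ∈ (A.comap π).comap (sl C.hB h) := by rw [h2]; trivial
  exact h3

/-- transvections in the two planes of an involution of type `t₁` in `A` -/
theorem tv_mem {v v' : V} (h : B v v' = 1) (hmem : π (inv2 B v v') ∈ A) (a b c : F) :
    π (t B (a • v + b • v') c) ∈ A := by
  obtain ⟨g, hg⟩ := sl_tt C.hB h a b c
  rw [← hg]
  exact sl_mem C hIF h hmem g

end

section

variable {F V T : Type*} [Field F] [Finite F] [AddCommGroup V] [Module F V] [Finite V] [Group T] [Finite T]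
  [IsSimpleGroup T] {B : V →ₗ[F] V →ₗ[F] F} {π : Sp B →* T} {A : Subgroup T} {Γ : Subgroup (MulAut T)}

/-- `A` contains no longer all transvections -/
theorem not_all_t (C : Ctx π) (hne : A ≠ ⊤) (hall : ∀ (w : V) (c : F), π (t B w c) ∈ A) : False := by
  apply hne
  have hnt : Nontrivial V := by
    rw [← Finite.one_lt_card_iff_nontrivial, C.hV]
    exact Nat.one_lt_pow (by norm_num) Finite.one_lt_card
  obtain ⟨x, hx⟩ := exists_ne (0 : V)
  set S : Set T := {y : T | ∃ (w : V) (c : F), y = π (t B w c)} with hS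
  have h1 : normalClosure S ≤ A := by
    rw [normalClosure, closure_le]
    intro y hy
    rw [Group.mem_conjugatesOfSet_iff] at hy
    obtain ⟨_, ⟨w, c, rfl⟩, hconj⟩ := hy
    obtain ⟨k, hk⟩ := isConj_iff.1 hconj
    obtain ⟨g, rfl⟩ := C.surj k
    rw [← hk, ← map_mul, ← map_inv, ← map_mul, conj_t C.hB]
    exact hall _ _
  have h2 : normalClosure S ≠ ⊥ := by
    intro h2
    have h3 : π (t B x 1) ∈ normalClosure S := subset_normalClosure ⟨x, 1, rfl⟩
    rw [h2, mem_bot] at h3
    obtain ⟨y, hy⟩ := sep0 C.hB hx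
    rcases C.ker _ h3 with h4 | h4
    · have e1 := congrArg (fun g : Sp B => g • y) h4
      simp only [t_smul C.hB, one_smul, one_mul] at e1
      have e2 := congrArg (fun z => B z y) e1
      simp only [map_add, LinearMap.add_apply, LinearMap.map_smul, LinearMap.smul_apply, C.hB.alt, hy, smul_eq_mul,
        zero_add, mul_one, skew C.hB y x] at e2
      exact (neg_ne_zero.2 one_ne_zero) e2
    · have e1 := congrArg (fun g : Sp B => g • x) h4
      simp only [t_smul C.hB, C.hB.alt, mul_zero, zero_smul, add_zero, negOne_smul] at e1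
      have h5 : (2 : F) • x = 0 := by
        rw [two_smul F x]
        exact add_eq_zero_iff_eq_neg.2 e1
      exact (smul_ne_zero C.h2 hx) h5
  rcases (normalClosure_normal (s := S)).eq_bot_or_eq_top with h3 | h3
  · exact absurd h3 h2
  · rw [h3] at h1
    exact top_le_iff.1 h1

variable (C : Ctx π) (hIF : IF A Γ)
include C hIF

/-- There is a second involution of type `t₁`. -/
theorem exists_second {v v' : V} (h : B v v' = 1) (hmem : π (inv2 B v v') ∈ A) :
    ∃ w w' : V, B w w' = 1 ∧ π (inv2 B w w') ∈ A ∧ π (inv2 B w w') ≠ π (inv2 B v v') := by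
  by_contra! hcon
  obtain ⟨u, u', hu, h1, h2, h3, h4⟩ := exists_orth C.hB C.hV h
  have hu' : π (inv2 B u u') = π (inv2 B v v') := by
    rw [inv2_eq C.hB C.hV h hu h1 h2 h3 h4, map_mul, C.neg, one_mul]
  set t0 : T := π (inv2 B v v') with ht0
  have hmemu : π (inv2 B u u') ∈ A := by rw [hu']; exact hmem
  -- `A ≤ C(t0)`
  have hAC : A ≤ centralizer ({t0} : Set T) := by
    intro a ha
    rw [mem_centralizer_singleton_iff]
    obtain ⟨g, rfl⟩ := C.surj a
    have h5 : π g * t0 * (π g)⁻¹ = π (inv2 B (g • v) (g • v')) := by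
      rw [ht0, ← map_mul, ← map_inv, ← map_mul, conj_inv2 C.hB h]
    have h6 := hcon (g • v) (g • v') (by rw [B_smul_smul, h]) (by
      rw [← h5]
      exact A.mul_mem (A.mul_mem ha hmem) (A.inv_mem ha))
    rw [h6] at h5
    exact mul_inv_eq_iff_eq_mul.1 h5
  have hord : orderOf t0 = 2 := by
    apply orderOf_eq_prime
    · rw [ht0, pow_two, ← map_mul, inv2_mul_self C.hB h, map_one]
    · intro h5
      have h6 : orderOf t0 = 1 := by rw [h5, orderOf_one]
      rcases C.ker _ h5 with h2' | h2'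
      · have e1 := inv2_orth C.hB h h1 h3
        rw [h2', one_smul] at e1
        have e2 := congrArg (fun x => B x u') e1
        simp only [map_neg, LinearMap.neg_apply, hu] at e2
        apply C.h2
        linear_combination e2
      · have e1 := inv2_v C.hB h
        rw [h2', negOne_smul] at e1
        have e2 := congrArg (fun x => B x v') e1
        simp only [map_neg, LinearMap.neg_apply, h] at e2
        apply C.h2
        linear_combination -e2
  -- `t0` is the only involution of `Z(A)`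
  have huniq : ∀ s : T, orderOf s = 2 → (∀ a ∈ A, s * a = a * s) → s = t0 := by
    intro s hs hcs
    obtain ⟨g, rfl⟩ := C.surj s
    have hl : ∀ w : V, w ≠ 0 → π (t B w (2 : F)⁻¹) ∈ A → ∃ c : F, g • w = c • w := fun w hw hwA =>
      C.comm_t hw (hcs _ hwA)
    have hne : ∀ {x x' : V}, B x x' = 1 → x ≠ 0 ∧ x' ≠ 0 ∧ x + x' ≠ 0 := by
      intro x x' hx
      refine ⟨?_, ?_, ?_⟩
      · rintro rfl
        simp at hx
      · rintro rfl
        simp at hx
      · intro h0
        have e1 := congrArg (fun y => B x y) h0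
        simp only [map_add, C.hB.alt, hx, zero_add, map_zero] at e1
        exact one_ne_zero e1
    have hpm : ∀ {x x' : V} (hx : B x x' = 1), π (inv2 B x x') ∈ A → ∃ c : F, (c = 1 ∨ c = -1) ∧ g • x = c • x ∧
        g • x' = c • x' := by
      intro x x' hx hxA
      obtain ⟨n1, n2, n3⟩ := hne hx
      have m1 := tv_mem C hIF hx hxA 1 0 (2 : F)⁻¹
      have m2 := tv_mem C hIF hx hxA 0 1 (2 : F)⁻¹
      have m3 := tv_mem C hIF hx hxA 1 1 (2 : F)⁻¹
      rw [one_smul, zero_smul, add_zero] at m1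
      rw [one_smul, zero_smul, zero_add] at m2
      rw [one_smul, one_smul] at m3
      obtain ⟨a, ha⟩ := hl _ n1 m1
      obtain ⟨b, hb⟩ := hl _ n2 m2
      obtain ⟨c, hc⟩ := hl _ n3 m3
      obtain ⟨e1, e2⟩ := scal3 C.hB hx ha hb hc
      refine ⟨a, sq1_cases e2, ha, ?_⟩
      rw [e1]
      exact hb
    obtain ⟨c, hc, hc1, hc2⟩ := hpm h hmem
    obtain ⟨d, hd, hd1, hd2⟩ := hpm hu hmemu
    have hs1 : π g ≠ 1 := by
      intro h5
      rw [h5, orderOf_one] at hs
      omega
    have hi1 : inv2 B v v' • v' = v' := by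
      rw [inv2_smul C.hB h, C.hB.alt, skew C.hB v' v, h]
      module
    have ext4 : ∀ {k : Sp B}, (g • v = k • v) → (g • v' = k • v') → (g • u = k • u) → (g • u' = k • u') → g = k := by
      intro k k1 k2 k3 k4
      apply Sp.ext'
      intro z
      obtain ⟨a, b, c, d, rfl⟩ := four C.hB C.hV h hu h1 h2 h3 h4 z
      simp only [smul_add', smul_fsmul, k1, k2, k3, k4]
    rcases hc with rfl | rfl <;> rcases hd with rfl | rfl
    · exfalso
      apply hs1
      rw [ext4 (k := 1) (by rw [hc1, one_smul, one_smul]) (by rw [hc2, one_smul, one_smul])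
        (by rw [hd1, one_smul, one_smul]) (by rw [hd2, one_smul, one_smul]), map_one]
    · rw [ext4 (k := inv2 B v v') (by rw [hc1, one_smul, inv2_v C.hB h]) (by rw [hc2, one_smul, hi1])
        (by rw [hd1, inv2_orth C.hB h h1 h3, neg_one_smul]) (by rw [hd2, inv2_orth C.hB h h2 h4, neg_one_smul])]
    · rw [ext4 (k := negOne B * inv2 B v v') (by rw [hc1, mul_smul, inv2_v C.hB h, negOne_smul, neg_one_smul])
        (by rw [hc2, mul_smul, hi1, negOne_smul, neg_one_smul])
        (by rw [hd1, mul_smul, inv2_orth C.hB h h1 h3, negOne_smul, neg_neg, one_smul])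
        (by rw [hd2, mul_smul, inv2_orth C.hB h h2 h4, negOne_smul, neg_neg, one_smul]), map_mul, C.neg, one_mul]
    · exfalso
      apply hs1
      rw [ext4 (k := negOne B) (by rw [hc1, negOne_smul, neg_one_smul]) (by rw [hc2, negOne_smul, neg_one_smul])
        (by rw [hd1, negOne_smul, neg_one_smul]) (by rw [hd2, negOne_smul, neg_one_smul]), C.neg]
  -- `C(t0)` is invariant
  have hσ : ∀ σ ∈ Γ, σ t0 = t0 := by
    intro σ hσ
    apply huniq
    · rw [← hord]
      exact orderOf_injective σ.toMonoidHom σ.injective t0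
    · intro a ha
      obtain ⟨a', rfl⟩ := σ.surjective a
      have ha' : a' ∈ A := (hIF.inv σ hσ a').1 ha
      have h5 := mem_centralizer_singleton_iff.1 (hAC ha')
      rw [← map_mul, ← map_mul, h5]
  rcases hIF.max (centralizer ({t0} : Set T)) hAC (by
      intro σ hσ' b hb
      rw [mem_centralizer_singleton_iff] at hb ⊢
      rw [← hσ σ hσ', ← map_mul, ← map_mul, hb]) with h5 | h5
  · -- the swap
    have hw : B (v + u) ((2 : F)⁻¹ • (v' + u')) = 1 := by
      simp only [map_add, LinearMap.map_smul, LinearMap.add_apply, smul_eq_mul, h, hu, h2, orth_symm C.hB h3]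
      have := C.h2
      field_simp
      norm_num
    set s := inv2 B (v + u) ((2 : F)⁻¹ • (v' + u')) with hs
    have hv'u : B u v' = 0 := orth_symm C.hB h3
    have huv : B u v = 0 := orth_symm C.hB h1
    have h22 : (2 : F) * (2 : F)⁻¹ = 1 := mul_inv_cancel₀ C.h2
    have sv : s • v = u := by
      rw [hs, inv2_smul C.hB hw]
      simp only [map_add, LinearMap.map_smul, smul_eq_mul, C.hB.alt, h, h1, h2]
      have e1 : (2 : F) * ((2 : F)⁻¹ * (1 + 0)) = 1 := by rw [add_zero, mul_one, h22]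
      rw [e1]
      module
    have sv' : s • v' = u' := by
      rw [hs, inv2_smul C.hB hw]
      simp only [map_add, LinearMap.map_smul, smul_eq_mul, C.hB.alt, h3, h4, skew C.hB v' v, h]
      rw [add_zero, mul_zero, mul_zero, add_zero, smul_smul]
      have e1 : (2 : F) * (-1) * (2 : F)⁻¹ = -1 := by
        rw [mul_comm (2 : F), mul_assoc, h22, mul_one]
      rw [e1]
      module
    have h6 : π s ∈ A := by
      rw [← h5, mem_centralizer_singleton_iff]
      have h7 : π s * t0 * (π s)⁻¹ = t0 := by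
        rw [ht0, ← map_mul, ← map_inv, ← map_mul, conj_inv2 C.hB h, sv, sv', hu']
      exact mul_inv_eq_iff_eq_mul.1 h7
    have h7 := hcon _ _ hw h6
    rw [← hs] at h7
    have h8 : ∀ c : F, s • v ≠ c • v := by
      intro c hc
      rw [sv] at hc
      have e1 := congrArg (fun x => B x u') hc
      simp only [LinearMap.map_smul, LinearMap.smul_apply, hu, h2, smul_zero] at e1
      exact one_ne_zero e1
    rcases C.eq_iff.1 h7 with h9 | h9
    · apply h8 1
      rw [h9, inv2_v C.hB h, one_smul]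
    · apply h8 (-1)
      rw [h9, mul_smul, inv2_v C.hB h, negOne_smul, neg_one_smul]
  · -- `t0` is not central
    have h6 : t0 = 1 := Cfsg.Agent.H999.IFB.center_of C.hna (fun x => by
      have : x ∈ centralizer ({t0} : Set T) := by rw [h5]; trivial
      exact (mem_centralizer_singleton_iff.1 this).symm)
    rw [h6, orderOf_one] at hord
    omega

end

end Cfsg.Agent.H804.P4
end

-- part: H804/IF/P4A2
section
/-!
# S5719, `PSp_4(q)`, `q` odd: `A` contains an involution of type `t₁`, conclusion (helper804)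
-/

set_option autoImplicit false
set_option linter.unusedSectionVars false
set_option linter.unusedSimpArgs false

namespace Cfsg.Agent.H804.P4

open Subgroup Module Cfsg.Agent.H74.Psp Cfsg.Agent.H209.Fxy

section

variable {F V T : Type*} [Field F] [Finite F] [AddCommGroup V] [Module F V] [Finite V] [Group T] [Finite T]
  {B : V →ₗ[F] V →ₗ[F] F} {π : Sp B →* T} {A : Subgroup T}

theorem move1 (C : Ctx π) {x y b : V} (h1 : ∀ c, π (t B (x + b) c) ∈ A) (h2 : ∀ c, π (t B (y - x) c) ∈ A)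
    (hxy : B x y ≠ 0) (hx : B x b = 0) (hy : B y b = 0) (c : F) : π (t B (y + b) c) ∈ A := by
  have e1 : t B (y - x) (B x y)⁻¹ • (x + b) = y + b := by
    rw [t_smul C.hB]
    simp only [map_add, map_sub, LinearMap.add_apply, C.hB.alt, orth_symm C.hB hx, orth_symm C.hB hy]
    rw [add_zero, add_zero, sub_zero, inv_mul_cancel₀ hxy]
    module
  rw [← e1, ← conj_t C.hB, map_mul, map_mul, map_inv]
  exact A.mul_mem (A.mul_mem (h2 _) (h1 _)) (A.inv_mem (h2 _))

theorem move2 (C : Ctx π) {v v' b : V} (h : B v v' = 1) (hP : ∀ a b c : F, π (t B (a • v + b • v') c) ∈ A)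
    (h1 : B v b = 0) (h2 : B v' b = 0) {α β γ δ : F} (hx : ¬ (α = 0 ∧ β = 0)) (hy : ¬ (γ = 0 ∧ δ = 0))
    (hb : ∀ c, π (t B (α • v + β • v' + b) c) ∈ A) (c : F) : π (t B (γ • v + δ • v' + b) c) ∈ A := by
  have hv'v : B v' v = -1 := by rw [skew C.hB, h]
  have hor : ∀ a d : F, B (a • v + d • v') b = 0 := by
    intro a d
    simp only [map_add, LinearMap.map_smul, LinearMap.add_apply, LinearMap.smul_apply, h1, h2, smul_zero, add_zero]
  have hBB : ∀ a d a' d' : F, B (a • v + d • v') (a' • v + d' • v') = a * d' - d * a' := by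
    intro a d a' d'
    simp only [map_add, LinearMap.map_smul, LinearMap.add_apply, LinearMap.smul_apply, smul_eq_mul, C.hB.alt, h,
      hv'v]
    ring
  have hsub : ∀ a d a' d' c : F, π (t B (a' • v + d' • v' - (a • v + d • v')) c) ∈ A := by
    intro a d a' d' c
    have e1 : a' • v + d' • v' - (a • v + d • v') = (a' - a) • v + (d' - d) • v' := by module
    rw [e1]
    exact hP _ _ _
  have step : ∀ a d a' d' : F, a * d' - d * a' ≠ 0 → (∀ c, π (t B (a • v + d • v' + b) c) ∈ A) →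
      ∀ c, π (t B (a' • v + d' • v' + b) c) ∈ A := by
    intro a d a' d' hne hA c
    exact move1 C hA (hsub a d a' d') (by rw [hBB]; exact hne) (hor _ _) (hor _ _) c
  by_cases h0 : α * δ - β * γ = 0
  · by_cases hβ : β = 0
    · have hα : α ≠ 0 := fun h => hx ⟨h, hβ⟩
      rw [hβ, zero_mul, sub_zero] at h0
      have hδ : δ = 0 := (mul_eq_zero.1 h0).resolve_left hα
      have hγ : γ ≠ 0 := fun h => hy ⟨h, hδ⟩
      refine step 0 1 γ δ ?_ (step α β 0 1 ?_ hb) c
      · rw [zero_mul, one_mul, zero_sub]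
        exact neg_ne_zero.2 hγ
      · rw [mul_one, mul_zero, sub_zero]
        exact hα
    · have hδ : δ ≠ 0 := by
        intro hδ
        rw [hδ, mul_zero, zero_sub, neg_eq_zero] at h0
        exact hy ⟨(mul_eq_zero.1 h0).resolve_left hβ, hδ⟩
      refine step 1 0 γ δ ?_ (step α β 1 0 ?_ hb) c
      · rw [one_mul, zero_mul, sub_zero]
        exact hδ
      · rw [mul_zero, mul_one, zero_sub]
        exact neg_ne_zero.2 hβ
  · exact step α β γ δ h0 hb c

end

/-- **The case of an involution of type `t₁`.** -/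
theorem caseA : CaseA := by
  intro F V T _ _ _ _ _ _ _ _ B π C A Γ hIF v v' h hmem
  obtain ⟨u, u', hu, h1, h2, h3, h4⟩ := exists_orth C.hB C.hV h
  have hu' : π (inv2 B u u') = π (inv2 B v v') := by
    rw [inv2_eq C.hB C.hV h hu h1 h2 h3 h4, map_mul, C.neg, one_mul]
  have P1 : ∀ a b c : F, π (t B (a • v + b • v') c) ∈ A := tv_mem C hIF h hmem
  have P2 : ∀ a b c : F, π (t B (a • u + b • u') c) ∈ A := tv_mem C hIF hu (by rw [hu']; exact hmem)
  obtain ⟨w, w', hw, hwA, hne⟩ := exists_second C hIF h hmem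
  have P3 : ∀ a b c : F, π (t B (a • w + b • w') c) ∈ A := tv_mem C hIF hw hwA
  have P3w : ∀ c, π (t B w c) ∈ A := fun c => by
    have := P3 1 0 c
    rwa [one_smul, zero_smul, add_zero] at this
  have P3w' : ∀ c, π (t B w' c) ∈ A := fun c => by
    have := P3 0 1 c
    rwa [one_smul, zero_smul, zero_add] at this
  have huv : B u v = 0 := orth_symm C.hB h1
  have hu'v : B u' v = 0 := orth_symm C.hB h2
  have huv' : B u v' = 0 := orth_symm C.hB h3
  have hu'v' : B u' v' = 0 := orth_symm C.hB h4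
  -- a mixed vector
  obtain ⟨α, β, γ, δ, hαβ, hγδ, hP⟩ : ∃ α β γ δ : F, ¬ (α = 0 ∧ β = 0) ∧ ¬ (γ = 0 ∧ δ = 0) ∧
      ∀ c, π (t B (α • v + β • v' + (γ • u + δ • u')) c) ∈ A := by
    obtain ⟨a, b, c, d, hwe⟩ := four C.hB C.hV h hu h1 h2 h3 h4 w
    obtain ⟨a', b', c', d', hwe'⟩ := four C.hB C.hV h hu h1 h2 h3 h4 w'
    by_cases k1 : ¬ (a = 0 ∧ b = 0) ∧ ¬ (c = 0 ∧ d = 0)
    · refine ⟨a, b, c, d, k1.1, k1.2, ?_⟩
      rwa [← add_assoc, ← hwe]
    by_cases k2 : ¬ (a' = 0 ∧ b' = 0) ∧ ¬ (c' = 0 ∧ d' = 0)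
    · refine ⟨a', b', c', d', k2.1, k2.2, ?_⟩
      rwa [← add_assoc, ← hwe']
    exfalso
    have k1' : (a = 0 ∧ b = 0) ∨ (c = 0 ∧ d = 0) := by (clear * - k1; tauto)
    have k2' : (a' = 0 ∧ b' = 0) ∨ (c' = 0 ∧ d' = 0) := by (clear * - k2; tauto)
    have hww := hw
    rcases k1' with ⟨ra, rb⟩ | ⟨rc, rd⟩ <;> rcases k2' with ⟨ra', rb'⟩ | ⟨rc', rd'⟩
    · -- both in `⟨u,u'⟩`
      rw [ra, rb, zero_smul, zero_smul, zero_add, zero_add] at hwe
      rw [ra', rb', zero_smul, zero_smul, zero_add, zero_add] at hwe'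
      apply hne
      rw [inv2_eq C.hB C.hV h hw (by rw [hwe]; simp [h1, h2]) (by rw [hwe']; simp [h1, h2])
        (by rw [hwe]; simp [h3, h4]) (by rw [hwe']; simp [h3, h4]), map_mul, C.neg, one_mul]
    · rw [ra, rb, zero_smul, zero_smul, zero_add, zero_add] at hwe
      rw [rc', rd', zero_smul, zero_smul, add_zero, add_zero] at hwe'
      rw [hwe, hwe'] at hww
      simp [huv, hu'v, huv', hu'v'] at hww
    · rw [rc, rd, zero_smul, zero_smul, add_zero, add_zero] at hwe
      rw [ra', rb', zero_smul, zero_smul, zero_add, zero_add] at hwe'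
      rw [hwe, hwe'] at hww
      simp [h1, h2, h3, h4] at hww
    · rw [rc, rd, zero_smul, zero_smul, add_zero, add_zero] at hwe
      rw [rc', rd', zero_smul, zero_smul, add_zero, add_zero] at hwe'
      apply hne
      rw [← hu', inv2_eq C.hB C.hV hw hu (by rw [hwe]; simp [h1, h3]) (by rw [hwe]; simp [h2, h4])
        (by rw [hwe']; simp [h1, h3]) (by rw [hwe']; simp [h2, h4]), map_mul, C.neg, one_mul]
  apply not_all_t C hIF.ne_top
  intro y e
  obtain ⟨a, b, c, d, rfl⟩ := four C.hB C.hV h hu h1 h2 h3 h4 y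
  by_cases k1 : a = 0 ∧ b = 0
  · rw [k1.1, k1.2, zero_smul, zero_smul, zero_add, zero_add]
    exact P2 _ _ _
  by_cases k2 : c = 0 ∧ d = 0
  · rw [k2.1, k2.2, zero_smul, zero_smul, add_zero, add_zero]
    exact P1 _ _ _
  have s1 : ∀ c, π (t B (a • v + b • v' + (γ • u + δ • u')) c) ∈ A :=
    move2 C h P1 (by simp [h1, h2]) (by simp [h3, h4]) hαβ k1 hP
  have s2 : ∀ e, π (t B (γ • u + δ • u' + (a • v + b • v')) e) ∈ A := fun e => by
    rw [add_comm]; exact s1 e
  have s3 := move2 C hu P2 (b := a • v + b • v') (by simp [huv, huv']) (by simp [hu'v, hu'v']) hγδ k2 s2 e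
  have e1 : a • v + b • v' + c • u + d • u' = c • u + d • u' + (a • v + b • v') := by module
  rw [e1]
  exact s3

end Cfsg.Agent.H804.P4
end

-- part: H804/IF/P4J
section
/-!
# S5719, `PSp_4(q)`, `q` odd: the centraliser of an involution of type `t₂` (helper804)

* `lam` : `SL₂(q) → C(j)`;  `rot x y : z ↦ x z + y (j z)`, `x² + y² = 1`;
* `card_centralizer_j` : `q(q²-1) N ≤ 2 |C_T(π j)|`, `N` the number of solutions of `x² + y² = 1`;
* `circle_ge`, `circle_ge'` : `N ≥ q - 1`; `N ≥ q + 1` if `-1` is not a square.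
-/

set_option autoImplicit false
set_option linter.unusedSectionVars false
set_option linter.unusedSimpArgs false

namespace Cfsg.Agent.H804.P4

open Subgroup Module Cfsg.Agent.H74.Psp Cfsg.Agent.H209.Fxy Cfsg.Agent.ClassicalGeometry.SL2Line
open Cfsg.Agent.ClassicalGeometry.SL2Borel Cfsg.Agent.ClassicalGeometry.MinIndexPSL2

/-- the circle -/
def Circ (F : Type*) [Field F] : Type _ := {p : F × F // p.1 ^ 2 + p.2 ^ 2 = 1}

section circle

variable {F : Type*} [Field F] [Finite F]

instance : Finite (Circ F) := Subtype.finite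

/-- the rational parametrisation -/
noncomputable def par : Option {m : F // m ^ 2 + 1 ≠ 0} → Circ F
  | none => ⟨(1, 0), by norm_num⟩
  | some m => ⟨((m.1 ^ 2 - 1) / (m.1 ^ 2 + 1), 2 * m.1 / (m.1 ^ 2 + 1)), by
      have := m.2
      field_simp
      ring⟩

theorem par_inj (h2 : (2 : F) ≠ 0) : Function.Injective (par (F := F)) := by
  have key : ∀ m : {m : F // m ^ 2 + 1 ≠ 0}, 1 - (m.1 ^ 2 - 1) / (m.1 ^ 2 + 1) = 2 / (m.1 ^ 2 + 1) := by
    intro m
    have := m.2
    field_simp
    ring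
  have key2 : ∀ m : {m : F // m ^ 2 + 1 ≠ 0}, (1 - (m.1 ^ 2 - 1) / (m.1 ^ 2 + 1)) * m.1 = 2 * m.1 / (m.1 ^ 2 + 1) := by
    intro m
    rw [key]
    ring
  intro a b hab
  have h1 : (par a).1.1 = (par b).1.1 := by rw [hab]
  have h3 : (par a).1.2 = (par b).1.2 := by rw [hab]
  rcases a with _ | a <;> rcases b with _ | b
  · rfl
  · exfalso
    have h4 : (1 : F) = (b.1 ^ 2 - 1) / (b.1 ^ 2 + 1) := h1
    have h5 := key b
    rw [← h4, sub_self] at h5
    exact (div_ne_zero h2 b.2) h5.symm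
  · exfalso
    have h4 : (a.1 ^ 2 - 1) / (a.1 ^ 2 + 1) = (1 : F) := h1
    have h5 := key a
    rw [h4, sub_self] at h5
    exact (div_ne_zero h2 a.2) h5.symm
  · congr 1
    apply Subtype.ext
    have h4 : (a.1 ^ 2 - 1) / (a.1 ^ 2 + 1) = (b.1 ^ 2 - 1) / (b.1 ^ 2 + 1) := h1
    have h5 : 2 * a.1 / (a.1 ^ 2 + 1) = 2 * b.1 / (b.1 ^ 2 + 1) := h3
    rw [← key2 a, ← key2 b, h4] at h5
    refine mul_left_cancel₀ ?_ h5
    rw [key b]
    exact div_ne_zero h2 b.2

theorem circle_ge' (h2 : (2 : F) ≠ 0) (hsq : ∀ m : F, m ^ 2 + 1 ≠ 0) : Nat.card F + 1 ≤ Nat.card (Circ F) := by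
  have h1 := Nat.card_le_card_of_injective _ (par_inj h2)
  have h3 : Nat.card (Option {m : F // m ^ 2 + 1 ≠ 0}) = Nat.card F + 1 := by
    rw [Finite.card_option, Nat.card_congr (Equiv.subtypeUnivEquiv hsq)]
  rwa [h3] at h1

theorem circle_ge (h2 : (2 : F) ≠ 0) : Nat.card F - 1 ≤ Nat.card (Circ F) := by
  have h1 := Nat.card_le_card_of_injective _ (par_inj h2)
  rw [Finite.card_option] at h1
  have h3 : ({m : F | m ^ 2 + 1 = 0}).ncard ≤ 2 := by
    by_cases hne : ∃ i : F, i ^ 2 + 1 = 0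
    · obtain ⟨i, hi⟩ := hne
      have : {m : F | m ^ 2 + 1 = 0} ⊆ {i, -i} := by
        intro m hm
        have h4 : (m - i) * (m + i) = 0 := by
          have hm' : m ^ 2 + 1 = 0 := hm
          linear_combination hm' - hi
        rcases mul_eq_zero.1 h4 with h5 | h5
        · left; exact sub_eq_zero.1 h5
        · right; exact eq_neg_of_add_eq_zero_left h5
      exact le_trans (Set.ncard_le_ncard this (Set.toFinite _)) (Set.ncard_insert_le _ _ |>.trans (by
        rw [Set.ncard_singleton]))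
    · have : {m : F | m ^ 2 + 1 = 0} = ∅ := by
        ext m
        exact ⟨fun h => (hne ⟨m, h⟩).elim, fun h => h.elim⟩
      rw [this, Set.ncard_empty]
      omega
  have h4 : Nat.card {m : F // m ^ 2 + 1 ≠ 0} + ({m : F | m ^ 2 + 1 = 0}).ncard = Nat.card F := by
    have h5 : Nat.card {m : F // m ^ 2 + 1 ≠ 0} = ({m : F | m ^ 2 + 1 = 0}ᶜ).ncard := rfl
    rw [h5, add_comm]
    exact Set.ncard_add_ncard_compl _
  omega

end circle

section

variable {F V : Type*} [Field F] [AddCommGroup V] [Module F V] {B : V →ₗ[F] V →ₗ[F] F}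

local notation "SL2" => Matrix.SpecialLinearGroup (Fin 2)

theorem conj_sl (hB : Symp B) {v v' : V} (h : B v v' = 1) (k : Sp B) (h' : B (k • v) (k • v') = 1) (g : SL2 F) :
    k * sl hB h g * k⁻¹ = sl hB h' g := by
  apply Sp.ext'
  intro x
  rw [mul_smul, mul_smul, sl_smul, sl_smul]
  simp only [smul_add', smul_fsmul, smul_inv_smul, B_inv_left]
  rw [B_smul_left k v x]

/-- the pair `j v`, `j v'` -/
structure Pair (j : Sp B) (v v' : V) : Prop where
  h : B v v' = 1
  h1 : B v (j • v) = 0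
  h2 : B v (j • v') = 0
  h3 : B v' (j • v) = 0
  h4 : B v' (j • v') = 0

theorem Pair.hj {j : Sp B} {v v' : V} (P : Pair j v v') : B (j • v) (j • v') = 1 := by
  rw [B_smul_smul, P.h]

/-- `SL₂` in the centraliser of `j` -/
noncomputable def lam (hB : Symp B) {j : Sp B} {v v' : V} (P : Pair j v v') : SL2 F →* Sp B :=
  MonoidHom.mk' (fun g => sl hB P.h g * sl hB P.hj g) (fun g k => by
    have h1 := sl_comm hB P.h P.hj P.h1 P.h2 P.h3 P.h4 k g
    rw [map_mul, map_mul]
    calc sl hB P.h g * sl hB P.h k * (sl hB P.hj g * sl hB P.hj k)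
        = sl hB P.h g * (sl hB P.h k * sl hB P.hj g) * sl hB P.hj k := by group
      _ = _ := by rw [h1]; group)

theorem lam_apply (hB : Symp B) {j : Sp B} {v v' : V} (P : Pair j v v') (g : SL2 F) :
    lam hB P g = sl hB P.h g * sl hB P.hj g := rfl

theorem lam_v (hB : Symp B) {j : Sp B} {v v' : V} (P : Pair j v v') (g : SL2 F) :
    lam hB P g • v = g 0 0 • v + g 1 0 • v' := by
  rw [lam_apply, mul_smul, sl_orth hB P.hj g (orth_symm hB P.h1) (orth_symm hB P.h2), sl_v]

theorem lam_v' (hB : Symp B) {j : Sp B} {v v' : V} (P : Pair j v v') (g : SL2 F) :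
    lam hB P g • v' = g 0 1 • v + g 1 1 • v' := by
  rw [lam_apply, mul_smul, sl_orth hB P.hj g (orth_symm hB P.h3) (orth_symm hB P.h4), sl_v']

/-- `lam` commutes with `j` -/
theorem lam_comm (hB : Symp B) {j : Sp B} (hj : j * j = negOne B) {v v' : V} (P : Pair j v v') (g : SL2 F) :
    j * lam hB P g = lam hB P g * j := by
  have hjj := sq_iff.1 hj
  have h2 : B (j • j • v) (j • j • v') = 1 := by rw [B_smul_smul, P.hj]
  have e1 := conj_sl hB P.h j P.hj g
  have e2 := conj_sl hB P.hj j h2 g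
  have e3 : sl hB h2 g = sl hB P.h g := by
    apply Sp.ext'
    intro x
    rw [sl_smul, sl_smul, hjj, hjj]
    simp only [map_neg, LinearMap.neg_apply]
    module
  have e4 := sl_comm hB P.h P.hj P.h1 P.h2 P.h3 P.h4 g g
  rw [e3] at e2
  rw [lam_apply]
  calc j * (sl hB P.h g * sl hB P.hj g) = (j * sl hB P.h g * j⁻¹) * (j * sl hB P.hj g * j⁻¹) * j := by group
    _ = (sl hB P.hj g * sl hB P.h g) * j := by rw [e1, e2]
    _ = _ := by rw [e4]

/-- rotations -/
noncomputable def rot (hB : Symp B) {j : Sp B} (hj : j * j = negOne B) (p : Circ F) : Sp B :=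
  ⟨LinearEquiv.ofLinearMap (p.1.1 • LinearMap.id + p.1.2 • ((j : V ≃ₗ[F] V) : V →ₗ[F] V))
      (p.1.1 • LinearMap.id - p.1.2 • ((j : V ≃ₗ[F] V) : V →ₗ[F] V))
      (by
        apply LinearMap.ext
        intro x
        have hjj : (j : V ≃ₗ[F] V) ((j : V ≃ₗ[F] V) x) = -x := sq_iff.1 hj x
        have hp := p.2
        simp only [LinearMap.comp_apply, LinearMap.add_apply, LinearMap.sub_apply, LinearMap.smul_apply,
          LinearMap.id_apply, LinearEquiv.coe_coe, map_sub, map_smul, hjj]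
        have : x = (p.1.1 ^ 2 + p.1.2 ^ 2) • x := by rw [hp, one_smul]
        conv_rhs => rw [this]
        module)
      (by
        apply LinearMap.ext
        intro x
        have hjj : (j : V ≃ₗ[F] V) ((j : V ≃ₗ[F] V) x) = -x := sq_iff.1 hj x
        have hp := p.2
        simp only [LinearMap.comp_apply, LinearMap.add_apply, LinearMap.sub_apply, LinearMap.smul_apply,
          LinearMap.id_apply, LinearEquiv.coe_coe, map_add, map_smul, hjj]
        have : x = (p.1.1 ^ 2 + p.1.2 ^ 2) • x := by rw [hp, one_smul]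
        conv_rhs => rw [this]
        module), by
    intro x y
    change B (p.1.1 • x + p.1.2 • (j • x)) (p.1.1 • y + p.1.2 • (j • y)) = B x y
    have h1 : B (j • x) y = -B x (j • y) := by rw [sym hB hj, skew hB]
    have hp := p.2
    simp only [map_add, LinearMap.map_smul, LinearMap.add_apply, LinearMap.smul_apply, smul_eq_mul, B_smul_smul, h1]
    linear_combination B x y * hp⟩

theorem rot_smul (hB : Symp B) {j : Sp B} (hj : j * j = negOne B) (p : Circ F) (x : V) :
    rot hB hj p • x = p.1.1 • x + p.1.2 • (j • x) := rfl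

theorem rot_comm (hB : Symp B) {j : Sp B} (hj : j * j = negOne B) (p : Circ F) :
    j * rot hB hj p = rot hB hj p * j := by
  apply Sp.ext'
  intro x
  rw [mul_smul, mul_smul, rot_smul, rot_smul, smul_add', smul_fsmul, smul_fsmul]

end

section

variable {F V : Type*} [Field F] [Finite F] [AddCommGroup V] [Module F V] [Finite V] {B : V →ₗ[F] V →ₗ[F] F}

local notation "SL2" => Matrix.SpecialLinearGroup (Fin 2)

theorem exists_Pair (hB : Symp B) (h2 : (2 : F) ≠ 0) (hV : Nat.card V = Nat.card F ^ 4) {j : Sp B}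
    (hj : j * j = negOne B) : ∃ v v' : V, Pair j v v' := by
  obtain ⟨v, v', h, h1, h2', h3⟩ := exists_pair hB h2 hV hj
  exact ⟨v, v', h, h1, h2', by rw [sym hB hj]; exact h2', h3⟩

/-- **The centraliser of `j` in `Sp B`.** -/
theorem card_cent (hB : Symp B) (h2 : (2 : F) ≠ 0) {j : Sp B} (hj : j * j = negOne B) {v v' : V} (P : Pair j v v') :
    Nat.card (SL2 F) * Nat.card (Circ F) ≤ 2 * Nat.card (centralizer ({j} : Set (Sp B))) := by
  classical
  let lo : LinearOrder (SL2 F) := linearOrderOfSTO WellOrderingRel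
  let s : SL2 F → Bool := fun g => decide (g < -g)
  have hs : ∀ g : SL2 F, s (-g) ≠ s g := by
    intro g
    have hne : g ≠ -g := by
      intro h
      apply neg_one_ne h2
      have h3 : (-1 : SL2 F) * g = 1 * g := by rw [neg_mul, one_mul, ← h]
      exact mul_right_cancel h3
    simp only [s, neg_neg]
    rcases lt_or_gt_of_ne hne with h | h
    · simp [h, h.le, not_lt_of_gt h]
    · simp [h, h.le, not_lt_of_gt h]
  let C0 := centralizer ({j} : Set (Sp B))
  let f : SL2 F × Circ F → C0 × Bool := fun p => (⟨lam hB P p.1 * rot hB hj p.2, by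
    show _ ∈ centralizer ({j} : Set (Sp B))
    rw [mem_centralizer_singleton_iff]
    have e1 := lam_comm hB hj P p.1
    have e2 := rot_comm hB hj p.2
    rw [mul_assoc, ← e2, ← mul_assoc, ← e1, mul_assoc]⟩, s p.1)
  have hf : Function.Injective f := by
    rintro ⟨g, p⟩ ⟨g', p'⟩ he
    have e1 : lam hB P g * rot hB hj p = lam hB P g' * rot hB hj p' :=
      congrArg (fun x => (x.1 : Sp B)) he
    have e2 : s g = s g' := congrArg Prod.snd he
    have e3 : lam hB P (g'⁻¹ * g) * rot hB hj p = rot hB hj p' := by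
      rw [map_mul, map_inv, mul_assoc, e1, inv_mul_cancel_left]
    set k : SL2 F := g'⁻¹ * g with hk
    have hj1 : B (j • v) v' = 0 := orth_symm hB P.h3
    have e4 : lam hB P k • j • v = j • lam hB P k • v := by
      rw [← mul_smul, ← lam_comm hB hj P k, mul_smul]
    have e4' : lam hB P k • j • v' = j • lam hB P k • v' := by
      rw [← mul_smul, ← lam_comm hB hj P k, mul_smul]
    have e5 := congrArg (fun x : Sp B => x • v) e3
    have e6 := congrArg (fun x : Sp B => x • v') e3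
    simp only [mul_smul, rot_smul, smul_add', smul_fsmul, e4, e4', lam_v, lam_v'] at e5 e6
    have hv'v : B v' v = -1 := by rw [skew hB, P.h]
    have hjv'v : B (j • v') v = 0 := orth_symm hB P.h2
    have hjv'v' : B (j • v') v' = 0 := orth_symm hB P.h4
    -- coefficients
    have c1 := congrArg (fun x => B x v') e5
    have c2 := congrArg (fun x => B v x) e5
    have c3 := congrArg (fun x => B x (j • v')) e5
    have c4 := congrArg (fun x => B (j • v) x) e5
    have c5 := congrArg (fun x => B x v') e6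
    have c6 := congrArg (fun x => B v x) e6
    have c7 := congrArg (fun x => B x (j • v')) e6
    have c8 := congrArg (fun x => B (j • v) x) e6
    simp only [map_add, LinearMap.map_smul, LinearMap.add_apply, LinearMap.smul_apply, smul_eq_mul, hB.alt, P.h,
      P.h1, P.h2, P.h3, P.h4, P.hj, hj1, hv'v, hjv'v, hjv'v', orth_symm hB P.h1, mul_one, mul_zero, add_zero,
      zero_add] at c1 c2 c3 c4 c5 c6 c7 c8
    -- `p = (x, y)`, `p' = (x', y')`: `k x = x'`, `k y = y'`
    have hp := p.2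
    have hp' := p'.2
    have hk10 : k 1 0 = 0 := by
      have : k 1 0 * (p.1.1 ^ 2 + p.1.2 ^ 2) = 0 := by linear_combination p.1.1 * c2 + p.1.2 * c4
      rwa [hp, mul_one] at this
    have hk01 : k 0 1 = 0 := by
      have : k 0 1 * (p.1.1 ^ 2 + p.1.2 ^ 2) = 0 := by linear_combination p.1.1 * c5 + p.1.2 * c7
      rwa [hp, mul_one] at this
    have hkk : k 0 0 = k 1 1 := by
      have : (k 0 0 - k 1 1) * (p.1.1 ^ 2 + p.1.2 ^ 2) = 0 := by
        linear_combination p.1.1 * c1 + p.1.2 * c3 - p.1.1 * c6 - p.1.2 * c8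
      rw [hp, mul_one] at this
      exact sub_eq_zero.1 this
    have hd := det_eq k
    rw [hk10, hkk, mul_zero, sub_zero] at hd
    rcases sq1_cases hd with h11 | h11
    · have hk1 : k = 1 := by
        apply sl_ext <;> rw [sl_one_apply] <;> simp [hk10, hk01, hkk, h11]
      have hg : g = g' := by
        rw [hk, inv_mul_eq_one] at hk1
        exact hk1.symm
      rw [hg]
      congr 1
      apply Subtype.ext
      rw [hk1] at c1 c3
      simp only [sl_one_apply, if_true] at c1 c3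
      exact Prod.ext (by linear_combination c1) (by linear_combination c3)
    · exfalso
      have hk1 : k = -1 := by
        apply sl_ext <;> rw [sl_neg_apply, sl_one_apply] <;> simp [hk10, hk01, hkk, h11]
      have hg : g = -g' := by
        rw [hk, inv_mul_eq_iff_eq_mul] at hk1
        rw [hk1, mul_neg, mul_one]
      rw [hg] at e2
      exact hs g' e2
  have h3 := Nat.card_le_card_of_injective f hf
  rw [Nat.card_prod, Nat.card_prod, Nat.card_eq_fintype_card (α := Bool), Fintype.card_bool] at h3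
  rw [mul_comm 2]
  exact h3

variable {T : Type*} [Group T] [Finite T] {π : Sp B →* T}

theorem Ctx.card_T (C : Ctx π) : Nat.card (Sp B) = 2 * Nat.card T := by
  classical
  have h1 : Nat.card π.ker = 2 := by
    have h3 : (π.ker : Set (Sp B)) = {1, negOne B} := by
      ext g
      constructor
      · intro hg
        exact C.ker g hg
      · rintro (rfl | rfl)
        · exact map_one π
        · exact C.neg
    have h4 : Nat.card π.ker = (π.ker : Set (Sp B)).ncard := rfl
    rw [h4, h3, Set.ncard_pair C.negOne_ne.symm]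
  have h3 := Subgroup.card_eq_card_quotient_mul_card_subgroup π.ker
  rw [h1, Nat.card_congr (QuotientGroup.quotientKerEquivOfSurjective π C.surj).toEquiv] at h3
  rw [h3, mul_comm]

theorem Ctx.card_comap (C : Ctx π) (X : Subgroup T) : Nat.card (X.comap π) = 2 * Nat.card X := by
  have h1 := (X.comap π).index_mul_card
  have h3 := X.index_mul_card
  rw [index_comap_of_surjective X C.surj, C.card_T, ← h3] at h1
  have h4 : 0 < X.index := Nat.pos_of_ne_zero index_ne_zero_of_finite
  apply Nat.eq_of_mul_eq_mul_left h4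
  rw [h1]
  ring

/-- the reflection `inv2 B v v'` inverts `j` -/
theorem inv2_j (hB : Symp B) (hV : Nat.card V = Nat.card F ^ 4) {j : Sp B} (hj : j * j = negOne B) {v v' : V}
    (P : Pair j v v') : inv2 B v v' * j = negOne B * (j * inv2 B v v') := by
  have hjj := sq_iff.1 hj
  have hv' : inv2 B v v' • v' = v' := by
    rw [inv2_smul hB P.h, hB.alt, skew hB v' v, P.h]
    module
  have e1 := inv2_orth hB P.h P.h1 P.h3
  have e2 := inv2_orth hB P.h P.h2 P.h4
  apply Sp.ext'
  intro z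
  obtain ⟨a, b, c, d, rfl⟩ := four hB hV P.h P.hj P.h1 P.h2 P.h3 P.h4 z
  simp only [mul_smul, smul_add', smul_fsmul, inv2_v hB P.h, hv', e1, e2, hjj, smul_neg', negOne_smul]
  generalize j • v = u
  generalize j • v' = u'
  module

/-- **The centraliser of an involution of type `t₂`.** -/
theorem Ctx.card_centralizer_j (C : Ctx π) {j : Sp B} (hj : j * j = negOne B) :
    Nat.card F * (Nat.card F ^ 2 - 1) * Nat.card (Circ F) ≤ 2 * Nat.card (centralizer ({π j} : Set T)) := by
  classical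
  obtain ⟨v, v', P⟩ := exists_Pair C.hB C.h2 C.hV hj
  rw [← card_sl2, ← C.card_comap]
  refine le_trans (card_cent C.hB C.h2 hj P) ?_
  set C0 := centralizer ({j} : Set (Sp B)) with hC0
  set C1 := (centralizer ({π j} : Set T)).comap π with hC1
  have hle : C0 ≤ C1 := by
    intro x hx
    rw [hC0, mem_centralizer_singleton_iff] at hx
    rw [hC1, mem_comap, mem_centralizer_singleton_iff, ← map_mul, hx, map_mul]
  have hr1 : inv2 B v v' ∈ C1 := by
    rw [hC1, mem_comap, mem_centralizer_singleton_iff, ← map_mul, inv2_j C.hB C.hV hj P, map_mul, C.neg, one_mul,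
      map_mul]
  have hr0 : inv2 B v v' ∉ C0 := by
    intro h
    rw [hC0, mem_centralizer_singleton_iff, inv2_j C.hB C.hV hj P] at h
    exact C.negOne_ne (mul_eq_right.1 h)
  have h3 : 1 < C0.relIndex C1 := by
    rcases Nat.lt_or_ge 1 (C0.relIndex C1) with h | h
    · exact h
    · exfalso
      have h4 : C0.relIndex C1 ≠ 0 := by
        rw [relIndex]
        exact index_ne_zero_of_finite
      have h5 : C0.relIndex C1 = 1 := by omega
      exact hr0 (relIndex_eq_one.1 h5 hr1)
  have h4 : C0.relIndex C1 * Nat.card C0 = Nat.card C1 := by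
    have h5 := relIndex_mul_relIndex (⊥ : Subgroup (Sp B)) C0 C1 bot_le hle
    rw [relIndex_bot_left, relIndex_bot_left] at h5
    rw [mul_comm]
    exact h5
  calc 2 * Nat.card C0 ≤ C0.relIndex C1 * Nat.card C0 := Nat.mul_le_mul_right _ h3
    _ = _ := h4

/-- helper172's `hcen` -/
theorem Ctx.hcen (C : Ctx π) {j : Sp B} (hj : j * j = negOne B) :
    Nat.card F * (Nat.card F ^ 2 - 1) * (Nat.card F - 1) ≤ 2 * Nat.card (centralizer ({π j} : Set T)) :=
  le_trans (Nat.mul_le_mul_left _ (circle_ge C.h2)) (C.card_centralizer_j hj)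

end

end Cfsg.Agent.H804.P4
end

-- part: H804/IF/P4Q
section
/-!
# S5719, `PSp_4(q)`, `q` odd: the centraliser of a quaternion group (helper804)

`i² = j² = -1`, `i j = - j i`: at most `2(q+1)` elements of `Sp B` commute with `i` and `j`.
-/

set_option autoImplicit false
set_option linter.unusedSectionVars false
set_option linter.unusedSimpArgs false

namespace Cfsg.Agent.H804.P4

open Subgroup Module Cfsg.Agent.H74.Psp Cfsg.Agent.H209.Fxy

section conic

variable {F : Type*} [Field F] [Finite F]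

/-- a conic `α x² + β y² = α` has at most `q + 1` points -/
theorem conic_le (h2 : (2 : F) ≠ 0) {α β : F} (hα : α ≠ 0) (hβ : β ≠ 0) :
    Nat.card {p : F × F // α * p.1 ^ 2 + β * p.2 ^ 2 = α} ≤ Nat.card F + 1 := by
  classical
  let f : {p : F × F // α * p.1 ^ 2 + β * p.2 ^ 2 = α} → Option F := fun p =>
    if p.1 = (1, 0) then none else some (p.1.2 / (p.1.1 - 1))
  have hx : ∀ p : {p : F × F // α * p.1 ^ 2 + β * p.2 ^ 2 = α}, p.1 ≠ (1, 0) → p.1.1 - 1 ≠ 0 := by
    intro p hp h1
    have h4 : p.1.1 = 1 := sub_eq_zero.1 h1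
    have h5 := p.2
    rw [h4] at h5
    have h6 : β * p.1.2 ^ 2 = 0 := by linear_combination h5
    have h7 : p.1.2 = 0 := by
      rcases mul_eq_zero.1 h6 with h | h
      · exact absurd h hβ
      · exact (pow_eq_zero_iff two_ne_zero).1 h
    exact hp (Prod.ext h4 h7)
  have hm : ∀ p : {p : F × F // α * p.1 ^ 2 + β * p.2 ^ 2 = α}, ∀ hp : p.1 ≠ (1, 0), ∀ m : F,
      p.1.2 = m * (p.1.1 - 1) → p.1.1 * (β * m ^ 2 + α) = β * m ^ 2 - α := by
    intro p hp m hm
    have h5 := p.2
    rw [hm] at h5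
    have h6 : (p.1.1 - 1) * (p.1.1 * (β * m ^ 2 + α) - (β * m ^ 2 - α)) = 0 := by linear_combination h5
    have h7 := (mul_eq_zero.1 h6).resolve_left (hx p hp)
    exact sub_eq_zero.1 h7
  have hf : Function.Injective f := by
    intro p p' he
    by_cases hp : p.1 = (1, 0)
    · by_cases hp' : p'.1 = (1, 0)
      · exact Subtype.ext (hp.trans hp'.symm)
      · simp only [f, hp, hp', ↓ _root_.reduceIte, _root_.reduceCtorEq] at he
    · by_cases hp' : p'.1 = (1, 0)
      · simp only [f, hp, hp', ↓ _root_.reduceIte, _root_.reduceCtorEq] at he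
      · have he' : p.1.2 / (p.1.1 - 1) = p'.1.2 / (p'.1.1 - 1) := by
          simpa only [f, hp, hp', ↓ _root_.reduceIte, _root_.Option.some.injEq] using he
        set m : F := p.1.2 / (p.1.1 - 1) with hmd
        have e1 : p.1.2 = m * (p.1.1 - 1) := by rw [hmd, div_mul_cancel₀ _ (hx p hp)]
        have e2 : p'.1.2 = m * (p'.1.1 - 1) := by rw [he', div_mul_cancel₀ _ (hx p' hp')]
        have e3 := hm p hp m e1
        have e4 := hm p' hp' m e2
        have e5 : β * m ^ 2 + α ≠ 0 := by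
          intro h0
          rw [h0, mul_zero] at e3
          have h3 : (2 : F) * α = 0 := by linear_combination h0 + e3
          exact (mul_ne_zero h2 hα) h3
        have e6 : p.1.1 = p'.1.1 := mul_right_cancel₀ e5 (e3.trans e4.symm)
        apply Subtype.ext
        exact Prod.ext e6 (by rw [e1, e2, e6])
  have h3 := Nat.card_le_card_of_injective f hf
  rwa [Finite.card_option] at h3

end conic

section

variable {F V : Type*} [Field F] [AddCommGroup V] [Module F V] {B : V →ₗ[F] V →ₗ[F] F}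

/-- `a i + b i j` -/
def En (i j : Sp B) (a b : F) (z : V) : V := a • (i • z) + b • (i • j • z)

variable {i j : Sp B} (hi : i * i = negOne B) (hj : j * j = negOne B) (hij : ∀ x : V, i • j • x = -(j • i • x))
  {a b : F}

include hi hj hij

theorem En_En (hab : a ^ 2 + b ^ 2 = -1) (z : V) : En i j a b (En i j a b z) = z := by
  have hii := sq_iff.1 hi
  have hjj := sq_iff.1 hj
  have e1 : i • j • i • z = j • z := by rw [hij (i • z), hii, smul_neg', neg_neg]
  have e2 : i • j • i • j • z = -z := by rw [hij (i • j • z), hii, smul_neg', neg_neg, hjj]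
  simp only [En, smul_add', smul_fsmul, hii, e1, e2]
  generalize j • z = u
  have e3 : z = -((a ^ 2 + b ^ 2) • z) := by rw [hab, neg_one_smul, neg_neg]
  conv_rhs => rw [e3]
  module

theorem En_j (z : V) : En i j a b (j • z) = -(j • En i j a b z) := by
  have hjj := sq_iff.1 hj
  have e1 : j • i • z = -(i • j • z) := by rw [hij, neg_neg]
  have e2 : j • i • j • z = i • z := by
    have := hij (j • z)
    rw [hjj, smul_neg'] at this
    exact (neg_injective this).symm
  simp only [En, smul_add', smul_fsmul, hjj, e1, e2, smul_neg']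
  generalize i • j • z = u
  generalize i • z = w
  module

theorem En_B (hB : Symp B) (x y : V) : B (En i j a b x) y = -B x (En i j a b y) := by
  have h1 : ∀ x y : V, B (i • x) y = -B x (i • y) := fun x y => by rw [sym hB hi, skew hB]
  have h2 : ∀ x y : V, B (j • x) y = -B x (j • y) := fun x y => by rw [sym hB hj, skew hB]
  simp only [En, map_add, LinearMap.map_smul, LinearMap.add_apply, LinearMap.smul_apply, smul_eq_mul, h1, h2]
  have e1 : j • i • y = -(i • j • y) := by rw [hij, neg_neg]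
  rw [e1, map_neg]
  ring

theorem En_iso (hB : Symp B) (h2 : (2 : F) ≠ 0) {x y : V} (hx : En i j a b x = x) (hy : En i j a b y = y) :
    B x y = 0 := by
  have h1 := En_B hi hj hij (a := a) (b := b) hB x y
  rw [hx, hy] at h1
  have h3 : (2 : F) * B x y = 0 := by linear_combination h1
  exact (mul_eq_zero.1 h3).resolve_left h2

omit hi hj hij in
theorem En_add (x y : V) : En i j a b (x + y) = En i j a b x + En i j a b y := by
  simp only [En, smul_add', smul_add]
  abel

omit hi hj hij in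
theorem En_smul (c : F) (x : V) : En i j a b (c • x) = c • En i j a b x := by
  simp only [En, smul_fsmul, smul_add]
  rw [smul_comm a c, smul_comm b c]

omit hi hj hij in
theorem En_comm {g : Sp B} (h1 : g * i = i * g) (h2 : g * j = j * g) (x : V) :
    En i j a b (g • x) = g • En i j a b x := by
  have e1 : ∀ x : V, g • i • x = i • g • x := fun x => by rw [← mul_smul, h1, mul_smul]
  have e2 : ∀ x : V, g • j • x = j • g • x := fun x => by rw [← mul_smul, h2, mul_smul]
  simp only [En, smul_add', smul_fsmul, e1, e2]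

/-- a vector `w` with `E w = w`, `B w (j w) ≠ 0` in a subspace -/
theorem exists_w (hB : Symp B) (h2 : (2 : F) ≠ 0) (hab : a ^ 2 + b ^ 2 = -1) (K : Set V)
    (hadd : ∀ x ∈ K, ∀ y ∈ K, x + y ∈ K) (hneg : ∀ x ∈ K, -x ∈ K) (hjK : ∀ x ∈ K, j • x ∈ K)
    (hEK : ∀ x ∈ K, En i j a b x ∈ K) (hne : ∃ x ∈ K, x ≠ 0) (hnd : ∀ x ∈ K, x ≠ 0 → ∃ y ∈ K, B x y = 1) :
    ∃ w ∈ K, En i j a b w = w ∧ B w (j • w) ≠ 0 := by
  have hjj := sq_iff.1 hj
  obtain ⟨x, hx, hx0⟩ := hne
  obtain ⟨x1, hx1, hx10, hEx1⟩ : ∃ x1 ∈ K, x1 ≠ 0 ∧ En i j a b x1 = x1 := by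
    by_cases h : x + En i j a b x = 0
    · refine ⟨j • x, hjK x hx, (smul_ne_zero_iff_ne j).2 hx0, ?_⟩
      rw [En_j hi hj hij, eq_neg_of_add_eq_zero_right h, smul_neg', neg_neg]
    · refine ⟨_, hadd _ hx _ (hEK x hx), h, ?_⟩
      rw [En_add, En_En hi hj hij hab, add_comm]
  obtain ⟨y, hy, hxy⟩ := hnd x1 hx1 hx10
  set ym : V := y + -(En i j a b y) with hym
  have hymK : ym ∈ K := hadd _ hy _ (hneg _ (hEK y hy))
  have hEneg : ∀ z : V, En i j a b (-z) = -(En i j a b z) := fun z => by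
    rw [← neg_one_smul F z, En_smul, neg_one_smul]
  have hEym : En i j a b ym = -ym := by
    rw [hym, En_add, hEneg, En_En hi hj hij hab, neg_add, neg_neg, add_comm]
  have hyp : B x1 (y + En i j a b y) = 0 := by
    apply En_iso hi hj hij hB h2 hEx1
    rw [En_add, En_En hi hj hij hab, add_comm]
  have hBym : B x1 ym = 2 := by
    rw [map_add, hxy] at hyp
    rw [hym, map_add, map_neg, hxy]
    linear_combination -hyp
  clear_value ym
  have hEw : En i j a b (-(j • ym)) = -(j • ym) := by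
    rw [hEneg, En_j hi hj hij, hEym, smul_neg', neg_neg]
  obtain ⟨z, ⟨hzK, hzE⟩, hz⟩ := exists_noniso hB h2 hj {z : V | z ∈ K ∧ En i j a b z = z}
    (fun p hp r hr => ⟨hadd _ hp.1 _ hr.1, by rw [En_add, hp.2, hr.2]⟩)
    (x := x1) (y := -(j • ym)) ⟨hx1, hEx1⟩ ⟨hneg _ (hjK _ hymK), hEw⟩
    (by rw [smul_neg', hjj, neg_neg, hBym]; exact h2)
  exact ⟨z, hzK, hzE, hz⟩

end

section

variable {F V : Type*} [Field F] [Finite F] [AddCommGroup V] [Module F V] [Finite V] {B : V →ₗ[F] V →ₗ[F] F}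

/-- **The centraliser of a quaternion group.** -/
theorem card_quat (hB : Symp B) (h2 : (2 : F) ≠ 0) (hV : Nat.card V = Nat.card F ^ 4) {i j : Sp B}
    (hi : i * i = negOne B) (hj : j * j = negOne B) (hij : ∀ x : V, i • j • x = -(j • i • x)) :
    Nat.card (centralizer ({i} : Set (Sp B)) ⊓ centralizer ({j} : Set (Sp B)) : Subgroup (Sp B)) ≤
      2 * (Nat.card F + 1) := by
  classical
  obtain ⟨a, b, hab⟩ := exists_two_sq h2 (-1 : F)
  have hjj := sq_iff.1 hj
  have hnt : Nontrivial V := by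
    rw [← Finite.one_lt_card_iff_nontrivial, hV]
    exact Nat.one_lt_pow (by norm_num) Finite.one_lt_card
  obtain ⟨x0, hx0⟩ := exists_ne (0 : V)
  obtain ⟨w1, -, hE1, hα⟩ := exists_w hi hj hij hB h2 hab Set.univ (fun _ _ _ _ => trivial) (fun _ _ => trivial)
    (fun _ _ => trivial) (fun _ _ => trivial) ⟨x0, trivial, hx0⟩ (fun x _ hx => by
      obtain ⟨y, hy⟩ := sep0 hB hx
      exact ⟨y, trivial, hy⟩)
  set α := B w1 (j • w1) with hαd
  have hp1 : B w1 (α⁻¹ • (j • w1)) = 1 := by rw [LinearMap.map_smul, smul_eq_mul, ← hαd, inv_mul_cancel₀ hα]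
  have hproj : ∀ z : V, ∃ (u : V) (c d : F), z = u + (c • w1 + d • (α⁻¹ • (j • w1))) ∧ B w1 u = 0 ∧
      B (j • w1) u = 0 := by
    intro z
    obtain ⟨u, c, d, h3, h4, h5⟩ := decompV hB hp1 z
    refine ⟨u, c, d, h3, h4, ?_⟩
    rw [LinearMap.map_smul, LinearMap.smul_apply, smul_eq_mul] at h5
    exact (mul_eq_zero.1 h5).resolve_left (inv_ne_zero hα)
  obtain ⟨w2, ⟨hw12, hjw12⟩, hE2, hβ⟩ := exists_w hi hj hij hB h2 hab {z : V | B w1 z = 0 ∧ B (j • w1) z = 0}
    (fun x hx y hy => ⟨by rw [map_add, hx.1, hy.1, add_zero], by rw [map_add, hx.2, hy.2, add_zero]⟩)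
    (fun x hx => ⟨by rw [map_neg, hx.1, neg_zero], by rw [map_neg, hx.2, neg_zero]⟩)
    (fun x hx => ⟨by rw [sym hB hj, skew hB, hx.2, neg_zero], by rw [B_smul_smul, hx.1]⟩)
    (fun x hx => ⟨by
        have h3 := En_B hi hj hij (a := a) (b := b) hB w1 x
        rw [hE1, hx.1] at h3
        exact neg_eq_zero.1 h3.symm, by
        have h3 := En_B hi hj hij (a := a) (b := b) hB (j • w1) x
        rw [En_j hi hj hij, hE1, map_neg, LinearMap.neg_apply, hx.2, neg_zero] at h3
        exact neg_eq_zero.1 h3.symm⟩)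
    (by
      obtain ⟨y0, hy0⟩ : ∃ y0 : V, ∀ c d : F, y0 ≠ c • w1 + d • (α⁻¹ • (j • w1)) := by
        by_contra! hcon
        have hs : Function.Surjective (fun p : F × F => p.1 • w1 + p.2 • (α⁻¹ • (j • w1))) := by
          intro z
          obtain ⟨c, d, hcd⟩ := hcon z
          exact ⟨(c, d), hcd.symm⟩
        have h3 := Nat.card_le_card_of_surjective _ hs
        rw [hV, Nat.card_prod, ← pow_two] at h3
        have h4 : Nat.card F ^ 2 < Nat.card F ^ 4 := Nat.pow_lt_pow_right Finite.one_lt_card (by norm_num)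
        omega
      obtain ⟨u, c, d, h3, h4, h5⟩ := hproj y0
      refine ⟨u, ⟨h4, h5⟩, ?_⟩
      rintro rfl
      exact hy0 c d (by rw [h3, zero_add]))
    (by
      intro x hx hx0
      obtain ⟨y, hy⟩ := sep0 hB hx0
      obtain ⟨u, c, d, h3, h4, h5⟩ := hproj y
      refine ⟨u, ⟨h4, h5⟩, ?_⟩
      rw [h3, map_add, map_add, LinearMap.map_smul, LinearMap.map_smul, LinearMap.map_smul, orth_symm hB hx.1,
        orth_symm hB hx.2, smul_zero, smul_zero, smul_zero, add_zero, add_zero] at hy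
      exact hy)
  set β := B w2 (j • w2) with hβd
  have hp2 : B w2 (β⁻¹ • (j • w2)) = 1 := by rw [LinearMap.map_smul, smul_eq_mul, ← hβd, inv_mul_cancel₀ hβ]
  have hw1j2 : B w1 (j • w2) = 0 := by rw [sym hB hj, skew hB, hjw12, neg_zero]
  have hw2j1 : B w2 (j • w1) = 0 := by rw [sym hB hj, hw1j2]
  have q1 : B w1 (β⁻¹ • (j • w2)) = 0 := by rw [LinearMap.map_smul, hw1j2, smul_zero]
  have q2 : B (α⁻¹ • (j • w1)) w2 = 0 := by rw [LinearMap.map_smul, LinearMap.smul_apply, hjw12, smul_zero]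
  have q3 : B (α⁻¹ • (j • w1)) (β⁻¹ • (j • w2)) = 0 := by
    simp only [LinearMap.map_smul, LinearMap.smul_apply, B_smul_smul, hw12, smul_zero]
  have hfour := four hB hV hp1 hp2 hw12 q1 q2 q3
  have hw21 : B w2 w1 = 0 := orth_symm hB hw12
  -- the fixed space of `E`
  have hspan : ∀ z : V, En i j a b z = z → z = (B z (j • w1) * α⁻¹) • w1 + (B z (j • w2) * β⁻¹) • w2 := by
    intro z hz
    obtain ⟨c1, c2, c3, c4, h3⟩ := hfour z
    have h4 := En_iso hi hj hij hB h2 hE1 hz
    have h5 := En_iso hi hj hij hB h2 hE2 hz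
    have h6 : c2 = 0 := by
      rw [h3] at h4
      simp only [map_add, LinearMap.map_smul, hB.alt, hw12, hw1j2, smul_eq_mul, ← hαd, inv_mul_cancel₀ hα, mul_zero,
        mul_one, zero_add, add_zero] at h4
      exact h4
    have h7 : c4 = 0 := by
      rw [h3] at h5
      simp only [map_add, LinearMap.map_smul, hB.alt, hw21, hw2j1, smul_eq_mul, ← hβd, inv_mul_cancel₀ hβ, mul_zero,
        mul_one, zero_add, add_zero] at h5
      exact h5
    have h8 : z = c1 • w1 + c3 • w2 := by
      rw [h3, h6, h7]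
      simp
    have h9 : B z (j • w1) = c1 * α := by
      rw [h8]
      simp only [map_add, LinearMap.map_smul, LinearMap.add_apply, LinearMap.smul_apply, smul_eq_mul, hw2j1, ← hαd]
      ring
    have h10 : B z (j • w2) = c3 * β := by
      rw [h8]
      simp only [map_add, LinearMap.map_smul, LinearMap.add_apply, LinearMap.smul_apply, smul_eq_mul, hw1j2, ← hβd]
      ring
    rw [h9, h10, mul_assoc, mul_assoc, mul_inv_cancel₀ hα, mul_inv_cancel₀ hβ, mul_one, mul_one]
    exact h8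
  -- the form `B x (j y)` on the fixed space
  have hform : ∀ x y x' y' : F, B (x • w1 + y • w2) (j • (x' • w1 + y' • w2)) = α * x * x' + β * y * y' := by
    intro x y x' y'
    rw [smul_add', smul_fsmul, smul_fsmul]
    simp only [map_add, LinearMap.map_smul, LinearMap.add_apply, LinearMap.smul_apply, smul_eq_mul, hw2j1, hw1j2,
      ← hαd, ← hβd]
    ring
  set C1 : Subgroup (Sp B) := centralizer ({i} : Set (Sp B)) ⊓ centralizer ({j} : Set (Sp B)) with hC1
  have hc : ∀ g : C1, (g : Sp B) * i = i * g ∧ (g : Sp B) * j = j * g := fun g =>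
    ⟨mem_centralizer_singleton_iff.1 (mem_inf.1 g.2).1, mem_centralizer_singleton_iff.1 (mem_inf.1 g.2).2⟩
  have hgj : ∀ (g : C1) (x : V), (g : Sp B) • j • x = j • (g : Sp B) • x := fun g x => by
    rw [← mul_smul, (hc g).2, mul_smul]
  let X : C1 → F := fun g => B ((g : Sp B) • w1) (j • w1) * α⁻¹
  let Y : C1 → F := fun g => B ((g : Sp B) • w1) (j • w2) * β⁻¹
  let X' : C1 → F := fun g => B ((g : Sp B) • w2) (j • w1) * α⁻¹
  let Y' : C1 → F := fun g => B ((g : Sp B) • w2) (j • w2) * β⁻¹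
  have hg1 : ∀ g : C1, (g : Sp B) • w1 = X g • w1 + Y g • w2 := fun g =>
    hspan _ (by rw [En_comm (hc g).1 (hc g).2, hE1])
  have hg2 : ∀ g : C1, (g : Sp B) • w2 = X' g • w1 + Y' g • w2 := fun g =>
    hspan _ (by rw [En_comm (hc g).1 (hc g).2, hE2])
  have r1 : ∀ g : C1, α * X g * X g + β * Y g * Y g = α := by
    intro g
    rw [← hform, ← hg1, ← hgj, B_smul_smul, ← hαd]
  have r2 : ∀ g : C1, α * X g * X' g + β * Y g * Y' g = 0 := by
    intro g
    rw [← hform, ← hg1, ← hg2, ← hgj, B_smul_smul, hw1j2]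
  have r3 : ∀ g : C1, α * X' g * X' g + β * Y' g * Y' g = β := by
    intro g
    rw [← hform, ← hg2, ← hgj, B_smul_smul, ← hβd]
  clear_value X Y X' Y'
  have hpm : ∀ g : C1, (X' g = -(β * Y g * α⁻¹) ∧ Y' g = X g) ∨ (X' g = β * Y g * α⁻¹ ∧ Y' g = -X g) := by
    intro g
    set δ := X g * Y' g - Y g * X' g with hδ
    have s1 : α * X' g + β * Y g * δ = 0 := by
      rw [hδ]
      linear_combination -(X' g) * r1 g + X g * r2 g
    have s2 : Y' g = X g * δ := by
      have : α * (Y' g - X g * δ) = 0 := by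
        rw [hδ]
        linear_combination -(Y' g) * r1 g + Y g * r2 g
      exact sub_eq_zero.1 ((mul_eq_zero.1 this).resolve_left hα)
    have s1' : X' g = -(β * Y g * δ * α⁻¹) := by
      field_simp
      linear_combination s1
    have s3 : δ * δ = 1 := by
      have h3 := r3 g
      have h4 : α * (α * X' g * X' g + β * Y' g * Y' g) = α * β := by rw [h3]
      have h5 : α * X' g = -(β * Y g * δ) := by linear_combination s1
      have h6 : α * β * (δ * δ - 1) = 0 := by
        have h7 : (α * X' g) * (α * X' g) + α * β * (Y' g * Y' g) = α * β := by linear_combination h4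
        rw [h5, s2] at h7
        linear_combination h7 - β * δ * δ * r1 g
      have h7 := (mul_eq_zero.1 h6).resolve_left (mul_ne_zero hα hβ)
      linear_combination h7
    rcases Cfsg.Agent.ClassicalGeometry.SL2Borel.sq1_cases s3 with h3 | h3
    · left
      rw [h3, mul_one] at s1' s2
      exact ⟨s1', s2⟩
    · right
      rw [h3] at s1' s2
      exact ⟨by rw [s1']; ring, by rw [s2]; ring⟩
  let f : C1 → {p : F × F // α * p.1 ^ 2 + β * p.2 ^ 2 = α} × Bool := fun g =>
    (⟨(X g, Y g), by have := r1 g; linear_combination this⟩, decide (X' g = -(β * Y g * α⁻¹) ∧ Y' g = X g))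
  have hf : Function.Injective f := by
    intro g g' he
    have e1 : X g = X g' := congrArg (fun p => p.1.1.1) he
    have e2 : Y g = Y g' := congrArg (fun p => p.1.1.2) he
    have e3 : (X' g = -(β * Y g * α⁻¹) ∧ Y' g = X g) ↔ (X' g' = -(β * Y g' * α⁻¹) ∧ Y' g' = X g') := by
      have := congrArg Prod.snd he
      exact decide_eq_decide.1 this
    have e4 : X' g = X' g' ∧ Y' g = Y' g' := by
      by_cases h3 : X' g = -(β * Y g * α⁻¹) ∧ Y' g = X g
      · have h4 := e3.1 h3
        exact ⟨by rw [h3.1, h4.1, e2], by rw [h3.2, h4.2, e1]⟩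
      · have h4 : ¬ (X' g' = -(β * Y g' * α⁻¹) ∧ Y' g' = X g') := fun h => h3 (e3.2 h)
        have h5 := (hpm g).resolve_left h3
        have h6 := (hpm g').resolve_left h4
        exact ⟨by rw [h5.1, h6.1, e2], by rw [h5.2, h6.2, e1]⟩
    have f1 : (g : Sp B) • w1 = (g' : Sp B) • w1 := by rw [hg1, hg1, e1, e2]
    have f2 : (g : Sp B) • w2 = (g' : Sp B) • w2 := by rw [hg2, hg2, e4.1, e4.2]
    apply Subtype.ext
    apply Sp.ext'
    intro z
    obtain ⟨c1, c2, c3, c4, rfl⟩ := hfour z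
    simp only [smul_add', smul_fsmul, hgj, f1, f2]
  have h3 := Nat.card_le_card_of_injective f hf
  rw [Nat.card_prod, Nat.card_eq_fintype_card (α := Bool), Fintype.card_bool] at h3
  have h4 := conic_le h2 hα hβ
  omega

end

end Cfsg.Agent.H804.P4
end

-- part: H804/IF/P4B2
section
/-!
# S5719, `PSp_4(q)`, `q` odd: two commuting involutions of type `t₂` (helper804)
-/

set_option autoImplicit false
set_option linter.unusedSectionVars false
set_option linter.unusedSimpArgs false

namespace Cfsg.Agent.H804.P4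

open Subgroup Module Cfsg.Agent.H74.Psp Cfsg.Agent.H209.Fxy Cfsg.Agent.ClassicalGeometry.SL2Line
open Cfsg.Agent.ClassicalGeometry.SL2Borel Cfsg.Agent.ClassicalGeometry.MinIndexPSL2

section arith

theorem arith0 {q f N : ℕ} (hq : 3 ≤ q)
    (h : f ^ 4 * ((q * (q ^ 2 - 1) * N) * (q * (q ^ 2 - 1) * N)) < 8 * (q + 1) * (q ^ 4 * ((q ^ 2 - 1) * (q ^ 4 - 1)))) :
    f ^ 4 * N ^ 2 < 8 * (q + 1) * (q ^ 2 * (q ^ 2 + 1)) := by
  obtain ⟨k, hk⟩ : ∃ k, q ^ 2 = k + 1 := ⟨q ^ 2 - 1, by
    have : 0 < q ^ 2 := by positivity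
    omega⟩
  have hk0 : 0 < k := by
    have : 3 ^ 2 ≤ q ^ 2 := Nat.pow_le_pow_left hq 2
    omega
  have e1 : q ^ 2 - 1 = k := by omega
  have e2 : q ^ 4 - 1 = k * (k + 2) := by
    have h1 : q ^ 4 = (q ^ 2) ^ 2 := by ring
    rw [h1, hk]
    have : (k + 1) ^ 2 = k * (k + 2) + 1 := by ring
    omega
  rw [e1, e2] at h
  have h3 : (q ^ 2 * k ^ 2) * (f ^ 4 * N ^ 2) < (q ^ 2 * k ^ 2) * (8 * (q + 1) * (q ^ 2 * (q ^ 2 + 1))) := by
    calc (q ^ 2 * k ^ 2) * (f ^ 4 * N ^ 2) = f ^ 4 * ((q * k * N) * (q * k * N)) := by ring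
      _ < 8 * (q + 1) * (q ^ 4 * (k * (k * (k + 2)))) := h
      _ = (q ^ 2 * k ^ 2) * (8 * (q + 1) * (q ^ 2 * ((k + 1) + 1))) := by ring
      _ = _ := by rw [← hk]
  exact lt_of_mul_lt_mul_left h3 (Nat.zero_le _)

theorem arith1 {q f N : ℕ} (hq : 3 ≤ q) (hf : q + 1 ≤ f) (hN : q + 1 ≤ N)
    (h : f ^ 4 * N ^ 2 < 8 * (q + 1) * (q ^ 2 * (q ^ 2 + 1))) : False := by
  have h1 : (q + 1) ^ 4 * (q + 1) ^ 2 ≤ f ^ 4 * N ^ 2 :=
    Nat.mul_le_mul (Nat.pow_le_pow_left hf 4) (Nat.pow_le_pow_left hN 2)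
  have h3 : 8 * (q + 1) * (q ^ 2 * (q ^ 2 + 1)) ≤ (q + 1) ^ 4 * (q + 1) ^ 2 := by
    obtain ⟨n, rfl⟩ : ∃ n, q = n + 3 := ⟨q - 3, by omega⟩
    have e1 : (n + 3 + 1) ^ 5 = 8 * ((n + 3) ^ 2 * ((n + 3) ^ 2 + 1)) +
        (n ^ 5 + 12 * n ^ 4 + 64 * n ^ 3 + 200 * n ^ 2 + 368 * n + 304) := by ring
    calc 8 * (n + 3 + 1) * ((n + 3) ^ 2 * ((n + 3) ^ 2 + 1))
        = (n + 3 + 1) * (8 * ((n + 3) ^ 2 * ((n + 3) ^ 2 + 1))) := by ring
      _ ≤ (n + 3 + 1) * (n + 3 + 1) ^ 5 := Nat.mul_le_mul_left _ (by rw [e1]; exact Nat.le_add_right _ _)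
      _ = _ := by ring
  omega

theorem arith2 {q f N : ℕ} (hq : 9 ≤ q) (hf : q + 1 ≤ f) (hN : q - 1 ≤ N)
    (h : f ^ 4 * N ^ 2 < 8 * (q + 1) * (q ^ 2 * (q ^ 2 + 1))) : False := by
  have h1 : (q + 1) ^ 4 * (q - 1) ^ 2 ≤ f ^ 4 * N ^ 2 :=
    Nat.mul_le_mul (Nat.pow_le_pow_left hf 4) (Nat.pow_le_pow_left hN 2)
  have h3 : 8 * (q + 1) * (q ^ 2 * (q ^ 2 + 1)) ≤ (q + 1) ^ 4 * (q - 1) ^ 2 := by
    obtain ⟨n, rfl⟩ : ∃ n, q = n + 9 := ⟨q - 9, by omega⟩
    have e0 : n + 9 - 1 = n + 8 := by omega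
    have e1 : (n + 9 + 1) ^ 3 * (n + 8) ^ 2 = 8 * ((n + 9) ^ 2 * ((n + 9) ^ 2 + 1)) +
        (n ^ 5 + 38 * n ^ 4 + 556 * n ^ 3 + 3824 * n ^ 2 + 11728 * n + 10864) := by ring
    rw [e0]
    calc 8 * (n + 9 + 1) * ((n + 9) ^ 2 * ((n + 9) ^ 2 + 1))
        = (n + 9 + 1) * (8 * ((n + 9) ^ 2 * ((n + 9) ^ 2 + 1))) := by ring
      _ ≤ (n + 9 + 1) * ((n + 9 + 1) ^ 3 * (n + 8) ^ 2) := Nat.mul_le_mul_left _ (by rw [e1]; exact Nat.le_add_right _ _)
      _ = _ := by ring
  omega

theorem arith3 {f N : ℕ} (hf : 8 ≤ f) (hN : 4 ≤ N)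
    (h : f ^ 4 * N ^ 2 < 8 * (5 + 1) * (5 ^ 2 * (5 ^ 2 + 1))) : False := by
  have h1 : 8 ^ 4 * 4 ^ 2 ≤ f ^ 4 * N ^ 2 := Nat.mul_le_mul (Nat.pow_le_pow_left hf 4) (Nat.pow_le_pow_left hN 2)
  norm_num at h h1
  omega

end arith

section

variable {F : Type*} [Field F]

theorem four_not_dvd [Finite F] (h2 : (2 : F) ≠ 0) (M : Subgroup (Matrix.SpecialLinearGroup (Fin 2) F))
    (h4 : ∀ m ∈ M, m * m ≠ -1) : ¬ 4 ∣ Nat.card M := by
  classical
  intro h7
  obtain ⟨K, hK⟩ := Sylow.exists_subgroup_card_pow_prime (G := M) 2 (n := 2) (by norm_num only []; exact h7)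
  have h8 : ∀ k ∈ K, (k : Matrix.SpecialLinearGroup (Fin 2) F) = 1 ∨ (k : Matrix.SpecialLinearGroup (Fin 2) F) = -1 := by
    intro k hk
    have h9 : (k : M) ^ 4 = 1 := by
      have := pow_card_eq_one' (x := (⟨k, hk⟩ : K))
      rw [hK] at this
      exact congrArg Subtype.val this
    have h10 : ((k : Matrix.SpecialLinearGroup (Fin 2) F) * k) * (k * k) = 1 := by
      have := congrArg (fun x : M => (x : Matrix.SpecialLinearGroup (Fin 2) F)) h9
      simp only [Subgroup.coe_pow, Subgroup.coe_one] at this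
      rw [← pow_two, ← pow_two, ← pow_mul]
      exact this
    rcases sl_sq_eq_one h2 h10 with h11 | h11
    · exact sl_sq_eq_one h2 h11
    · exact absurd h11 (h4 _ k.2)
  have h9 : Nat.card K ≤ 2 := by
    have hinj : Function.Injective (fun k : K =>
        decide (((k : M) : Matrix.SpecialLinearGroup (Fin 2) F) = 1)) := by
      intro k k' hkk
      simp only [decide_eq_decide] at hkk
      apply Subtype.ext
      apply Subtype.ext
      rcases h8 k k.2 with h10 | h10 <;> rcases h8 k' k'.2 with h11 | h11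
      · rw [h10, h11]
      · exact absurd (hkk.1 h10) (by rw [h11]; exact neg_one_ne h2)
      · exact absurd (hkk.2 h11) (by rw [h10]; exact neg_one_ne h2)
      · rw [h10, h11]
    have := Nat.card_le_card_of_injective _ hinj
    rwa [Nat.card_eq_fintype_card (α := Bool), Fintype.card_bool] at this
  rw [hK] at h9
  norm_num at h9

/-- `q = 5` -/
theorem odd_index5 [Finite F] (h2 : (2 : F) ≠ 0) (h5 : Nat.card F = 5)
    (M : Subgroup (Matrix.SpecialLinearGroup (Fin 2) F))
    (hneg : (-1 : Matrix.SpecialLinearGroup (Fin 2) F) ∈ M) (h4 : ∀ m ∈ M, m * m ≠ -1) : 8 ≤ M.index := by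
  classical
  have h1 := odd_index h2 M hneg h4
  have h3 := four_not_dvd h2 M h4
  have h6 := M.card_mul_index
  rw [card_sl2, h5] at h6
  rw [h5] at h1
  by_contra hcon
  have h7 : M.index = 6 ∨ M.index = 7 := by omega
  rcases h7 with h7 | h7
  · rw [h7] at h6
    apply h3
    have : Nat.card M = 20 := by omega
    rw [this]
    norm_num
  · rw [h7] at h6
    omega

end

section

variable {F V : Type*} [Field F] [Finite F] [AddCommGroup V] [Module F V] [Finite V] {B : V →ₗ[F] V →ₗ[F] F}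

theorem two_le (X : Subgroup (Sp B)) (i : Sp B) (hX : ∀ g ∈ X, g * i = i * g ∨ g * i = negOne B * (i * g)) :
    Nat.card X ≤ 2 * Nat.card (X ⊓ centralizer ({i} : Set (Sp B)) : Subgroup (Sp B)) := by
  classical
  by_cases hall : X ≤ centralizer ({i} : Set (Sp B))
  · rw [inf_eq_left.2 hall]
    omega
  obtain ⟨r, hr, hr'⟩ := Set.not_subset.1 hall
  have hr2 : r * i = negOne B * (i * r) := by
    rcases hX r hr with h | h
    · exact absurd (mem_centralizer_singleton_iff.2 h) hr'
    · exact h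
  have hri : r⁻¹ * i = negOne B * (i * r⁻¹) := by
    have h1 : i = r⁻¹ * (negOne B * (i * r)) := by rw [← hr2, inv_mul_cancel_left]
    calc r⁻¹ * i = r⁻¹ * ((negOne B * negOne B) * i) * (r * r⁻¹) := by rw [negOne_mul_self, one_mul, mul_inv_cancel, mul_one]
      _ = r⁻¹ * negOne B * (negOne B * (i * r)) * r⁻¹ := by group
      _ = negOne B * r⁻¹ * (negOne B * (i * r)) * r⁻¹ := by rw [← negOne_comm r⁻¹]
      _ = negOne B * (r⁻¹ * (negOne B * (i * r))) * r⁻¹ := by group
      _ = negOne B * (i * r⁻¹) := by rw [← h1, mul_assoc]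
  let f : X → (X ⊓ centralizer ({i} : Set (Sp B)) : Subgroup (Sp B)) × Bool := fun g =>
    if h : (g : Sp B) ∈ centralizer ({i} : Set (Sp B)) then (⟨g, g.2, h⟩, true)
    else (⟨(g : Sp B) * r⁻¹, X.mul_mem g.2 (X.inv_mem hr), by
      have h1 : (g : Sp B) * i = negOne B * (i * g) := by
        rcases hX g g.2 with h' | h'
        · exact absurd (mem_centralizer_singleton_iff.2 h') h
        · exact h'
      show _ ∈ centralizer ({i} : Set (Sp B))
      rw [mem_centralizer_singleton_iff]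
      calc (g : Sp B) * r⁻¹ * i = g * (r⁻¹ * i) := by group
        _ = (g * negOne B) * (i * r⁻¹) := by rw [hri]; group
        _ = negOne B * (g * i) * r⁻¹ := by rw [← negOne_comm]; group
        _ = (negOne B * negOne B) * (i * (g * r⁻¹)) := by rw [h1]; group
        _ = _ := by rw [negOne_mul_self, one_mul]⟩, false)
  have hf : Function.Injective f := by
    intro g g' he
    by_cases h1 : (g : Sp B) ∈ centralizer ({i} : Set (Sp B))
    · by_cases h2 : (g' : Sp B) ∈ centralizer ({i} : Set (Sp B))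
      · simp only [f, dif_pos h1, dif_pos h2, Prod.mk.injEq, Subtype.mk.injEq, and_true] at he
        apply Subtype.ext
        exact congrArg (fun x : (X ⊓ centralizer ({i} : Set (Sp B)) : Subgroup (Sp B)) => (x : Sp B)) he
      · simp only [f, h1, h2, ↓ _root_.reduceDIte, _root_.Prod.mk.injEq, _root_.Bool.true_eq_false, _root_.and_false] at he
    · by_cases h2 : (g' : Sp B) ∈ centralizer ({i} : Set (Sp B))
      · simp only [f, h1, h2, ↓ _root_.reduceDIte, _root_.Prod.mk.injEq, _root_.Bool.false_eq_true, _root_.and_false] at he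
      · simp only [f, dif_neg h1, dif_neg h2, Prod.mk.injEq, Subtype.mk.injEq, and_true] at he
        exact Subtype.ext (mul_right_cancel (congrArg Subtype.val he))
  have h3 := Nat.card_le_card_of_injective f hf
  rw [Nat.card_prod, Nat.card_eq_fintype_card (α := Bool), Fintype.card_bool] at h3
  omega

end

/-- **Rank at least two.** -/
theorem caseB2 : CaseB2 := by
  intro F V T _ _ _ _ _ _ _ _ B π C A Γ hIF hno s t hs ht hos hot hst hne
  classical
  obtain ⟨i, hi, rfl⟩ : ∃ i : Sp B, i * i = negOne B ∧ π i = s := by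
    rcases C.inv_type hos with ⟨v, v', h1, h2⟩ | h
    · exact absurd (by rw [h2]; exact hs) (hno v v' h1)
    · exact h
  obtain ⟨j, hj, rfl⟩ : ∃ j : Sp B, j * j = negOne B ∧ π j = t := by
    rcases C.inv_type hot with ⟨v, v', h1, h2⟩ | h
    · exact absurd (by rw [h2]; exact ht) (hno v v' h1)
    · exact h
  have hij := C.anti_lifts hi hj hne hst (fun v v' hv he => hno v v' hv (by rw [he]; exact A.mul_mem hs ht))
  obtain ⟨v, v', P⟩ := exists_Pair C.hB C.h2 C.hV hj
  have hq3 : 3 ≤ Nat.card F := by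
    have h1 : 1 < Nat.card F := Finite.one_lt_card
    by_contra hcon
    have h3 : Nat.card F = 2 := by omega
    apply C.h2
    have := Fintype.ofFinite F
    have h4 := FiniteField.cast_card_eq_zero F
    rw [← Nat.card_eq_fintype_card, h3] at h4
    exact_mod_cast h4
  -- the intersection with `SL₂`
  set M := (A.comap π).comap (lam C.hB P) with hM
  have hlneg : lam C.hB P (-1) = negOne B := by
    rw [lam_apply, sl_neg_one, sl_neg_one, inv2_eq C.hB C.hV P.h P.hj P.h1 P.h2 P.h3 P.h4]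
    calc negOne B * inv2 B v v' * (negOne B * (negOne B * inv2 B v v'))
        = negOne B * inv2 B v v' * ((negOne B * negOne B) * inv2 B v v') := by group
      _ = negOne B * (inv2 B v v' * inv2 B v v') := by rw [negOne_mul_self, one_mul, mul_assoc]
      _ = _ := by rw [inv2_mul_self C.hB P.h, mul_one]
  have hneg : (-1 : Matrix.SpecialLinearGroup (Fin 2) F) ∈ M := by
    rw [hM, mem_comap, mem_comap, hlneg, C.neg]
    exact A.one_mem
  have hM4 : ∀ m ∈ M, m * m ≠ -1 := by
    intro m hm hmm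
    have hml : lam C.hB P m * lam C.hB P m = negOne B := by rw [← map_mul, hmm, hlneg]
    set g := lam C.hB P m * j with hg
    have hgg : g * g = 1 := by
      calc g * g = lam C.hB P m * (j * lam C.hB P m) * j := by rw [hg]; group
        _ = (lam C.hB P m * lam C.hB P m) * (j * j) := by rw [lam_comm C.hB hj P]; group
        _ = 1 := by rw [hml, hj, negOne_mul_self]
    have hcoef : ∀ c : F, g • v ≠ c • v := by
      intro c hc
      have e1 : g • v = j • (m 0 0 • v + m 1 0 • v') := by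
        rw [← lam_v C.hB P, ← mul_smul, lam_comm C.hB hj P]
      rw [e1] at hc
      have e2 := congrArg (fun x => B x (j • v')) hc
      have e3 := congrArg (fun x => B (j • v) x) hc
      simp only [smul_add', smul_fsmul, map_add, LinearMap.map_smul, LinearMap.add_apply, LinearMap.smul_apply,
        C.hB.alt, P.hj, P.h2, orth_symm C.hB P.h1, smul_eq_mul, mul_one, mul_zero, add_zero, zero_add] at e2 e3
      have hd := det_eq m
      rw [e2, e3] at hd
      norm_num at hd
    obtain ⟨x, x', hx, hxe⟩ := exists_inv2 C.hB C.h2 C.hV hgg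
      (fun h => hcoef 1 (by rw [h, one_smul, one_smul]))
      (fun h => hcoef (-1) (by rw [h, negOne_smul, neg_one_smul]))
    apply hno x x' hx
    rw [hxe, hg, map_mul]
    exact A.mul_mem hm ht
  have hidx := odd_index C.h2 M hneg hM4
  -- `f ≥ |K : K ∩ A|`
  have hfx : M.index ≤ fx A (MulAut.conj (π j)) := by
    have h1 := (Cfsg.Agent.H999.IFB.IF.E1 hIF ((hIF.conj (π j)).2 ht)
      (by rw [Cfsg.Agent.H999.IFB.orderOf_conj C.hna, hot]) (B := (lam C.hB P).range.map π) (by
        rintro _ ⟨_, ⟨k, rfl⟩, rfl⟩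
        rw [MulAut.conj_apply, mul_inv_eq_iff_eq_mul, ← map_mul, ← map_mul, lam_comm C.hB hj P])).1
    rw [hM, Subgroup.index_comap, relIndex_comap]
    exact h1
  -- (E4)
  obtain ⟨-, -, h4, -⟩ := Cfsg.Agent.H809.IFC.IF.E4 hIF C.hna hs ht hos hot hne hst
  set Cs := centralizer ({π i} : Set T) with hCs
  set Ct := centralizer ({π j} : Set T) with hCt
  have k1 : Cs.relIndex Ct * Nat.card (Cs ⊓ Ct : Subgroup T) = Nat.card Ct := by
    have h5 := relIndex_mul_relIndex (⊥ : Subgroup T) (Cs ⊓ Ct) Ct bot_le inf_le_right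
    rw [relIndex_bot_left, relIndex_bot_left, inf_relIndex_right] at h5
    rw [mul_comm]
    exact h5
  have k2 := Cs.index_mul_card
  have k3 : Nat.card (Cs ⊓ Ct : Subgroup T) ≤ 4 * (Nat.card F + 1) := by
    have h5 := C.card_comap (Cs ⊓ Ct)
    set X := (Cs ⊓ Ct).comap π with hX
    have hXs : ∀ (l : Sp B), (∀ g ∈ X, π g * π l = π l * π g) → ∀ g ∈ X, g * l = l * g ∨ g * l = negOne B * (l * g) := by
      intro l hl g hg
      have := hl g hg
      rw [← map_mul, ← map_mul] at this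
      exact C.eq_iff.1 this
    have h6 := two_le X i (hXs i fun g hg => mem_centralizer_singleton_iff.1 (mem_inf.1 (mem_comap.1 hg)).1)
    have h7 := two_le (X ⊓ centralizer ({i} : Set (Sp B))) j (fun g hg => hXs j
      (fun g hg => mem_centralizer_singleton_iff.1 (mem_inf.1 (mem_comap.1 hg)).2) g (mem_inf.1 hg).1)
    have h8 : Nat.card (X ⊓ centralizer ({i} : Set (Sp B)) ⊓ centralizer ({j} : Set (Sp B)) : Subgroup (Sp B)) ≤
        Nat.card (centralizer ({i} : Set (Sp B)) ⊓ centralizer ({j} : Set (Sp B)) : Subgroup (Sp B)) :=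
      Subgroup.card_le_of_le (inf_le_inf_right _ inf_le_right)
    have h9 := card_quat C.hB C.h2 C.hV hi hj hij
    omega
  have k4 := C.card_centralizer_j hi
  have k5 := C.card_centralizer_j hj
  have k6 := C.card_T
  rw [C.card] at k6
  set q := Nat.card F with hqd
  set N := Nat.card (Circ F) with hNd
  set m := q * (q ^ 2 - 1) * N with hmd
  have hpos : 0 < Nat.card Cs * Nat.card (Cs ⊓ Ct : Subgroup T) := Nat.mul_pos Nat.card_pos Nat.card_pos
  have main : M.index ^ 4 * (m * m) < 8 * (q + 1) * (q ^ 4 * ((q ^ 2 - 1) * (q ^ 4 - 1))) := by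
    calc M.index ^ 4 * (m * m) ≤ M.index ^ 4 * ((2 * Nat.card Cs) * (2 * Nat.card Ct)) :=
          Nat.mul_le_mul_left _ (Nat.mul_le_mul k4 k5)
      _ = 4 * ((M.index ^ 4 * Cs.relIndex Ct) * (Nat.card Cs * Nat.card (Cs ⊓ Ct : Subgroup T))) := by
          rw [← k1]; ring
      _ ≤ 4 * ((fx A (MulAut.conj (π j)) ^ 4 * Cs.relIndex Ct) * (Nat.card Cs * Nat.card (Cs ⊓ Ct : Subgroup T))) :=
          Nat.mul_le_mul_left _ (Nat.mul_le_mul_right _ (Nat.mul_le_mul_right _ (Nat.pow_le_pow_left hfx 4)))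
      _ < 4 * (Cs.index * (Nat.card Cs * Nat.card (Cs ⊓ Ct : Subgroup T))) :=
          Nat.mul_lt_mul_of_pos_left (Nat.mul_lt_mul_of_pos_right h4 hpos) (by norm_num)
      _ = 4 * Nat.card T * Nat.card (Cs ⊓ Ct : Subgroup T) := by rw [← k2]; ring
      _ ≤ 4 * Nat.card T * (4 * (q + 1)) := Nat.mul_le_mul_left _ k3
      _ = 8 * (q + 1) * (2 * Nat.card T) := by ring
      _ = _ := by rw [← k6]
  have main2 := arith0 hq3 main
  by_cases hsq : ∀ x : F, x ^ 2 + 1 ≠ 0
  · exact arith1 hq3 hidx (circle_ge' C.h2 hsq) main2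
  · push Not at hsq
    obtain ⟨x, hx⟩ := hsq
    have hN := circle_ge C.h2
    have hq9 : 9 ≤ q ∨ q = 5 := by
      have := Fintype.ofFinite F
      have h5 : IsSquare (-1 : F) := ⟨x, by linear_combination -hx⟩
      have h6 := FiniteField.isSquare_neg_one_iff.1 h5
      rw [← Nat.card_eq_fintype_card, ← hqd] at h6
      have hodd : q % 2 = 1 := by
        rcases Nat.mod_two_eq_zero_or_one q with h | h
        · exfalso
          apply C.h2
          rw [hqd, Nat.card_eq_fintype_card] at h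
          have h3 : ringChar F = 2 := FiniteField.even_card_iff_char_two.2 h
          have := ringChar.Nat.cast_ringChar (R := F)
          rw [h3] at this
          exact_mod_cast this
        · exact h
      (clear * - hq3 h6 hodd; omega)
    rcases hq9 with h9 | h9
    · exact arith2 h9 hidx hN main2
    · have h8 := odd_index5 C.h2 h9 M hneg hM4
      rw [h9] at main2
      exact arith3 h8 (by have := hN; omega) main2

end Cfsg.Agent.H804.P4
end

-- part: H580/IF/Semi
section
/-!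
# S5719, `PSp_4(q)`, `q` odd: the concrete setting; automorphisms are semilinear (helper580)

* `pi2 F : Sp (sympBilin 2 F) →* PSp 2 F`, `ctx_pi2 : Ctx (pi2 F)`;
* `semiAut_pi2`.
-/

set_option autoImplicit false
set_option linter.unusedSectionVars false

namespace Cfsg.Agent.H580.Fx

open MulAction Subgroup Module Cfsg Cfsg.Agent.H74.Psp Cfsg.Agent.H209.Fxy
open Cfsg.Agent.ClassicalGeometry.SympBasic Cfsg.Agent.ClassicalGeometry.SympAutSemi
open Cfsg.Agent.ClassicalGeometry.SympGamma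

variable (F : Type) [Field F]

/-- `symplecticGroup ≃* Sp` -/
noncomputable def eqT : Matrix.symplecticGroup (Fin 2) F ≃* Sp (sympBilin 2 F) :=
  MulEquiv.ofBijective (toSp 2) (toSp_bijective 2)

/-- `Sp → PSp` -/
noncomputable def pi2 : Sp (sympBilin 2 F) →* PSp 2 F :=
  (QuotientGroup.mk' (Subgroup.center (Matrix.symplecticGroup (Fin 2) F))).comp (eqT F).symm.toMonoidHom

variable {F}

theorem pi2_toSp (A : Matrix.symplecticGroup (Fin 2) F) : pi2 F (toSp 2 A) = (QuotientGroup.mk A : PSp 2 F) := by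
  change (QuotientGroup.mk ((eqT F).symm (eqT F A)) : PSp 2 F) = _
  rw [MulEquiv.symm_apply_apply]

theorem semiAut_of [Finite F] (h2 : (2 : F) ≠ 0) {π : Sp (sympBilin 2 F) →* PSp 2 F}
    (hπ : ∀ A : Matrix.symplecticGroup (Fin 2) F, π (toSp 2 A) = (QuotientGroup.mk A : PSp 2 F))
    (σ : MulAut (PSp 2 F)) : ∃ g : (Fin 2 ⊕ Fin 2 → F) ≃+ (Fin 2 ⊕ Fin 2 → F), ∀ h₀ : Sp (sympBilin 2 F),
      ∃ h₁ : Sp (sympBilin 2 F), (∀ v, h₁ • g v = g (h₀ • v)) ∧ σ (π h₀) = π h₁ := by
  obtain ⟨g, hg⟩ := ClassicalGeometry.SympAutExists.exists_semi (le_refl 2) σ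
    (ClassicalGeometry.SympAutOddA.recog (le_refl 2) (Or.inr h2) σ)
  obtain ⟨φ, c, hc, hs⟩ := id g.2
  refine ⟨{ g.1 with map_add' := hs.1 }, fun h₀ => ?_⟩
  obtain ⟨A, rfl⟩ := (toSp_bijective (F := F) 2).2 h₀
  refine ⟨toSp 2 (conjHom 2 F g A), fun v => ?_, ?_⟩
  · have h3 := rho_conjHom g A
    have h4 := DFunLike.congr_fun h3 (g.1 v)
    rw [Equiv.Perm.mul_apply, Equiv.Perm.mul_apply, perm_inv_apply_self] at h4
    exact h4
  · rw [hπ, hπ, ← hg]
    rfl

theorem semiAut_pi2 [Finite F] (h2 : (2 : F) ≠ 0) (σ : MulAut (PSp 2 F)) :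
    ∃ g : (Fin 2 ⊕ Fin 2 → F) ≃+ (Fin 2 ⊕ Fin 2 → F), ∀ h₀ : Sp (sympBilin 2 F),
      ∃ h₁ : Sp (sympBilin 2 F), (∀ v, h₁ • g v = g (h₀ • v)) ∧ σ (pi2 F h₀) = pi2 F h₁ :=
  semiAut_of h2 pi2_toSp σ

theorem toSp_neg_one {A : Matrix.symplecticGroup (Fin 2) F}
    (h : (A : Matrix (Fin 2 ⊕ Fin 2) (Fin 2 ⊕ Fin 2) F) = -1) : toSp (F := F) 2 A = negOne (sympBilin 2 F) := by
  apply Sp.ext'
  intro x
  rw [toSp_smul, negOne_smul, h, Matrix.neg_mulVec, Matrix.one_mulVec]

/-- **the setting for `PSp_4(q)`, `q` odd** -/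
theorem ctx_pi2 [Finite F] (h2 : (2 : F) ≠ 0) : H804.P4.Ctx (pi2 F) := by
  have := Fintype.ofFinite F
  have hq : Nat.card F = Fintype.card F := Nat.card_eq_fintype_card
  refine ⟨symp_sympBilin 2, ?_, h2, ?_, ?_, ?_, ?_⟩
  · rw [Nat.card_fun, Nat.card_sum, Nat.card_fin]
  · intro y
    induction y using QuotientGroup.induction_on with
    | H A => exact ⟨toSp 2 A, pi2_toSp A⟩
  · obtain ⟨A, hA⟩ := (toSp_bijective (F := F) 2).2 (negOne (sympBilin 2 F))
    rw [← hA, pi2_toSp, QuotientGroup.eq_one_iff, Subgroup.mem_center_iff]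
    intro g
    apply (toSp_bijective (F := F) 2).1
    rw [map_mul, map_mul, hA]
    apply Sp.ext'
    intro x
    rw [mul_smul, mul_smul, negOne_smul, negOne_smul]
    exact map_neg ((toSp 2 g : Sp (sympBilin 2 F)) : (Fin 2 ⊕ Fin 2 → F) ≃ₗ[F] (Fin 2 ⊕ Fin 2 → F)) x
  · intro g hg
    obtain ⟨A, rfl⟩ := (toSp_bijective (F := F) 2).2 g
    rw [pi2_toSp, QuotientGroup.eq_one_iff] at hg
    rcases ClassicalGeometry.SympInvolutions.center_eq hg with h | h
    · left
      have h3 : A = 1 := Subtype.ext h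
      rw [h3, map_one]
    · right
      exact toSp_neg_one h
  · rw [← Nat.card_congr (eqT F).toEquiv, LieClassical.SympCount.card_symplecticGroup, hq, Finset.prod_range_succ,
      Finset.prod_range_one]
    norm_num only []

end Cfsg.Agent.H580.Fx
end

-- part: H804/IF/P4Main
section
/-!
# S5719, the cell `PSp_4(q)` (helper804, helper172, helper580)

`psp4_odd`, and `psp4 : CellsPSp.two`.
-/

set_option autoImplicit false
set_option linter.unusedSectionVars false

namespace Cfsg.Agent.H804.P4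

open Subgroup Cfsg Cfsg.Agent.H74.Psp Cfsg.Agent.H209.Fxy Cfsg.Agent.ClassicalGeometry.SympBasic

/-- **`PSp_4(q)`, `q` odd.** -/
theorem psp4_odd (F : Type) [Field F] [Finite F] (h2 : (2 : F) ≠ 0) (hs : IsSimpleGroup (PSp 2 F)) :
    KillE (PSp 2 F) := by
  have : Finite (PSp 2 F) := Quotient.finite _
  intro A Γ h hex
  obtain ⟨t, ht, ho⟩ := hex
  have C := Cfsg.Agent.H580.Fx.ctx_pi2 (F := F) h2
  by_cases hno : ∀ v v' : Fin 2 ⊕ Fin 2 → F, (sympBilin 2 F) v v' = 1 →
      Cfsg.Agent.H580.Fx.pi2 F (inv2 (sympBilin 2 F) v v') ∉ A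
  · by_cases hr : ∀ s ∈ A, ∀ t ∈ A, orderOf s = 2 → orderOf t = 2 → s * t = t * s → s = t
    · exact Cfsg.Agent.H172.IF.caseB1 C (fun σ => Cfsg.Agent.H580.Fx.semiAut_pi2 h2 σ)
        (fun j hj => C.hcen hj) h hno hr ht ho
    · push Not at hr
      obtain ⟨s, hs', t', ht', ho1, ho2, hc, hne⟩ := hr
      exact caseB2 C h hno s t' hs' ht' ho1 ho2 hc hne
  · push Not at hno
    obtain ⟨v, v', hv, hm⟩ := hno
    exact caseA C h v v' hv hm

/-- **The cell `CellsPSp.two`.** -/
theorem psp4 : ∀ (F : Type) [Field F] [Fintype F], 3 ≤ Fintype.card F → IsSimpleGroup (PSp 2 F) →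
    KillE (PSp 2 F) := by
  intro F _ _ h3 hs
  rcases Nat.even_or_odd (Fintype.card F) with he | ho
  · exact Cfsg.Agent.H580.Fx.psp4_even F h3 he hs
  · refine psp4_odd F ?_ hs
    intro h2
    have h4 : ringChar F = 2 := by
      have h5 : ringChar F ∣ 2 := (ringChar.spec F 2).1 (by exact_mod_cast h2)
      have h6 : ringChar F ≠ 1 := CharP.ringChar_ne_one
      exact (Nat.prime_two.eq_one_or_self_of_dvd _ h5).resolve_left h6
    have h5 := FiniteField.even_card_iff_char_two.1 h4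
    obtain ⟨k, hk⟩ := ho
    omega

end Cfsg.Agent.H804.P4
end

private theorem dce_f86a2015ab35 : _root_.True := by
  try have : _root_.True := by simp only [_root_.Cfsg.Agent.H804.P4.rot.congr_simp]
  try have : _root_.True := by simp only [_root_.Cfsg.Agent.H804.P4.En.eq_1]
  try have : _root_.True := by simp only [_root_.Cfsg.Agent.H804.P4.lam.congr_simp]
  try have : _root_.True := by simp only [_root_.Cfsg.Agent.H804.P4.sl.congr_simp]
  try have : _root_.True := by simp only [_root_.Cfsg.Agent.H804.P4.slfun.eq_1]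
  exact _root_.True.intro
end

-- part: H574/IFO/Frame
section
prune_inst 0x141041000c2202000018059071201c42fe0000b2004b000081400a4006c06c4000800e61b4f0011402a008456031006813000080420800000a000400011d0080008000009008010022000e000080000000000000000000000000000000000000000000000
set_option linter.all false
open scoped Cfsg.Agent.FastGrp

-- part: H574/IFO/Swap
section
/-!
# S5719, `PSU`, `|A|` odd: the isometries `1 + a - a* - a*a - aa*` (helper574)

`a² = 0`, `a a* a = a` : `sw a a* = (1 - a*)(1 + a)(1 - a*)` is an isometry of determinant 1 with `(sw a a*)^4 = 1`,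
not a scalar if `a ≠ 0`.
-/

set_option autoImplicit false
set_option linter.unusedSimpArgs false

universe u v

namespace Cfsg.Agent.H574.IFO

open Module Cfsg.Agent.H198.FC

section ring

variable {A : Type*} [Ring A]

/-- the swap element -/
def sw (a a' : A) : A := 1 + a - a' - a' * a - a * a'

/-- `a² = a'² = 0`, `a a' a = a`, `a' a a' = a'` -/
structure Pi (a a' : A) : Prop where
  h1 : a * a = 0
  h2 : a' * a' = 0
  h3 : a * a' * a = a
  h4 : a' * a * a' = a'

namespace Pi

variable {a a' : A} (h : Pi a a')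

include h

theorem symm : Pi a' a := ⟨h.h2, h.h1, h.h4, h.h3⟩

theorem h1' (x : A) : a * (a * x) = 0 := by rw [← mul_assoc, h.h1, zero_mul]

theorem h2' (x : A) : a' * (a' * x) = 0 := by rw [← mul_assoc, h.h2, zero_mul]

theorem h3a : a * (a' * a) = a := by rw [← mul_assoc, h.h3]

theorem h4a : a' * (a * a') = a' := by rw [← mul_assoc, h.h4]

theorem h3' (x : A) : a * (a' * (a * x)) = a * x := by rw [← mul_assoc, ← mul_assoc, h.h3]

theorem h4' (x : A) : a' * (a * (a' * x)) = a' * x := by rw [← mul_assoc, ← mul_assoc, h.h4]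

theorem sw_eq : sw a a' = (1 - a') * (1 + a) * (1 - a') := by
  simp only [sw, mul_add, add_mul, mul_sub, sub_mul, mul_one, one_mul, mul_assoc, h.h1, h.h2, h.h3a, h.h4a]
  abel

theorem sw_mul_sw : sw a a' * sw a' a = 1 := by
  simp only [sw, mul_add, add_mul, mul_sub, sub_mul, mul_one, one_mul, mul_assoc, h.h1, h.h2, h.h3a, h.h4a, h.h1',
    h.h2', h.h3', h.h4', mul_zero, zero_mul]
  abel

theorem sw_sq : sw a a' * sw a a' = 1 - 2 * (a' * a + a * a') := by
  simp only [sw, mul_add, add_mul, mul_sub, sub_mul, mul_one, one_mul, mul_assoc, h.h1, h.h2, h.h3a, h.h4a, h.h1',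
    h.h2', h.h3', h.h4', mul_zero, zero_mul, two_mul]
  abel

theorem sw_four : sw a a' * sw a a' * (sw a a' * sw a a') = 1 := by
  rw [h.sw_sq]
  simp only [mul_add, add_mul, mul_sub, sub_mul, mul_one, one_mul, mul_assoc, h.h1, h.h2, h.h3a, h.h4a, h.h1',
    h.h2', h.h3', h.h4', mul_zero, zero_mul, two_mul]
  abel

theorem ne_of_comm (hc : sw a a' * a = a * sw a a') : a = 0 := by
  have e1 : sw a a' * a = - (a' * a) := by
    simp only [sw, mul_add, add_mul, mul_sub, sub_mul, mul_one, one_mul, mul_assoc, h.h1, h.h2, h.h3a, h.h4a, h.h1',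
      h.h2', h.h3', h.h4', mul_zero, zero_mul]
    abel
  have e2 : a * sw a a' = - (a * a') := by
    simp only [sw, mul_add, add_mul, mul_sub, sub_mul, mul_one, one_mul, mul_assoc, h.h1, h.h2, h.h3a, h.h4a, h.h1',
      h.h2', h.h3', h.h4', mul_zero, zero_mul]
    abel
  rw [e1, e2, neg_inj] at hc
  have e3 : a = a * (a' * a) := h.h3a.symm
  rw [hc, h.h1'] at e3
  exact e3

end Pi

end ring

section form

variable {K : Type u} [Field K] {V : Type v} [AddCommGroup V] [Module K V] {b : Cl K V}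

theorem adj_one : b.Adj 1 1 := fun _ _ => rfl

theorem adj_neg {X Y : R K V} (h : b.Adj X Y) : b.Adj (-X) (-Y) := by
  intro v w
  have e1 : b.B ((-X : R K V) v) w = - b.B (X v) w := by
    have := b.smul_left (-1) (X v) w
    rwa [neg_one_smul, neg_one_mul] at this
  have e2 : b.B v ((-Y : R K V) w) = - b.B v (Y w) := by
    have := b.smul_right (-1) v (Y w)
    rwa [neg_one_smul, map_neg, map_one, neg_one_mul] at this
  rw [e1, e2, h]

theorem adj_sub {X Y X' Y' : R K V} (h : b.Adj X Y) (h' : b.Adj X' Y') : b.Adj (X - X') (Y - Y') := by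
  rw [sub_eq_add_neg, sub_eq_add_neg]
  exact H886.FC.adj_add b h (adj_neg h')

theorem adj_zero : b.Adj 0 0 := by
  intro v w
  rw [LinearMap.zero_apply, LinearMap.zero_apply, H886.FC.B_zero_left, H886.FC.B_zero_right]

/-- `X* X = 1` -/
theorem isom_of_adj {X Y : R K V} (h : b.Adj X Y) (hXY : Y * X = 1) : b.Isom X := by
  intro v w
  rw [h, ← Module.End.mul_apply, hXY, Module.End.one_apply]

theorem pi_of_adj {a a' : R K V} (h : b.Adj a a') (h1 : a * a = 0) (h3 : a * a' * a = a) : Pi a a' where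
  h1 := h1
  h2 := by
    have e := H886.FC.adj_mul b h h
    rw [h1] at e
    exact (H886.FC.adj_unique b e adj_zero)
  h3 := h3
  h4 := by
    have h' := H886.FC.adj_symm b h
    have e := H886.FC.adj_mul b (H886.FC.adj_mul b h h') h
    rw [h3] at e
    have e2 := H886.FC.adj_unique b e h
    rwa [← mul_assoc] at e2

theorem adj_sw {a a' : R K V} (h : b.Adj a a') : b.Adj (sw a a') (sw a' a) := by
  have h' := H886.FC.adj_symm b h
  have e1 := H886.FC.adj_mul b h' h
  have e2 := H886.FC.adj_mul b h h'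
  have e := adj_sub (adj_sub (adj_sub (H886.FC.adj_add b adj_one h) h') e1) e2
  have e4 : sw a' a = 1 + a' - a - a' * a - a * a' := by
    rw [sw]
    abel
  rw [sw, e4]
  exact e

theorem isom_sw {a a' : R K V} (h : b.Adj a a') (hp : Pi a a') : b.Isom (sw a a') :=
  isom_of_adj (adj_sw h) hp.symm.sw_mul_sw

theorem det_sw [Finite K] [Module.Finite K V] {a a' : R K V} (hp : Pi a a') : LinearMap.det (sw a a') = 1 := by
  have e1 : LinearMap.det (1 + a) = 1 := H567.FC.det_one_add hp.h1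
  have e2 : LinearMap.det (1 - a') = 1 := by
    rw [sub_eq_add_neg]
    apply H567.FC.det_one_add
    rw [neg_mul_neg, hp.h2]
  rw [hp.sw_eq, map_mul, map_mul, e1, e2, mul_one, mul_one]

end form

end Cfsg.Agent.H574.IFO
end

-- part: H602/FC/AutU
section
/-!
# S5764, B-AUTU (helper602): from `ThmB` to `Aut(PSU_n(q))`

`HU` : the subgroup of `Perm (End V) × Aut(PSU_n(q))`, `V = Fⁿ`, of the pairs (ring automorphism of `End V` commuting with
the adjoint, the induced automorphism of `PSU_n(q)`); both projections are injective, the second one is onto.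
`stmtAutU : ThmB → StmtAutU`.
-/

set_option autoImplicit false
set_option linter.unusedSectionVars false

namespace Cfsg.Agent.H602.FC

open Matrix Cfsg.Agent.H198.FC Cfsg.Agent.LieClassical.HermBasic Cfsg.Agent.LieClassical.HermSiegel
  Cfsg.Agent.ClassicalGeometry.PSUAutCount Cfsg.Agent.Schreier.PSU
open Cfsg.Agent.ClassicalGeometry.UnitAutBasic (pr pr_surjective)

section

variable {n : ℕ} {F : Type} [Field F] {q : ℕ}

/-- conjugation by an isometry commutes with the adjoint -/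
theorem adj_cj {K : Type*} [Field K] {W : Type*} [AddCommGroup W] [Module K W] (b : Cl K W) {x : (R K W)ˣ}
    (hx : b.Isom x) (X Y : R K W) : b.Adj X Y ↔ b.Adj (H198.FC.cj K W x X) (H198.FC.cj K W x Y) := by
  have e1 : ∀ v, (x : R K W) (((x⁻¹ : (R K W)ˣ) : R K W) v) = v := fun v => by
    rw [← Module.End.mul_apply, ← Units.val_mul, mul_inv_cancel, Units.val_one, Module.End.one_apply]
  have e2 : ∀ v, ((x⁻¹ : (R K W)ˣ) : R K W) ((x : R K W) v) = v := fun v => by
    rw [← Module.End.mul_apply, ← Units.val_mul, inv_mul_cancel, Units.val_one, Module.End.one_apply]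
  constructor
  · intro h v w
    rw [cj_apply, cj_apply]
    show b.B ((x : R K W) (X (((x⁻¹ : (R K W)ˣ) : R K W) v))) w = b.B v ((x : R K W) (Y (((x⁻¹ : (R K W)ˣ) : R K W) w)))
    conv_lhs => rw [← e1 w]
    conv_rhs => rw [← e1 v]
    rw [hx, hx, h]
  · intro h v w
    have h1 := h ((x : R K W) v) ((x : R K W) w)
    rw [cj_apply, cj_apply] at h1
    change b.B ((x : R K W) (X (((x⁻¹ : (R K W)ˣ) : R K W) ((x : R K W) v)))) ((x : R K W) w) =
      b.B ((x : R K W) v) ((x : R K W) (Y (((x⁻¹ : (R K W)ˣ) : R K W) ((x : R K W) w)))) at h1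
    rwa [e2, e2, hx, hx] at h1

/-- `fm σ` on vectors -/
theorem fm_apply (σ : F ≃+* F) (X : R F (V n F)) (v : V n F) :
    fm n F σ X (fun i => σ (v i)) = fun i => σ (X v i) := by
  obtain ⟨M, rfl⟩ := (E n F).surjective X
  rw [fm_E]
  show (M.map σ) *ᵥ (fun i => σ (v i)) = fun i => σ ((M *ᵥ v) i)
  funext i
  simp only [Matrix.mulVec, dotProduct, _root_.Matrix.map_apply, _root_.map_sum, _root_.map_mul]

end

section Fin

variable {n : ℕ} {F : Type} [Field F] [Fintype F] {q : ℕ} (hF : Fintype.card F = q ^ 2)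

variable (n) in
/-- the hermitian form -/
noncomputable def hb : Cl F (V n F) where
  τ := conj hF
  B := hermForm n F q
  add_left := herm_add_left
  add_right := herm_add_right hF
  smul_left := herm_smul_left
  smul_right a v w := herm_smul_right a v w
  nondeg _ h := herm_nondeg hF h
  invol a := pow_q_pow_q hF a
  typ := Or.inl ⟨exists_not_fixed hF, fun v w => herm_swap hF v w⟩

theorem hb_isU : (hb n hF).IsU := ⟨exists_not_fixed hF, fun v w => herm_swap hF v w⟩

theorem gu_isom (A : Cfsg.GU n F q) : (hb n hF).Isom (U n F (A : GL (Fin n) F)) := fun v w => herm_gm A v w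

theorem cj_mem_RB (A : Cfsg.GU n F q) : H198.FC.cj F (V n F) (U n F (A : GL (Fin n) F)) ∈ RB (hb n hF) :=
  ⟨cj_mem_RP _, adj_cj _ (gu_isom hF A)⟩

theorem fm_mem_RB (σ : F ≃+* F) : fm n F σ ∈ RB (hb n hF) := by
  refine ⟨fm_mem σ, fun X Y => ?_⟩
  have es : ∀ v : V n F, (fun i => σ ((fun j => σ.symm (v j)) i)) = v := fun v => by
    funext i
    simp
  constructor
  · intro h v w
    show hermForm n F q (fm n F σ X v) w = hermForm n F q v (fm n F σ Y w)
    rw [← es v, ← es w, fm_apply, fm_apply, herm_map, herm_map]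
    congr 1
    exact h _ _
  · intro h v w
    have h1 : hermForm n F q (fm n F σ X fun i => σ (v i)) (fun i => σ (w i)) =
        hermForm n F q (fun i => σ (v i)) (fm n F σ Y fun i => σ (w i)) := h _ _
    rw [fm_apply, fm_apply, herm_map, herm_map] at h1
    exact σ.injective h1

variable (n F q) in
/-- the pairs -/
abbrev GGU := Equiv.Perm (R F (V n F)) × MulAut (Cfsg.PSU n F q)

variable (n F q) in
/-- conjugations -/
noncomputable def AU : Cfsg.GU n F q →* GGU n F q :=
  ((H198.FC.cj F (V n F)).comp ((U n F).comp (Subgroup.subtype _))).prod f₁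

variable (n F q) in
/-- field automorphisms -/
noncomputable def BU : (F ≃+* F) →* GGU n F q := (fm n F).prod f₂

omit [Fintype F] in
theorem BAU (σ : F ≃+* F) (g : Cfsg.GU n F q) : BU n F q σ * AU n F q g = AU n F q (mapGU σ g) * BU n F q σ := by
  refine Prod.ext (perm_ext fun M => ?_) ?_
  · change fm n F σ (H198.FC.cj F (V n F) (U n F (g : GL (Fin n) F)) (E n F M)) =
      H198.FC.cj F (V n F) (U n F ((mapGU σ g : Cfsg.GU n F q) : GL (Fin n) F)) (fm n F σ (E n F M))
    have e : ((mapGU σ g : Cfsg.GU n F q) : GL (Fin n) F) = H199.PslAut.mapGL σ (g : GL (Fin n) F) := rfl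
    rw [e, cj_U, fm_E, fm_E, cj_U, ← map_inv, H199.PslAut.coe_mapGL, H199.PslAut.coe_mapGL]
    congr 1
    change (((g : GL (Fin n) F) : Matrix (Fin n) (Fin n) F) * M *
      (((g : GL (Fin n) F)⁻¹ : GL (Fin n) F) : Matrix (Fin n) (Fin n) F)).map (σ : F →+* F) =
      ((g : GL (Fin n) F) : Matrix (Fin n) (Fin n) F).map (σ : F →+* F) * M.map (σ : F →+* F) *
        (((g : GL (Fin n) F)⁻¹ : GL (Fin n) F) : Matrix (Fin n) (Fin n) F).map (σ : F →+* F)
    rw [Matrix.map_mul, Matrix.map_mul]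
  · change f₂ σ * f₁ g = f₁ (mapGU σ g) * f₂ σ
    rw [← conj_field, inv_mul_cancel_right]

variable (n F q) in
/-- the group of the pairs -/
noncomputable def HU : Subgroup (GGU n F q) where
  carrier := {p | ∃ g σ, p = AU n F q g * BU n F q σ}
  one_mem' := ⟨1, 1, by rw [map_one, map_one, one_mul]⟩
  mul_mem' := by
    rintro _ _ ⟨g, σ, rfl⟩ ⟨h, τ, rfl⟩
    refine ⟨g * mapGU σ h, σ * τ, ?_⟩
    rw [map_mul, map_mul]
    calc AU n F q g * BU n F q σ * (AU n F q h * BU n F q τ) =
        AU n F q g * (BU n F q σ * AU n F q h) * BU n F q τ := by simp only [mul_assoc]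
      _ = _ := by rw [BAU]; simp only [mul_assoc]
  inv_mem' := by
    rintro _ ⟨g, σ, rfl⟩
    refine ⟨mapGU σ⁻¹ g⁻¹, σ⁻¹, ?_⟩
    rw [_root_.mul_inv_rev, ← map_inv, ← map_inv, BAU]

omit [Fintype F] in
theorem AU_mem (g : Cfsg.GU n F q) : AU n F q g ∈ HU n F q := ⟨g, 1, by rw [map_one, mul_one]⟩

include hF in
/-- the second projection is injective -/
theorem eq_one_of_sndU (hn : 3 ≤ n) {p : GGU n F q} (hp : p ∈ HU n F q) (h : p.2 = 1) : p = 1 := by
  obtain ⟨g, σ, rfl⟩ := hp
  have h1 : toAut g σ = toAut (1 : Cfsg.GU n F q) 1 := by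
    rw [toAut_eq, toAut_eq, map_one, map_one, one_mul]
    exact h
  obtain ⟨h2, c, hc, h3⟩ := eq_of_toAut_eq hF hn h1
  subst h2
  rw [map_one, mul_one] at h ⊢
  refine Prod.ext (perm_ext fun M => ?_) h
  change H198.FC.cj F (V n F) (U n F (g : GL (Fin n) F)) (E n F M) = E n F M
  rw [cj_U]
  congr 1
  have h4 : ((1 : Cfsg.GU n F q) : GL (Fin n) F) = 1 := rfl
  have h5 : (1 : Matrix (Fin n) (Fin n) F) = c • ((g : GL (Fin n) F) : Matrix (Fin n) (Fin n) F) := h3
  have hc0 : c ≠ 0 := by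
    rintro rfl
    rw [zero_mul] at hc
    exact zero_ne_one hc
  have h6 : ((g : GL (Fin n) F) : Matrix (Fin n) (Fin n) F) = c⁻¹ • (1 : Matrix (Fin n) (Fin n) F) := by
    rw [h5, smul_smul, inv_mul_cancel₀ hc0, one_smul]
  have h7 : ((g : GL (Fin n) F) : Matrix (Fin n) (Fin n) F) *
      (((g : GL (Fin n) F)⁻¹ : GL (Fin n) F) : Matrix (Fin n) (Fin n) F) = 1 := by
    rw [← Units.val_mul, mul_inv_cancel, Units.val_one]
  have h8 : ((g : GL (Fin n) F) : Matrix (Fin n) (Fin n) F) * M = M * ((g : GL (Fin n) F) : Matrix (Fin n) (Fin n) F) := by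
    rw [h6, Matrix.smul_mul, Matrix.mul_smul, Matrix.one_mul, Matrix.mul_one]
  rw [h8, Matrix.mul_assoc, h7, Matrix.mul_one]

omit [Fintype F] in
/-- the first projection is injective -/
theorem eq_one_of_fstU {p : GGU n F q} (hp : p ∈ HU n F q) (h : p.1 = 1) : p = 1 := by
  obtain ⟨g, σ, rfl⟩ := hp
  have h1 : ∀ X : R F (V n F), H198.FC.cj F (V n F) (U n F (g : GL (Fin n) F)) (fm n F σ X) = X :=
    fun X => DFunLike.congr_fun h X
  have h2 : ∀ M : Matrix (Fin n) (Fin n) F, gm g * M.map σ * gm g⁻¹ = M := by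
    intro M
    have h3 := h1 (E n F M)
    rw [fm_E, cj_U] at h3
    exact (E n F).injective h3
  refine Prod.ext h (MulEquiv.ext fun x => ?_)
  obtain ⟨s, rfl⟩ := pr_surjective x
  change f₁ g (f₂ σ (pr n F q s)) = pr n F q s
  change toAut g 1 (toAut 1 σ (pr n F q s)) = pr n F q s
  rw [toAut_pr', toAut_pr']
  congr 1
  apply ext_act
  intro x
  rw [act_semiConj_one', act_semiConj_field']
  have h4 := h2 (mat s)
  have h5 : (mat s).map σ *ᵥ (gm g⁻¹ *ᵥ x) = fun i => σ (act s (fun j => σ.symm ((gm g⁻¹ *ᵥ x) j)) i) := by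
    have h6 := fm_apply σ (E n F (mat s)) (fun j => σ.symm ((gm g⁻¹ *ᵥ x) j))
    rw [fm_E] at h6
    have h7 : (fun i => σ ((fun j => σ.symm ((gm g⁻¹ *ᵥ x) j)) i)) = gm g⁻¹ *ᵥ x := by
      funext i
      simp
    rw [h7] at h6
    exact h6
  rw [← h5, mulVec_mulVec, mulVec_mulVec, h4]
  rfl

include hF in
/-- the second projection is onto -/
theorem exists_pairU (hn : 3 ≤ n) (h32 : ¬ (n = 3 ∧ q = 2)) (α : MulAut (Cfsg.PSU n F q)) : ∃ p ∈ HU n F q, p.2 = α := by
  obtain ⟨g, σ, rfl⟩ := ClassicalGeometry.PSUAutMain.exists_toAut hF hn h32 α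
  exact ⟨AU n F q g * BU n F q σ, ⟨g, σ, rfl⟩, (toAut_eq g σ).symm⟩

theorem fst_memU {p : GGU n F q} (hp : p ∈ HU n F q) : p.1 ∈ RB (hb n hF) := by
  obtain ⟨g, σ, rfl⟩ := hp
  exact mul_mem (cj_mem_RB hF g) (fm_mem_RB hF σ)

end Fin

end Cfsg.Agent.H602.FC
end

-- part: H574/IFO/Frame
section
/-!
# S5719, `PSU_n(q)`, `|A|` odd: the frame inside `Perm (End V)` (helper574)

`us s` the unit of `End V` of `s ∈ SU`, `SS Γ ≤ RB (hb n hF)` the group of the ring automorphisms of `End V` inducing elements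
of `Γ`.  `max_stab` : the principle of the maximality of `A`.
-/

set_option autoImplicit false
set_option linter.unusedSectionVars false

namespace Cfsg.Agent.H574.IFO

open Matrix Subgroup Cfsg.Agent.H198.FC Cfsg.Agent.LieClassical.HermBasic Cfsg.Agent.LieClassical.HermSiegel
  Cfsg.Agent.ClassicalGeometry.PSUAutCount Cfsg.Agent.Schreier.PSU Cfsg.Agent.H602.FC Cfsg.Agent.H209.Fxy
open Cfsg.Agent.ClassicalGeometry.UnitAutBasic (pr pr_surjective)

section sol

variable {T : Type*} [Group T] {A : Subgroup T} {Γ : Subgroup (MulAut T)}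

/-- `T` is not commutative -/
theorem not_comm [IsSimpleGroup T] (h : IF A Γ) : ∃ x y : T, x * y ≠ y * x := by
  by_contra hcon
  push Not at hcon
  have hn : A.Normal := ⟨fun a ha g => by rw [hcon g a, mul_assoc, mul_inv_cancel, mul_one]; exact ha⟩
  rcases hn.eq_bot_or_eq_top with h1 | h1
  · exact h.ne_bot h1
  · exact h.ne_top h1

theorem center_bot [IsSimpleGroup T] (h : IF A Γ) {x : T} (hx : ∀ y, x * y = y * x) : x = 1 := by
  have h1 : x ∈ Subgroup.center T := Subgroup.mem_center_iff.2 fun y => (hx y).symm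
  rcases (inferInstance : (Subgroup.center T).Normal).eq_bot_or_eq_top with h2 | h2
  · rwa [h2, Subgroup.mem_bot] at h1
  · exfalso
    obtain ⟨a, b, hab⟩ := not_comm h
    have h3 : b ∈ Subgroup.center T := by rw [h2]; exact Subgroup.mem_top b
    exact hab (Subgroup.mem_center_iff.1 h3 a)

/-- `Γ` is solvable -/
theorem solvable [Finite T] (hsch : Schreier.Basic.Sch T) (h : IF A Γ) (hodd : Odd (Nat.card A)) : Group.IsSolvable Γ := by
  have hA : Group.IsSolvable A := Cfsg.Agent.S0205.result hodd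
  have : Finite (MulAut T) := Finite.of_injective (fun f : MulAut T => (f : T → T)) DFunLike.coe_injective
  apply Schreier.Basic.isSolvable_of_perfect_eq_bot
  intro D hD hDD
  apply Schreier.Basic.eq_bot_of_perfect_of_solvable hDD
  have h1 := hsch D hDD
  have h2 : D ≤ A.map (MulAut.conj : T →* MulAut T) := by
    intro d hd
    obtain ⟨a, rfl⟩ := h1 hd
    exact ⟨a, (h.conj a).1 (hD hd), rfl⟩
  have h3 : Group.IsSolvable (A.map (MulAut.conj : T →* MulAut T)) :=
    Group.isSolvable_of_surjective (MonoidHom.subgroupMap_surjective (MulAut.conj : T →* MulAut T) A)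
  exact Group.isSolvable_of_isSolvable_injective (f := Subgroup.inclusion h2) (Subgroup.inclusion_injective h2)

end sol

section frame

variable {n : ℕ} {F : Type} [Field F] {q : ℕ}

/-- elements of `SU` as elements of `GU` -/
def gu : Cfsg.SU n F q →* Cfsg.GU n F q where
  toFun s := ⟨((s : Matrix.SpecialLinearGroup (Fin n) F) : GL (Fin n) F), fun u v => herm_act s u v⟩
  map_one' := by
    apply Subtype.ext
    apply Units.ext
    rfl
  map_mul' s t := by
    apply Subtype.ext
    apply Units.ext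
    change ((s * t : Cfsg.SU n F q) : Matrix.SpecialLinearGroup (Fin n) F).1 = _
    exact mat_mul s t

theorem gm_gu (s : Cfsg.SU n F q) : gm (gu s) = mat s := rfl

/-- the unit of `End V` -/
noncomputable def us : Cfsg.SU n F q →* (R F (V n F))ˣ := (U n F).comp ((Subgroup.subtype _).comp gu)

theorem coe_us (s : Cfsg.SU n F q) : ((us s : (R F (V n F))ˣ) : R F (V n F)) = E n F (mat s) := rfl

theorem us_apply (s : Cfsg.SU n F q) (v : V n F) : ((us s : (R F (V n F))ˣ) : R F (V n F)) v = act s v := rfl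

theorem us_inj : Function.Injective (us : Cfsg.SU n F q → (R F (V n F))ˣ) := by
  intro s t h
  apply mat_injective
  apply (E n F).injective
  rw [← coe_us, ← coe_us, h]

/-- conjugation by `s` -/
noncomputable abbrev cs (s : Cfsg.SU n F q) : Equiv.Perm (R F (V n F)) := H198.FC.cj F (V n F) (us s)

theorem pair_mem (s : Cfsg.SU n F q) : ((cs s, MulAut.conj (pr n F q s)) : GGU n F q) ∈ HU n F q := by
  have h : ((cs s, MulAut.conj (pr n F q s)) : GGU n F q) = AU n F q (gu s) :=
    Prod.ext rfl (f₁_eq_conj (gu s) s (gm_gu s)).symm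
  rw [h]
  exact AU_mem _

theorem eq_of_fst {f : Equiv.Perm (R F (V n F))} {σ τ : MulAut (Cfsg.PSU n F q)}
    (h : ((f, σ) : GGU n F q) ∈ HU n F q) (h' : ((f, τ) : GGU n F q) ∈ HU n F q) : σ = τ := by
  have h1 : ((f, σ) : GGU n F q)⁻¹ * (f, τ) ∈ HU n F q := mul_mem (inv_mem h) h'
  have h2 := eq_one_of_fstU h1 (by
    change f⁻¹ * f = 1
    exact inv_mul_cancel f)
  have h3 : σ⁻¹ * τ = 1 := congrArg Prod.snd h2
  exact (inv_mul_eq_one.1 h3)

variable [Fintype F] (hF : Fintype.card F = q ^ 2)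

include hF in
theorem eq_of_snd (hn : 3 ≤ n) {f g : Equiv.Perm (R F (V n F))} {σ : MulAut (Cfsg.PSU n F q)}
    (h : ((f, σ) : GGU n F q) ∈ HU n F q) (h' : ((g, σ) : GGU n F q) ∈ HU n F q) : f = g := by
  have h1 : ((f, σ) : GGU n F q)⁻¹ * (g, σ) ∈ HU n F q := mul_mem (inv_mem h) h'
  have h2 := eq_one_of_sndU hF hn h1 (by
    change σ⁻¹ * σ = 1
    exact inv_mul_cancel σ)
  have h3 : f⁻¹ * g = 1 := congrArg Prod.fst h2
  exact (inv_mul_eq_one.1 h3)

include hF in
/-- **conjugation by the elements of the frame** -/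
theorem conj_cs (hn : 3 ≤ n) {f : Equiv.Perm (R F (V n F))} {σ : MulAut (Cfsg.PSU n F q)}
    (h : ((f, σ) : GGU n F q) ∈ HU n F q) {s t : Cfsg.SU n F q} (ht : pr n F q t = σ (pr n F q s)) :
    f * cs s * f⁻¹ = cs t := by
  refine eq_of_snd hF hn (σ := MulAut.conj (pr n F q t)) ?_ (pair_mem t)
  have h1 : ((f, σ) : GGU n F q) * (cs s, MulAut.conj (pr n F q s)) * (f, σ)⁻¹ ∈ HU n F q :=
    mul_mem (mul_mem h (pair_mem s)) (inv_mem h)
  have h2 : σ * MulAut.conj (pr n F q s) * σ⁻¹ = MulAut.conj (pr n F q t) := by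
    rw [ht]
    ext x
    simp only [MulAut.mul_apply, MulAut.conj_apply, map_mul, map_inv, MulAut.apply_inv_self]
  have h3 : ((f, σ) : GGU n F q) * (cs s, MulAut.conj (pr n F q s)) * (f, σ)⁻¹ =
      (f * cs s * f⁻¹, MulAut.conj (pr n F q t)) := Prod.ext rfl h2
  rwa [h3] at h1

include hF in
theorem cs_eq_one (hn : 3 ≤ n) {s : Cfsg.SU n F q} (h : pr n F q s = 1) : cs s = 1 := by
  refine eq_of_snd hF hn (σ := 1) ?_ (one_mem _)
  have h1 := pair_mem s
  rwa [h, map_one] at h1

variable (Γ : Subgroup (MulAut (Cfsg.PSU n F q)))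

/-- the group of the ring automorphisms inducing elements of `Γ` -/
noncomputable def SS : Subgroup (Equiv.Perm (R F (V n F))) :=
  (HU n F q ⊓ Γ.comap (MonoidHom.snd _ _)).map (MonoidHom.fst _ _)

variable {Γ}

theorem mem_SS {f : Equiv.Perm (R F (V n F))} :
    f ∈ SS Γ ↔ ∃ σ ∈ Γ, ((f, σ) : GGU n F q) ∈ HU n F q := by
  constructor
  · rintro ⟨p, ⟨hp, hp2⟩, rfl⟩
    exact ⟨p.2, hp2, hp⟩
  · rintro ⟨σ, hσ, h⟩
    exact ⟨(f, σ), ⟨h, hσ⟩, rfl⟩

theorem SS_le : SS Γ ≤ RB (hb n hF) := by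
  intro f hf
  obtain ⟨σ, -, h⟩ := mem_SS.1 hf
  exact fst_memU hF h

include hF in
theorem SS_solvable (hn : 3 ≤ n) (hΓ : Group.IsSolvable Γ) : Group.IsSolvable (SS Γ) := by
  have hT : Group.IsSolvable (HU n F q ⊓ Γ.comap (MonoidHom.snd _ _) : Subgroup (GGU n F q)) := by
    let f : (HU n F q ⊓ Γ.comap (MonoidHom.snd _ _) : Subgroup (GGU n F q)) →* Γ :=
      ((MonoidHom.snd (Equiv.Perm (R F (V n F))) (MulAut (Cfsg.PSU n F q))).comp
        (Subgroup.subtype (HU n F q ⊓ Γ.comap (MonoidHom.snd _ _)))).codRestrict Γ fun p => p.2.2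
    have hf : Function.Injective f := by
      rw [injective_iff_map_eq_one]
      intro p hp
      apply Subtype.ext
      exact eq_one_of_sndU hF hn p.2.1 (congrArg Subtype.val hp)
    exact Group.isSolvable_of_isSolvable_injective hf
  exact Group.isSolvable_of_surjective (MonoidHom.subgroupMap_surjective
    (MonoidHom.fst (Equiv.Perm (R F (V n F))) (MulAut (Cfsg.PSU n F q))) (HU n F q ⊓ Γ.comap (MonoidHom.snd _ _)))

theorem cs_mem_SS {A : Subgroup (Cfsg.PSU n F q)} (h : IF A Γ) {s : Cfsg.SU n F q} :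
    cs s ∈ SS Γ ↔ pr n F q s ∈ A := by
  rw [mem_SS]
  constructor
  · rintro ⟨σ, hσ, h1⟩
    have h2 := eq_of_fst h1 (pair_mem s)
    rw [h2] at hσ
    exact (h.conj _).1 hσ
  · intro hs
    exact ⟨_, (h.conj _).2 hs, pair_mem s⟩

include hF in
/-- **Principle.** `B ≥ SS Γ` : all `cs s` are in `B`, or all `s` with `cs s ∈ B` are over `A`. -/
theorem max_stab (hn : 3 ≤ n) (h32 : ¬ (n = 3 ∧ q = 2)) {A : Subgroup (Cfsg.PSU n F q)} (h : IF A Γ)
    {B : Subgroup (Equiv.Perm (R F (V n F)))} (hB : SS Γ ≤ B) :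
    (∀ s : Cfsg.SU n F q, cs s ∈ B) ∨ ∀ s : Cfsg.SU n F q, cs s ∈ B → pr n F q s ∈ A := by
  let C : Subgroup (Cfsg.SU n F q) := B.comap ((H198.FC.cj F (V n F)).comp us)
  have hC : ∀ s, s ∈ C ↔ cs s ∈ B := fun s => Iff.rfl
  have hker : ∀ {s t : Cfsg.SU n F q}, pr n F q s = pr n F q t → s ∈ C → t ∈ C := by
    intro s t hst hs
    have h1 : pr n F q (s⁻¹ * t) = 1 := by rw [map_mul, map_inv, hst, inv_mul_cancel]
    have h2 : s⁻¹ * t ∈ C := by
      rw [hC, cs_eq_one hF hn h1]
      exact one_mem _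
    have h3 := mul_mem hs h2
    rwa [mul_inv_cancel_left] at h3
  rcases h.max (C.map (pr n F q)) (by
    intro a ha
    obtain ⟨s, rfl⟩ := pr_surjective a
    exact ⟨s, hB ((cs_mem_SS h).2 ha), rfl⟩) (by
    rintro σ hσ _ ⟨s, hs, rfl⟩
    obtain ⟨p, hp, hp2⟩ := exists_pairU hF hn h32 σ
    obtain ⟨t, ht⟩ := pr_surjective (σ (pr n F q s))
    have h1 : ((p.1, σ) : GGU n F q) ∈ HU n F q := by rw [← hp2]; exact hp
    have h2 := conj_cs hF hn h1 ht
    have h3 : p.1 ∈ B := hB (mem_SS.2 ⟨σ, hσ, h1⟩)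
    refine ⟨t, ?_, ht⟩
    change cs t ∈ B
    rw [← h2]
    exact mul_mem (mul_mem h3 hs) (inv_mem h3)) with h1 | h1
  · right
    intro s hs
    rw [← h1]
    exact ⟨s, hs, rfl⟩
  · left
    intro s
    have h2 : pr n F q s ∈ C.map (pr n F q) := by rw [h1]; exact mem_top _
    obtain ⟨t, ht, hts⟩ := h2
    exact hker hts ht

end frame

end Cfsg.Agent.H574.IFO
end

private theorem dce_46f3b95f6bc0 : _root_.True := by
  try have : _root_.True := by simp only [_root_.Cfsg.Agent.H574.IFO.sw.eq_1]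
  exact _root_.True.intro
end

-- part: H574/IFO/Kills_mg
section
prune_inst 0x10100120400002000000058211001c0298000082004b000000000240020820200d00060002000100000000000000004000000080000000000a00040000050000008000040000000002000e000080000000000000000000000000000000000000000000000
set_option linter.all false
open scoped Cfsg.Agent.FastGrp

-- part: H574/IFO/Kills
section
/-!
# S5719, `PSU_n(q)`, `|A|` odd: killing lemmas (helper574)

* `span_us` : the algebra generated by `SU` is `End V`;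
* `exists_sw` : the swap elements have even order in `PSU`;
* `kill_set` : an `SS Γ`-invariant set `D ⊆ End V`; `kill_sub` : an invariant subspace.
-/

set_option autoImplicit false
set_option linter.unusedSectionVars false

namespace Cfsg.Agent.H574.IFO

open Matrix Subgroup Cfsg.Agent.H198.FC Cfsg.Agent.LieClassical.HermBasic Cfsg.Agent.LieClassical.HermSiegel
  Cfsg.Agent.ClassicalGeometry.PSUAutCount Cfsg.Agent.Schreier.PSU Cfsg.Agent.H602.FC Cfsg.Agent.H209.Fxy
open Cfsg.Agent.ClassicalGeometry.UnitAutBasic (pr pr_surjective)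

theorem even_of_four {G : Type*} [Group G] {x : G} (h4 : x ^ 4 = 1) (h1 : x ≠ 1) : Even (orderOf x) := by
  have h2 : orderOf x ∣ 4 := orderOf_dvd_of_pow_eq_one h4
  have h3 : orderOf x ≠ 1 := fun h => h1 (orderOf_eq_one_iff.1 h)
  have h5 : orderOf x ≤ 4 := Nat.le_of_dvd (by norm_num) h2
  generalize orderOf x = m at h2 h3 h5
  interval_cases m
  · revert h2; decide
  · exact absurd rfl h3
  · decide
  · revert h2; decide
  · decide

theorem gen1 {K A : Type*} [Field K] [Ring A] [Algebra K A] (x y z w : A) {c : K} (hc0 : c ≠ 0) :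
    (1 + c • x - c⁻¹ • y - z - w) - (1 + (1 : K) • x - (1 : K)⁻¹ • y - z - w) = (c - 1) • (x + c⁻¹ • y) := by
  have e1 : (1 : K) - c⁻¹ = (c - 1) * c⁻¹ := by
    rw [sub_mul, mul_inv_cancel₀ hc0, one_mul]
  have e2 : (1 : K) • y - c⁻¹ • y = ((c - 1) * c⁻¹) • y := by rw [← e1, sub_smul]
  rw [smul_add, smul_smul, ← e2, sub_smul, inv_one]
  abel

theorem gen2 {K A : Type*} [Field K] [Ring A] [Algebra K A] (x y : A) (c c' : K) :
    (x + c • y) - (x + c' • y) = (c - c') • y := by
  rw [sub_smul]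
  abel

theorem pai {X : Type*} (f : Equiv.Perm X) (x : X) : f (f⁻¹ x) = x := f.apply_symm_apply x

theorem pia {X : Type*} (f : Equiv.Perm X) (x : X) : f⁻¹ (f x) = x := f.symm_apply_apply x

variable {n : ℕ} {F : Type} [Field F] {q : ℕ}

theorem cs_mul (s t : Cfsg.SU n F q) : cs (s * t) = cs s * cs t := by
  change H198.FC.cj F (V n F) (us (s * t)) = _
  rw [map_mul, map_mul]

theorem cs_one : cs (1 : Cfsg.SU n F q) = 1 := by
  change H198.FC.cj F (V n F) (us 1) = _
  rw [map_one, map_one]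

theorem cs_inv (s : Cfsg.SU n F q) : cs s⁻¹ = (cs s)⁻¹ := by
  change H198.FC.cj F (V n F) (us s⁻¹) = _
  rw [map_inv, map_inv]

theorem cs_pow (s : Cfsg.SU n F q) (k : ℕ) : cs (s ^ k) = cs s ^ k := by
  change H198.FC.cj F (V n F) (us (s ^ k)) = _
  rw [map_pow, map_pow]

section fin

variable [Fintype F] (hF : Fintype.card F = q ^ 2)

theorem exists_su {X : R F (V n F)} (hd : LinearMap.det X = 1) (hi : (hb n hF).Isom X) :
    ∃ s : Cfsg.SU n F q, ((us s : (R F (V n F))ˣ) : R F (V n F)) = X := by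
  have hdet : ((E n F).symm X).det = 1 := by
    have h1 := LinearMap.det_toMatrix' X
    rw [hd] at h1
    exact h1
  have hap : ∀ v : V n F, ((E n F).symm X) *ᵥ v = X v := fun v => by
    have h1 : E n F ((E n F).symm X) v = X v := by rw [(E n F).apply_symm_apply]
    exact h1
  have hiso : ∀ u v : V n F, hermForm n F q (((E n F).symm X) *ᵥ u) (((E n F).symm X) *ᵥ v) =
      hermForm n F q u v := fun u v => by
    rw [hap, hap]
    exact hi u v
  refine ⟨mkSU _ hdet hiso, ?_⟩
  rw [coe_us, mat_mkSU]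
  exact (E n F).apply_symm_apply _

theorem cs_apply (s : Cfsg.SU n F q) (X : R F (V n F)) :
    cs s X = (us s : (R F (V n F))ˣ) * X * (((us s)⁻¹ : (R F (V n F))ˣ) : R F (V n F)) := rfl

theorem cs_fix_iff (s : Cfsg.SU n F q) (X : R F (V n F)) :
    cs s X = X ↔ ((us s : (R F (V n F))ˣ) : R F (V n F)) * X = X * (us s : (R F (V n F))ˣ) := by
  rw [cs_apply, Units.mul_inv_eq_iff_eq_mul]

include hF in
theorem exists_sw (hn : 3 ≤ n) {a a' : R F (V n F)} (h : (hb n hF).Adj a a') (hp : Pi a a') (ha : a ≠ 0) :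
    ∃ s : Cfsg.SU n F q, ((us s : (R F (V n F))ˣ) : R F (V n F)) = sw a a' ∧ Even (orderOf (pr n F q s)) := by
  obtain ⟨s, hs⟩ := exists_su hF (det_sw hp) (isom_sw h hp)
  refine ⟨s, hs, even_of_four ?_ ?_⟩
  · rw [← map_pow]
    have h1 : s ^ 4 = 1 := by
      apply us_inj
      apply Units.ext
      rw [map_pow, map_one, Units.val_pow_eq_pow_val, hs, Units.val_one]
      have := hp.sw_four
      rw [← this]
      noncomm_ring
    rw [h1, map_one]
  · intro h1
    have h2 := cs_eq_one hF hn h1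
    have h3 : cs s a = a := by rw [h2]; rfl
    rw [cs_fix_iff, hs] at h3
    exact ha (hp.ne_of_comm h3)

theorem adj_single (i j : Fin n) (c : F) :
    (hb n hF).Adj (E n F (single i j c)) (E n F (single j i ((hb n hF).τ c))) := by
  intro v w
  change hermForm n F q (single i j c *ᵥ v) w = hermForm n F q v (single j i ((hb n hF).τ c) *ᵥ w)
  have e1 : ∀ (i j : Fin n) (c : F) (v : Fin n → F), single i j c *ᵥ v = Pi.single i (c * v j) := by
    intro i j c v
    ext k
    simp only [mulVec, dotProduct, single_apply, Pi.single_apply]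
    by_cases hk : i = k
    · subst hk
      simp only [_root_.true_and, _root_.ite_mul, _root_.MulZeroClass.zero_mul, _root_.Finset.sum_ite_eq, _root_.Finset.mem_univ, ↓ _root_.reduceIte]
    · rw [if_neg (Ne.symm hk)]
      apply Finset.sum_eq_zero
      intro l _
      rw [if_neg (fun h => hk h.1), zero_mul]
  have hq : q ≠ 0 := by
    rintro rfl
    simp at hF
  rw [e1, e1]
  unfold Cfsg.hermForm
  rw [Finset.sum_eq_single i, Finset.sum_eq_single j]
  · rw [Pi.single_eq_same, Pi.single_eq_same, mul_pow]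
    have e2 : ((hb n hF).τ c) ^ q = c := (hb n hF).invol c
    rw [e2]
    ring
  · intro k _ hk
    rw [Pi.single_eq_of_ne hk, zero_pow hq, mul_zero]
  · simp only [_root_.Finset.mem_univ, _root_.not_true_eq_false, _root_.Pi.single_eq_same, _root_.mul_eq_zero, _root_.pow_eq_zero_iff', _root_.EmbeddingLike.map_eq_zero_iff, _root_.ne_eq, _root_.IsEmpty.forall_iff]
  · intro k _ hk
    rw [Pi.single_eq_of_ne hk, zero_mul]
  · simp only [_root_.Finset.mem_univ, _root_.not_true_eq_false, _root_.Pi.single_eq_same, _root_.mul_eq_zero, _root_.pow_eq_zero_iff', _root_.ne_eq, _root_.IsEmpty.forall_iff]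

/-- two elements of norm one different from `1` -/
theorem exists_mu (hF : Fintype.card F = q ^ 2) : ∃ c c' : F, c ≠ 1 ∧ c' ≠ 1 ∧ c ≠ c' ∧ c * c ^ q = 1 ∧ c' * c' ^ q = 1 := by
  have hq : 2 ≤ q := by
    by_contra hcon
    have h1 : q = 0 ∨ q = 1 := by omega
    have h2 := Fintype.one_lt_card (α := F)
    rcases h1 with rfl | rfl <;> simp [hF] at h2
  classical
  obtain ⟨g, hg⟩ := IsCyclic.exists_generator (α := Fˣ)
  have ho : orderOf g = q ^ 2 - 1 := by
    rw [orderOf_eq_card_of_forall_mem_zpowers hg, Nat.card_eq_fintype_card, Fintype.card_units, hF]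
  have hqq : q ^ 2 - 1 = (q - 1) * (q + 1) := by
    obtain ⟨k, rfl⟩ := Nat.exists_eq_add_of_le hq
    have e : 2 + k - 1 = k + 1 := by omega
    rw [e]
    have : (2 + k) ^ 2 = (k + 1) * (2 + k + 1) + 1 := by ring
    omega
  have ho2 : orderOf (g ^ (q - 1)) = q + 1 := by
    rw [orderOf_pow_of_dvd (by omega) (by rw [ho, hqq]; exact Dvd.intro _ rfl), ho, hqq, Nat.mul_div_cancel_left _ (by omega)]
  obtain ⟨u, hu⟩ : ∃ u : Fˣ, u = g ^ (q - 1) := ⟨_, rfl⟩
  rw [← hu] at ho2
  have h1 : u ≠ 1 := by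
    rintro rfl
    rw [orderOf_one] at ho2
    omega
  have h2 : u ^ 2 ≠ 1 := by
    intro h
    have := Nat.le_of_dvd (by norm_num) (orderOf_dvd_of_pow_eq_one h)
    omega
  have h3 : u ^ (q + 1) = 1 := by rw [← ho2, pow_orderOf_eq_one]
  have h4 : (u : F) * (u : F) ^ q = 1 := by
    rw [← pow_succ', ← Units.val_pow_eq_pow_val, h3, Units.val_one]
  refine ⟨u, (u : F) ^ 2, ?_, ?_, ?_, h4, ?_⟩
  · intro h; exact h1 (Units.ext h)
  · intro h
    apply h2
    apply Units.ext
    rw [Units.val_pow_eq_pow_val, h, Units.val_one]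
  · intro h
    apply h1
    have h5 : (u : F) * 1 = (u : F) * u := by rw [mul_one, ← sq]; exact h
    have h6 := mul_left_cancel₀ u.ne_zero h5
    exact Units.ext h6.symm
  · have : (u : F) ^ 2 * ((u : F) ^ 2) ^ q = ((u : F) * (u : F) ^ q) ^ 2 := by ring
    rw [this, h4, one_pow]

include hF in
/-- the algebra generated by `SU` is `End V` -/
theorem span_us (hn : 3 ≤ n) (D : Subalgebra F (R F (V n F)))
    (hD : ∀ s : Cfsg.SU n F q, ((us s : (R F (V n F))ˣ) : R F (V n F)) ∈ D) : D = ⊤ := by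
  obtain ⟨c, c', hc, hc', hcc, hcn, hcn'⟩ := exists_mu hF
  have hc0 : c ≠ 0 := by
    rintro rfl
    rw [zero_mul] at hcn
    exact zero_ne_one hcn
  have hc0' : c' ≠ 0 := by
    rintro rfl
    rw [zero_mul] at hcn'
    exact zero_ne_one hcn'
  -- the elements of norm one
  have key : ∀ (i j : Fin n), i ≠ j → ∀ c : F, c * c ^ q = 1 →
      (1 : R F (V n F)) + c • E n F (single i j 1) - c⁻¹ • E n F (single j i 1) - E n F (single j j 1) -
        E n F (single i i 1) ∈ D := by
    intro i j hij c hcn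
    have hc0 : c ≠ 0 := by
      rintro rfl
      rw [zero_mul] at hcn
      exact zero_ne_one hcn
    have hci : (hb n hF).τ c = c⁻¹ := (eq_inv_of_mul_eq_one_right hcn)
    have hadj := adj_single hF i j c
    rw [hci] at hadj
    have h1 : E n F (single i j c) * E n F (single i j c) = 0 := by
      rw [← map_mul, single_mul_single_of_ne _ _ _ _ hij.symm, map_zero]
    have h3 : E n F (single i j c) * E n F (single j i c⁻¹) * E n F (single i j c) = E n F (single i j c) := by
      rw [← map_mul, ← map_mul, single_mul_single_same, single_mul_single_same, mul_inv_cancel₀ hc0, one_mul]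
    have hp := pi_of_adj hadj h1 h3
    have ha : E n F (single i j c) ≠ 0 := by
      intro h
      have h2 : single i j c = 0 := (E n F).injective (by rw [h, map_zero])
      have h4 := congrFun (congrFun h2 i) j
      rw [single_apply_same] at h4
      exact hc0 h4
    obtain ⟨s, hs, -⟩ := exists_sw hF hn hadj hp ha
    have h5 := hD s
    rw [hs, sw, ← map_mul, ← map_mul, single_mul_single_same, single_mul_single_same, mul_inv_cancel₀ hc0,
      inv_mul_cancel₀ hc0] at h5
    have e1 : ∀ (i j : Fin n) (c : F), E n F (single i j c) = c • E n F (single i j 1) := by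
      intro i j c
      rw [← map_smul, smul_single, smul_eq_mul, mul_one]
    rw [e1 i j c, e1 j i c⁻¹] at h5
    exact h5
  have key2 : ∀ (i j : Fin n), i ≠ j → ∀ c : F, c ≠ 1 → c * c ^ q = 1 →
      E n F (single i j 1) + c⁻¹ • E n F (single j i 1) ∈ D := by
    intro i j hij c hc hcn
    have hc0 : c ≠ 0 := by
      rintro rfl
      rw [zero_mul] at hcn
      exact zero_ne_one hcn
    have h1 := D.sub_mem (key i j hij c hcn) (key i j hij 1 (by rw [one_pow, one_mul]))
    have h2 : ((1 : R F (V n F)) + c • E n F (single i j 1) - c⁻¹ • E n F (single j i 1) - E n F (single j j 1) -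
        E n F (single i i 1)) - ((1 : R F (V n F)) + (1 : F) • E n F (single i j 1) - (1 : F)⁻¹ • E n F (single j i 1)
        - E n F (single j j 1) - E n F (single i i 1)) =
        (c - 1) • (E n F (single i j 1) + c⁻¹ • E n F (single j i 1)) :=
      gen1 _ _ _ _ hc0
    rw [h2] at h1
    have h3 := D.smul_mem h1 (c - 1)⁻¹
    rwa [smul_smul, inv_mul_cancel₀ (sub_ne_zero.2 hc), one_smul] at h3
  have key3 : ∀ (i j : Fin n), i ≠ j → E n F (single j i 1) ∈ D := by
    intro i j hij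
    have h1 := D.sub_mem (key2 i j hij c hc hcn) (key2 i j hij c' hc' hcn')
    have h2 : (E n F (single i j 1) + c⁻¹ • E n F (single j i 1)) -
        (E n F (single i j 1) + c'⁻¹ • E n F (single j i 1)) = (c⁻¹ - c'⁻¹) • E n F (single j i (1 : F)) :=
      gen2 _ _ _ _
    rw [h2] at h1
    have h3 := D.smul_mem h1 (c⁻¹ - c'⁻¹)⁻¹
    have h4 : c⁻¹ - c'⁻¹ ≠ 0 := by
      rw [sub_ne_zero]
      intro h
      exact hcc (inv_injective h)
    rwa [smul_smul, inv_mul_cancel₀ h4, one_smul] at h3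
  have key4 : ∀ (i j : Fin n), E n F (single i j 1) ∈ D := by
    intro i j
    by_cases hij : i = j
    · subst hij
      obtain ⟨k, hk⟩ : ∃ k : Fin n, k ≠ i := by
        by_cases h0 : (i : ℕ) = 0
        · exact ⟨⟨1, by omega⟩, fun h => by have := congrArg Fin.val h; simp at this; omega⟩
        · exact ⟨⟨0, by omega⟩, fun h => h0 (congrArg Fin.val h).symm⟩
      have h1 := D.mul_mem (key3 k i hk) (key3 i k hk.symm)
      rwa [← map_mul, single_mul_single_same, one_mul] at h1
    · exact key3 j i (Ne.symm hij)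
  rw [eq_top_iff]
  intro X _
  obtain ⟨M, rfl⟩ := (E n F).surjective X
  rw [matrix_eq_sum_single M, map_sum]
  refine D.sum_mem fun i _ => ?_
  rw [map_sum]
  refine D.sum_mem fun j _ => ?_
  have e1 : E n F (single i j (M i j)) = M i j • E n F (single i j 1) := by
    rw [← map_smul, smul_single, smul_eq_mul, mul_one]
  rw [e1]
  exact D.smul_mem (key4 i j) _

include hF in
/-- commutant -/
theorem cent (hn : 3 ≤ n) {X : R F (V n F)} (hX : ∀ s : Cfsg.SU n F q, cs s X = X) (Y : R F (V n F)) : X * Y = Y * X := by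
  have h1 := span_us hF hn (Subalgebra.centralizer F {X}) (by
    intro s
    rw [Subalgebra.mem_centralizer_iff]
    intro Z hZ
    rw [Set.mem_singleton_iff] at hZ
    subst hZ
    exact ((cs_fix_iff s Z).1 (hX s)).symm)
  have h2 : Y ∈ Subalgebra.centralizer F {X} := by rw [h1]; exact Algebra.mem_top
  rw [Subalgebra.mem_centralizer_iff] at h2
  exact h2 X rfl

include hF in
/-- irreducibility -/
theorem irr (hn : 3 ≤ n) {W : Submodule F (V n F)} (hW : ∀ (s : Cfsg.SU n F q), ∀ w ∈ W, act s w ∈ W) (h0 : W ≠ ⊥) :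
    W = ⊤ := by
  let D : Subalgebra F (R F (V n F)) :=
    { carrier := {X | ∀ w ∈ W, X w ∈ W}
      mul_mem' := fun {X Y} hX hY w hw => hX _ (hY w hw)
      add_mem' := fun {X Y} hX hY w hw => W.add_mem (hX w hw) (hY w hw)
      algebraMap_mem' := fun c w hw => by
        rw [Module.algebraMap_end_apply]
        exact W.smul_mem c hw }
  have h1 : D = ⊤ := span_us hF hn D fun s w hw => hW s w hw
  obtain ⟨w, hw, hw0⟩ := (Submodule.ne_bot_iff W).1 h0
  rw [eq_top_iff]
  intro v _
  obtain ⟨i, hi⟩ : ∃ i, w i ≠ 0 := by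
    by_contra hcon
    push Not at hcon
    exact hw0 (funext hcon)
  have h2 : (LinearMap.smulRight (LinearMap.proj i : V n F →ₗ[F] F) ((w i)⁻¹ • v) : R F (V n F)) ∈ D := by
    rw [h1]; exact Algebra.mem_top
  have h3 := h2 w hw
  rwa [LinearMap.smulRight_apply, LinearMap.proj_apply, smul_smul, mul_inv_cancel₀ hi, one_smul] at h3

/-- the stabiliser of a set -/
def SetStab (D : Set (R F (V n F))) : Subgroup (Equiv.Perm (R F (V n F))) where
  carrier := {f | ∀ x, f x ∈ D ↔ x ∈ D}
  one_mem' := fun x => Iff.rfl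
  mul_mem' := by
    intro f g hf hg x
    rw [Equiv.Perm.mul_apply, hf, hg]
  inv_mem' := by
    intro f hf x
    rw [← hf (f⁻¹ x), pai]

theorem mem_SetStab {D : Set (R F (V n F))} {f : Equiv.Perm (R F (V n F))} : f ∈ SetStab D ↔ ∀ x, f x ∈ D ↔ x ∈ D :=
  Iff.rfl

theorem le_SetStab {S : Subgroup (Equiv.Perm (R F (V n F)))} {D : Set (R F (V n F))}
    (hD : ∀ f ∈ S, ∀ x ∈ D, f x ∈ D) : S ≤ SetStab D := by
  intro f hf x
  constructor
  · intro h
    have := hD _ (inv_mem hf) _ h
    rwa [pia] at this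
  · exact hD f hf x

variable {A : Subgroup (Cfsg.PSU n F q)} {Γ : Subgroup (MulAut (Cfsg.PSU n F q))}

theorem odd_of_mem (hodd : Odd (Nat.card A)) {x : Cfsg.PSU n F q} (hx : x ∈ A) (he : Even (orderOf x)) : False := by
  have h2 : orderOf x ∣ Nat.card A := by
    rw [show orderOf x = orderOf (⟨x, hx⟩ : A) from (Subgroup.orderOf_mk x hx).symm]
    exact _root_.orderOf_dvd_natCard _
  exact (Nat.not_even_iff_odd.2 (Odd.of_dvd_nat hodd h2)) he

include hF in
/-- **An invariant set.** -/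
theorem kill_set [IsSimpleGroup (Cfsg.PSU n F q)] (hn : 3 ≤ n) (h32 : ¬ (n = 3 ∧ q = 2)) (h : IF A Γ) (hodd : Odd (Nat.card A))
    {D : Set (R F (V n F))} (hD : ∀ f ∈ SS Γ, ∀ x ∈ D, f x ∈ D) {x y : R F (V n F)} (hx : x ∈ D) (hxy : x * y ≠ y * x)
    {s s0 : Cfsg.SU n F q} (hs : ∀ x ∈ D, cs s x ∈ D) (hev : Even (orderOf (pr n F q s)))
    (hs0 : ∀ x ∈ D, cs s0 x = x) (hs01 : pr n F q s0 ≠ 1) : False := by
  have : Finite (Cfsg.SU n F q) := inferInstance
  rcases max_stab hF hn h32 h (le_SetStab hD) with h1 | h1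
  · -- the kernel of the action on `D`
    let N : Subgroup (Cfsg.SU n F q) :=
      { carrier := {t | ∀ x ∈ D, cs t x = x}
        one_mem' := fun x _ => by rw [cs_one]; rfl
        mul_mem' := by
          intro s t hs ht x hx
          rw [cs_mul, Equiv.Perm.mul_apply, ht x hx, hs x hx]
        inv_mem' := by
          intro s hs x hx
          rw [cs_inv, Equiv.Perm.inv_eq_iff_eq]
          exact (hs x hx).symm }
    have hN : N.Normal := by
      constructor
      intro t ht g x hx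
      rw [cs_mul, cs_mul, Equiv.Perm.mul_apply, Equiv.Perm.mul_apply, cs_inv]
      have h2 : (cs g)⁻¹ x ∈ D := (mem_SetStab.1 (inv_mem (h1 g)) x).2 hx
      rw [ht _ h2, pai]
    have hN2 : (N.map (pr n F q)).Normal := hN.map _ pr_surjective
    rcases hN2.eq_bot_or_eq_top with h2 | h2
    · apply hs01
      have h3 : pr n F q s0 ∈ N.map (pr n F q) := ⟨s0, hs0, rfl⟩
      rwa [h2, Subgroup.mem_bot] at h3
    · apply hxy
      apply cent hF hn
      intro t
      have h3 : pr n F q t ∈ N.map (pr n F q) := by rw [h2]; exact mem_top _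
      obtain ⟨u, hu, hut⟩ := h3
      have h4 : pr n F q (u⁻¹ * t) = 1 := by rw [map_mul, map_inv, hut, inv_mul_cancel]
      have h5 := cs_eq_one hF hn h4
      have h6 : cs t = cs u := by
        have h7 : cs u * cs (u⁻¹ * t) = cs t := by
          rw [← cs_mul, mul_inv_cancel_left]
        rw [← h7, h5, mul_one]
      rw [h6]
      exact hu x hx
  · refine odd_of_mem hodd (h1 s ?_) hev
    -- `cs s` stabilises `D` : finite order
    rw [mem_SetStab]
    intro x
    have hpow : ∀ k : ℕ, ∀ x ∈ D, ((cs s) ^ k) x ∈ D := by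
      intro k
      induction k with
      | zero => intro x hx; exact hx
      | succ k ih =>
        intro x hx
        rw [pow_succ, Equiv.Perm.mul_apply]
        exact ih _ (hs x hx)
    constructor
    · intro hx
      have h2 : (cs s) ^ (orderOf s) = 1 := by
        rw [← cs_pow, pow_orderOf_eq_one, cs_one]
      have h3 : 0 < orderOf s := orderOf_pos s
      have h4 := hpow (orderOf s - 1) _ hx
      rw [← Equiv.Perm.mul_apply, ← pow_succ, Nat.sub_add_cancel h3, h2] at h4
      exact h4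
    · exact hs x

include hF in
/-- the same with an element of the commutant -/
theorem kill_comm [IsSimpleGroup (Cfsg.PSU n F q)] (hn : 3 ≤ n) (h32 : ¬ (n = 3 ∧ q = 2)) (h : IF A Γ)
    (hodd : Odd (Nat.card A)) {D : Set (R F (V n F))} (hD : ∀ f ∈ SS Γ, ∀ x ∈ D, f x ∈ D) {x y : R F (V n F)}
    (hx : x ∈ D) (hxy : x * y ≠ y * x) {a a' : R F (V n F)} (hadj : (hb n hF).Adj a a') (h1 : a * a = 0)
    (h3 : a * a' * a = a) (ha : a ≠ 0) (hc : ∀ x ∈ D, a * x = x * a) (hc' : ∀ x ∈ D, a' * x = x * a') : False := by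
  have hp := pi_of_adj hadj h1 h3
  obtain ⟨s, hs, hev⟩ := exists_sw hF hn hadj hp ha
  have hfix : ∀ x ∈ D, cs s x = x := by
    intro x hx
    rw [cs_fix_iff, hs]
    have e1 := hc x hx
    have e2 := hc' x hx
    simp only [sw, add_mul, mul_add, sub_mul, mul_sub, one_mul, mul_one]
    rw [e1, e2, mul_assoc a' a x, e1, ← mul_assoc a' x a, e2, mul_assoc x, mul_assoc a a' x, e2, ← mul_assoc a x a', e1,
      mul_assoc x]
  refine kill_set hF hn h32 h hodd hD hx hxy (fun x hx => by rw [hfix x hx]; exact hx) hev hfix ?_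
  intro h4
  rw [h4, orderOf_one] at hev
  exact absurd hev (by decide)

include hF in
/-- **An invariant subspace.** -/
theorem kill_sub [IsSimpleGroup (Cfsg.PSU n F q)] (hn : 3 ≤ n) (h32 : ¬ (n = 3 ∧ q = 2)) (h : IF A Γ)
    (hodd : Odd (Nat.card A)) {W : Submodule F (V n F)} (hW : ∀ f ∈ SS Γ, Stb f W) (h0 : W ≠ ⊥) (h1 : W ≠ ⊤)
    {s : Cfsg.SU n F q} (hs : ∀ w ∈ W, act s w ∈ W) (hev : Even (orderOf (pr n F q s))) : False := by
  have hst : ∀ (t : Cfsg.SU n F q) (X : R F (V n F)) (v : V n F), cs t X (act t v) = act t (X v) := by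
    intro t X v
    rw [cs_apply]
    change act t (X ((((us t)⁻¹ : (R F (V n F))ˣ) : R F (V n F)) (((us t : (R F (V n F))ˣ) : R F (V n F)) v))) = _
    have e : ((((us t)⁻¹ : (R F (V n F))ˣ) : R F (V n F)) (((us t : (R F (V n F))ˣ) : R F (V n F)) v)) = v := by
      rw [← Module.End.mul_apply, Units.inv_mul, Module.End.one_apply]
    rw [e]
  have hsurj : ∀ (t : Cfsg.SU n F q) (v : V n F), ∃ w, act t w = v := fun t v => ⟨act t⁻¹ v, act_act_inv t v⟩
  rcases max_stab hF hn h32 h (le_SetStab (D := {X : R F (V n F) | ∀ v, X v ∈ W})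
    fun f hf X hX => hW f hf X hX) with h2 | h2
  · apply h1
    refine irr hF hn ?_ h0
    intro t w hw
    have : Nonempty (Fin n) := ⟨⟨0, by omega⟩⟩
    have i : Fin n := ⟨0, by omega⟩
    have h3 := (h2 t (LinearMap.smulRight (LinearMap.proj i : V n F →ₗ[F] F) w)).2 (fun v => by
      rw [LinearMap.smulRight_apply]
      exact W.smul_mem _ hw)
    have h4 := h3 (act t (Pi.single i 1))
    rw [hst, LinearMap.smulRight_apply, LinearMap.proj_apply, Pi.single_eq_same, one_smul] at h4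
    exact h4
  · have hbij : ∀ w, act s w ∈ W → w ∈ W := by
      have hfin : Finite (V n F) := inferInstance
      let f : W → W := fun w => ⟨act s w, hs w w.2⟩
      have hf : Function.Injective f := by
        intro a b hab
        apply Subtype.ext
        exact act_injective s (congrArg Subtype.val hab)
      have hf2 := Finite.surjective_of_injective hf
      intro w hw
      obtain ⟨w', hw'⟩ := hf2 ⟨_, hw⟩
      have h3 := act_injective s (congrArg Subtype.val hw')
      rw [← h3]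
      exact w'.2
    refine odd_of_mem hodd (h2 s ?_) hev
    intro X
    constructor
    · intro hX v
      have h3 := hX (act s v)
      rw [hst] at h3
      exact hbij _ h3
    · intro hX v
      obtain ⟨w, rfl⟩ := hsurj s v
      rw [hst]
      exact hs _ (hX w)

end fin

end Cfsg.Agent.H574.IFO
end

-- part: H500/IF/SpSplit
section
/-!
# S5719, `PSp_2m(q)`, `q` odd, `m ≥ 3`: elements with `x² = -1`, `-1` a square (helper500)
-/

set_option autoImplicit false

namespace Cfsg.Agent.H500.IFSp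

open Cfsg Module Matrix Cfsg.Agent.ClassicalGeometry.SympBasic Cfsg.Agent.ClassicalGeometry.SympSiegel
  Cfsg.Agent.H914.Gs Cfsg.Agent.H353.Phi

variable {F : Type*} [Field F] {m : ℕ}

local notation "V" => (Fin m ⊕ Fin m → F)
local notation "G" => Matrix.symplecticGroup (Fin m) F
local notation "f" => sympForm m F

/-- `SL_m(F) → Sp_2m(F)` -/
def lev (m : ℕ) (F : Type*) [Field F] : _root_.Matrix.SpecialLinearGroup (Fin m) F →* Matrix.symplecticGroup (Fin m) F where
  toFun A := ⟨fromBlocks A.1 0 0 (A⁻¹).1ᵀ, by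
    have h : (A⁻¹).1 * A.1 = 1 := congrArg Subtype.val (inv_mul_cancel A)
    rw [SymplecticGroup.fromBlocks_mem_iff]
    refine ⟨by simp only [mul_zero, transpose_zero, zero_mul], by simp only [mul_zero, transpose_zero, zero_mul], ?_⟩
    rw [← transpose_mul, h, transpose_one, transpose_zero, zero_mul, sub_zero]⟩
  map_one' := by
    apply Subtype.ext
    have h : ((1 : _root_.Matrix.SpecialLinearGroup (Fin m) F)⁻¹).1 = 1 := by
      rw [_root_.inv_one]
      rfl
    show fromBlocks (1 : Matrix (Fin m) (Fin m) F) 0 0 ((1 : _root_.Matrix.SpecialLinearGroup (Fin m) F)⁻¹).1ᵀ = 1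
    rw [h, transpose_one, fromBlocks_one]
  map_mul' A B := by
    apply Subtype.ext
    show fromBlocks (A.1 * B.1) 0 0 ((A * B)⁻¹).1ᵀ = fromBlocks A.1 0 0 (A⁻¹).1ᵀ * fromBlocks B.1 0 0 (B⁻¹).1ᵀ
    have e : ((A * B)⁻¹).1 = (B⁻¹).1 * (A⁻¹).1 := by
      rw [_root_.mul_inv_rev]
      rfl
    rw [fromBlocks_multiply, e, transpose_mul]
    simp only [mul_zero, zero_mul, add_zero, zero_add]

theorem lev_coe (A : _root_.Matrix.SpecialLinearGroup (Fin m) F) : (lev m F A).1 = fromBlocks A.1 0 0 (A⁻¹).1ᵀ := rfl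

theorem lev_smul_inl (A : _root_.Matrix.SpecialLinearGroup (Fin m) F) (u : Fin m → F) :
    lev m F A • (Sum.elim u 0 : V) = Sum.elim (A.1 *ᵥ u) 0 := by
  rw [smul_def, lev_coe, fromBlocks_mulVec]
  simp

theorem lev_injective : Function.Injective (lev m F) := by
  intro A B h
  have h1 := congrArg Subtype.val h
  rw [lev_coe, lev_coe, fromBlocks_inj] at h1
  exact Subtype.ext h1.1

/-- `diag(i, -i)` -/
def x0 (i : F) (hi : i * i = -1) : G := ⟨fromBlocks (i • 1) 0 0 (-(i • 1)), by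
  rw [SymplecticGroup.fromBlocks_mem_iff]
  refine ⟨by simp only [mul_zero, transpose_zero, zero_mul], by simp only [mul_zero, transpose_zero, zero_mul], ?_⟩
  rw [transpose_smul, transpose_one, transpose_zero, zero_mul, sub_zero, mul_neg, smul_mul_smul_comm, hi, mul_one,
    neg_smul, one_smul, neg_neg]⟩

theorem x0_sq (i : F) (hi : i * i = -1) (v : V) : x0 (m := m) i hi • x0 (m := m) i hi • v = -v := by
  have h : x0 (m := m) i hi * x0 i hi = ⟨-1, SymplecticGroup.neg_mem (one_mem _)⟩ := by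
    apply Subtype.ext
    show fromBlocks (i • 1) 0 0 (-(i • 1)) * fromBlocks (i • 1) 0 0 (-(i • 1)) = -(1 : Matrix (Fin m ⊕ Fin m) (Fin m ⊕ Fin m) F)
    rw [fromBlocks_multiply, ← fromBlocks_one, fromBlocks_neg]
    simp only [mul_zero, zero_mul, add_zero, zero_add, neg_mul, mul_neg, neg_neg, neg_zero, smul_mul_smul_comm, hi,
      mul_one, neg_smul, one_smul]
  rw [← mul_smul, h]
  show (-1 : Matrix (Fin m ⊕ Fin m) (Fin m ⊕ Fin m) F) *ᵥ v = -v
  rw [neg_mulVec, one_mulVec]

theorem lev_comm (i : F) (hi : i * i = -1) (A : _root_.Matrix.SpecialLinearGroup (Fin m) F) :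
    lev m F A * x0 i hi = x0 i hi * lev m F A := by
  apply Subtype.ext
  show fromBlocks A.1 0 0 (A⁻¹).1ᵀ * fromBlocks (i • 1) 0 0 (-(i • 1)) =
    fromBlocks (i • 1) 0 0 (-(i • 1)) * fromBlocks A.1 0 0 (A⁻¹).1ᵀ
  rw [fromBlocks_multiply, fromBlocks_multiply]
  simp only [mul_zero, zero_mul, add_zero, zero_add, neg_mul, mul_neg, smul_mul_assoc, mul_smul_comm, one_mul, mul_one,
    smul_zero, neg_zero]

theorem mulVec_one_of (A : Matrix (Fin m) (Fin m) F) (c : F) (h : ∀ u, A *ᵥ u = c • u) : A = c • 1 := by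
  ext i j
  have h1 := congrFun (h (Pi.single j 1)) i
  rw [mulVec_single_one] at h1
  simpa [Matrix.one_apply, Pi.single_apply] using h1

/-- a fundamental involution of `SL_m`, `m ≥ 3`, is not `±1` -/
theorem mfund_ne (h2 : (2 : F) ≠ 0) (hm : 3 ≤ m) {z : _root_.Matrix.SpecialLinearGroup (Fin m) F} (hz : mfund z) (h : G) :
    ¬((∀ v : V, (h * lev m F z * h⁻¹) • v = v) ∨ ∀ v : V, (h * lev m F z * h⁻¹) • v = -v) := by
  have key : ∀ c : F, (∀ v : V, (h * lev m F z * h⁻¹) • v = c • v) → z.1 = c • 1 := by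
    intro c hc
    apply mulVec_one_of
    intro u
    have h1 := hc (h • (Sum.elim u 0 : V))
    rw [mul_smul, mul_smul, inv_smul_smul, lev_smul_inl, ← smul_smul'] at h1
    have h3 := (MulAction.injective h) h1
    funext k
    have h4 := congrFun h3 (Sum.inl k)
    simpa using h4
  rintro (h1 | h1)
  · have h3 := key 1 (fun v => by rw [one_smul]; exact h1 v)
    have h4 := hz.2
    rw [h3, one_smul, sub_self, rank_zero] at h4
    omega
  · have h3 := key (-1) (fun v => by rw [neg_smul, one_smul]; exact h1 v)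
    have h4 := hz.2
    have h5 : IsUnit ((-1 : F) • (1 : Matrix (Fin m) (Fin m) F) - 1) := by
      have e : ((-1 : F) • (1 : Matrix (Fin m) (Fin m) F) - 1) = (-2 : F) • 1 := by
        rw [show (-2 : F) = -1 - 1 by ring, sub_smul, one_smul]
      rw [e]
      refine IsUnit.of_mul_eq_one ((-2 : F)⁻¹ • 1) ?_
      rw [smul_mul_smul_comm, mul_one, mul_inv_cancel₀ (neg_ne_zero.2 h2), one_smul]
    have h6 : (z : Matrix (Fin m) (Fin m) F) = (-1 : F) • 1 := h3
    rw [h6, rank_of_isUnit _ h5, Fintype.card_fin] at h4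
    omega

/-! ### numbers -/

theorem card_sp_le [Fintype F] : Nat.card (Matrix.symplecticGroup (Fin m) F) ≤ Fintype.card F ^ (2 * m ^ 2 + m) := by
  rw [Cfsg.Agent.S0245.result rfl m]
  have h1 : ∏ i ∈ Finset.range m, (Fintype.card F ^ (2 * (i + 1)) - 1) ≤ Fintype.card F ^ (m ^ 2 + m) := by
    have h3 : ∑ i ∈ Finset.range m, 2 * (i + 1) = m ^ 2 + m := by
      induction m with
      | zero => rfl
      | succ k ih =>
        rw [Finset.sum_range_succ, ih]
        ring
    rw [← h3, ← Finset.prod_pow_eq_pow_sum]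
    exact Finset.prod_le_prod' fun i _ => Nat.sub_le _ _
  calc _ ≤ Fintype.card F ^ (m ^ 2) * Fintype.card F ^ (m ^ 2 + m) := Nat.mul_le_mul_left _ h1
    _ = _ := by rw [← pow_add]; congr 1; ring

theorem le_card_sl [Fintype F] (hm : 1 ≤ m) :
    Fintype.card F ^ (m * (m - 1)) ≤ Nat.card (_root_.Matrix.SpecialLinearGroup (Fin m) F) := by
  have hq : 1 < Fintype.card F := Fintype.one_lt_card
  have h := Cfsg.Agent.S0242.result (F := F) rfl m hm
  have h1 : ∀ i : Fin m, Fintype.card F ^ (m - 1) ≤ Fintype.card F ^ m - Fintype.card F ^ (i : ℕ) := by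
    intro i
    have h3 : Fintype.card F ^ (i : ℕ) ≤ Fintype.card F ^ (m - 1) := Nat.pow_le_pow_right (by omega) (by omega)
    have h4 : 2 * Fintype.card F ^ (m - 1) ≤ Fintype.card F ^ m := by
      obtain ⟨k, rfl⟩ := Nat.exists_eq_add_of_le' hm
      rw [Nat.add_sub_cancel, pow_succ, mul_comm]
      exact Nat.mul_le_mul_left _ hq
    omega
  -- `∏ ≥ (q^m - 1) (q^(m-1))^(m-1)` and `q^m - 1 ≥ (q - 1) q^(m-1)`
  obtain ⟨k, rfl⟩ := Nat.exists_eq_add_of_le' hm
  rw [Fin.prod_univ_succ] at h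
  have h5 : (Fintype.card F ^ k) ^ k ≤ ∏ i : Fin k, (Fintype.card F ^ (k + 1) - Fintype.card F ^ ((i.succ : Fin (k + 1)) : ℕ)) := by
    calc (Fintype.card F ^ k) ^ k = ∏ _i : Fin k, Fintype.card F ^ k := by
          rw [Finset.prod_const, Finset.card_univ, Fintype.card_fin]
      _ ≤ _ := Finset.prod_le_prod' fun i _ => h1 i.succ
  have h6 : (Fintype.card F - 1) * Fintype.card F ^ k ≤ Fintype.card F ^ (k + 1) - Fintype.card F ^ ((0 : Fin (k + 1)) : ℕ) := by
    rw [Fin.val_zero, pow_zero, pow_succ]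
    have : 1 ≤ Fintype.card F ^ k := Nat.one_le_pow _ _ (by omega)
    rw [Nat.sub_mul, one_mul, mul_comm]
    omega
  have h7 := Nat.mul_le_mul h6 h5
  rw [← h] at h7
  have h8 : (Fintype.card F - 1) * Fintype.card F ^ ((k + 1) * (k + 1 - 1)) ≤
      (Fintype.card F - 1) * Nat.card (_root_.Matrix.SpecialLinearGroup (Fin (k + 1)) F) := by
    refine le_trans (le_of_eq ?_) h7
    rw [Nat.add_sub_cancel, ← pow_mul, mul_assoc, ← pow_add]
    congr 2
    ring
  exact Nat.le_of_mul_le_mul_left h8 (by omega)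

/-- **`x² = -1`, `-1` a square.** -/
theorem kill_split {F : Type*} [Field F] [Fintype F] {m : ℕ} (hm : 3 ≤ m) (h2 : (2 : F) ≠ 0) {i : F} (hi : i * i = -1)
    {H : Subgroup (Matrix.symplecticGroup (Fin m) F)}
    (H0 : ∀ y ∈ H, (∀ v : Fin m ⊕ Fin m → F, y • y • v = v) →
      (∀ v : Fin m ⊕ Fin m → F, y • v = v) ∨ ∀ v : Fin m ⊕ Fin m → F, y • v = -v)
    {x : Matrix.symplecticGroup (Fin m) F} (hxx : ∀ v : Fin m ⊕ Fin m → F, x • x • v = -v)
    (hE : ∀ B ≤ Subgroup.centralizer ({x} : Set (Matrix.symplecticGroup (Fin m) F)),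
      H.relIndex B ^ 5 < (Subgroup.centralizer ({x} : Set (Matrix.symplecticGroup (Fin m) F))).index) : False := by
  have : Finite (Matrix.symplecticGroup (Fin m) F) := Subtype.finite
  have : Finite (_root_.Matrix.SpecialLinearGroup (Fin m) F) := Subtype.finite
  have hq : 1 < Fintype.card F := Fintype.one_lt_card
  obtain ⟨h, hh⟩ := conj_of_sq h2 (x0_sq (m := m) i hi) hxx
  let κ : _root_.Matrix.SpecialLinearGroup (Fin m) F →* Matrix.symplecticGroup (Fin m) F :=
    (MulAut.conj h).toMonoidHom.comp (lev m F)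
  have hκ : ∀ A, κ A = h * lev m F A * h⁻¹ := fun A => rfl
  have hκi : Function.Injective κ := (MulAut.conj h).injective.comp lev_injective
  have hr : κ.range ≤ Subgroup.centralizer ({x} : Set (Matrix.symplecticGroup (Fin m) F)) := by
    rintro _ ⟨A, rfl⟩
    rw [Subgroup.mem_centralizer_singleton_iff, ← hh, hκ]
    have := lev_comm i hi A
    calc h * lev m F A * h⁻¹ * (h * x0 i hi * h⁻¹) = h * (lev m F A * x0 i hi) * h⁻¹ := by group
      _ = h * (x0 i hi * lev m F A) * h⁻¹ := by rw [this]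
      _ = _ := by group
  have h1 := hE _ hr
  have h3 : Nat.card F ^ (Fintype.card (Fin m) * (Fintype.card (Fin m) - 1) / 2) ≤ (H.comap κ).index := by
    apply phi_mat_abs h2 (fun D _ _ hD => Cfsg.Agent.S0205.result hD)
    intro z hz hzH
    refine mfund_ne h2 hm hz h (H0 _ hzH ?_)
    intro v
    have e : κ z * κ z = 1 := by rw [← map_mul, hz.1, map_one]
    rw [← mul_smul]
    show (κ z * κ z) • v = v
    rw [e, one_smul]
  rw [Nat.card_eq_fintype_card, Fintype.card_fin, Subgroup.index_comap] at h3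
  -- the class is small
  have h4 : Nat.card κ.range = Nat.card (_root_.Matrix.SpecialLinearGroup (Fin m) F) :=
    Nat.card_congr (MonoidHom.ofInjective hκi).toEquiv.symm
  have h5 : (Subgroup.centralizer ({x} : Set (Matrix.symplecticGroup (Fin m) F))).index *
      Fintype.card F ^ (m * (m - 1)) ≤ Fintype.card F ^ (2 * m ^ 2 + m) := by
    refine le_trans (Nat.mul_le_mul_left _ ((le_card_sl (F := F) (m := m) (by omega)).trans ?_)) (le_trans (le_of_eq
      (Subgroup.index_mul_card (Subgroup.centralizer ({x} : Set (Matrix.symplecticGroup (Fin m) F))))) card_sp_le)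
    rw [← h4]
    exact Subgroup.card_le_of_le hr
  have h6 : Fintype.card F ^ (5 * (m * (m - 1) / 2)) < (Subgroup.centralizer ({x} : Set (Matrix.symplecticGroup (Fin m) F))).index := by
    refine lt_of_le_of_lt ?_ h1
    rw [mul_comm, pow_mul]
    exact Nat.pow_le_pow_left h3 5
  have h7 : Fintype.card F ^ (5 * (m * (m - 1) / 2)) * Fintype.card F ^ (m * (m - 1)) < Fintype.card F ^ (2 * m ^ 2 + m) :=
    lt_of_lt_of_le (Nat.mul_lt_mul_of_pos_right h6 (pow_pos (by omega) _)) h5
  rw [← pow_add] at h7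
  have h8 := (Nat.pow_lt_pow_iff_right hq).1 h7
  obtain ⟨k, rfl⟩ := Nat.exists_eq_add_of_le' hm
  have e1 : (k + 3) * (k + 3 - 1) = k ^ 2 + 5 * k + 6 := by
    rw [show k + 3 - 1 = k + 2 by omega]
    ring
  rw [e1, show 2 * (k + 3) ^ 2 + (k + 3) = 2 * k ^ 2 + 13 * k + 21 by ring] at h8
  obtain ⟨c, hc⟩ : 2 ∣ k ^ 2 + 5 * k + 6 := by
    have h9 := Nat.even_mul_succ_self k
    obtain ⟨c, hc⟩ := h9.two_dvd
    refine ⟨c + 2 * k + 3, ?_⟩
    linarith only [hc]
  rw [hc, Nat.mul_div_cancel_left _ (by norm_num)] at h8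
  linarith only [h8, hc, _root_.sq_nonneg (↑k : ℤ), _root_.Nat.cast_nonneg (α := ℤ) (k)]
end Cfsg.Agent.H500.IFSp
end

private theorem dce_845698d7011e : _root_.True := by
  try have : _root_.True := by simp only [_root_.Cfsg.Agent.H500.IFSp.x0.congr_simp]
  try have : _root_.True := by simp only [_root_.Cfsg.Agent.H602.FC.hb.congr_simp]
  exact _root_.True.intro
end

-- part: H17/IFSp/Ord
section
prune_inst 0x343041203420020000180512722000247c00002200600000e9200b420b4163220d8021410e8015140a2690811001002813100010420000000a003400000700208082120431500d0426001f800084000000000000000000000000000000000000000000000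
set_option linter.all false
open scoped Cfsg.Agent.FastGrp

/-!
# S5719, symplectic groups, `q` odd: class sizes of involutions, the involutions of type `(k, l)` (helper17)
-/

set_option autoImplicit false

namespace Cfsg.Agent.H17.IFSp

open Module Cfsg Cfsg.Agent.ClassicalGeometry.SympBasic Cfsg.Agent.ClassicalGeometry.SympSiegel

/-- lower bound for the order of the symplectic group -/
theorem le_card_mat {F : Type*} [Field F] [Fintype F] (m : ℕ) :
    Fintype.card F ^ (2 * m ^ 2) ≤ Nat.card (Matrix.symplecticGroup (Fin m) F) := by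
  have hq : 1 < Fintype.card F := Fintype.one_lt_card
  rw [Cfsg.Agent.S0245.result rfl m]
  have h1 : Fintype.card F ^ (m ^ 2) ≤ ∏ i ∈ Finset.range m, (Fintype.card F ^ (2 * (i + 1)) - 1) := by
    have h3 : ∑ i ∈ Finset.range m, (2 * i + 1) = m ^ 2 := by
      induction m with
      | zero => rfl
      | succ k ih =>
        rw [Finset.sum_range_succ, ih]
        ring
    rw [← h3, ← Finset.prod_pow_eq_pow_sum]
    refine Finset.prod_le_prod' fun i _ => ?_
    have h4 : Fintype.card F ^ (2 * (i + 1)) = Fintype.card F * Fintype.card F ^ (2 * i + 1) := by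
      rw [← pow_succ']
      rfl
    have h5 : 0 < Fintype.card F ^ (2 * i + 1) := pow_pos (by omega) _
    have h6 : 2 * Fintype.card F ^ (2 * i + 1) ≤ Fintype.card F * Fintype.card F ^ (2 * i + 1) :=
      Nat.mul_le_mul_right _ hq
    omega
  calc Fintype.card F ^ (2 * m ^ 2) = Fintype.card F ^ (m ^ 2) * Fintype.card F ^ (m ^ 2) := by
        rw [← pow_add]; congr 1; ring
    _ ≤ _ := Nat.mul_le_mul_left _ h1

/-- lower bound for the order of an isometry group -/
theorem le_card_Sp {F : Type} [Field F] [Fintype F] {V : Type} [AddCommGroup V] [Module F V] [FiniteDimensional F V]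
    {B : LinearMap.BilinForm F V} (hB : B.IsAlt) (hnd : ND B) {k : ℕ} (hk : finrank F V = 2 * k) :
    Fintype.card F ^ (2 * k ^ 2) ≤ Nat.card (Sp B) := by
  have hnd' : B.Nondegenerate := by
    refine ⟨fun x hx => hnd x hx, fun x hx => hnd x fun y => ?_⟩
    rw [alt_neg hB, hx y, neg_zero]
  obtain ⟨φ, hφ⟩ := Cfsg.Agent.H177.InvolOrth.exists_alt_equiv B (sympBilin k F) hB sb_alt hnd'
    sympBilin_nondegenerate (by rw [hk, finrank_V])
  have hi : IsoF B (sympBilin k F) φ := hφ
  rw [Nat.card_congr (spCongr hi).toEquiv, ← Nat.card_congr (spMat (F := F) (m := k)).toEquiv]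
  exact le_card_mat k

theorem glue_injective {F : Type*} [Field F] {V : Type*} [AddCommGroup V] [Module F V]
    {B : LinearMap.BilinForm F V} {U₁ U₂ : Submodule F V} (hB : B.IsAlt) (hc : IsCompl U₁ U₂)
    (ho : ∀ x ∈ U₁, ∀ y ∈ U₂, B x y = 0) : Function.Injective (glue hB hc ho) := by
  intro g h hgh
  refine Prod.ext (Sp.ext fun a => Subtype.ext ?_) (Sp.ext fun b => Subtype.ext ?_)
  · have h1 := glue_apply hB hc ho g a 0
    rw [hgh, glue_apply hB hc ho h a 0, map_zero, map_zero] at h1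
    simpa only [_root_.SetLike.coe_eq_coe, _root_.ZeroMemClass.coe_zero, _root_.add_zero] using h1.symm
  · have h1 := glue_apply hB hc ho g 0 b
    rw [hgh, glue_apply hB hc ho h 0 b, map_zero, map_zero] at h1
    simpa only [_root_.SetLike.coe_eq_coe, _root_.ZeroMemClass.coe_zero, _root_.zero_add] using h1.symm

/-- lower bound for the order of the centraliser of an involution -/
theorem le_card_cent {F : Type} [Field F] [Fintype F] {V : Type} [AddCommGroup V] [Module F V] [FiniteDimensional F V]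
    {B : LinearMap.BilinForm F V} (h2 : (2 : F) ≠ 0) (hB : B.IsAlt) (hnd : ND B) {τ : Sp B}
    (hτ : τ * τ = 1) {k l : ℕ} (hk : finrank F (eig τ (-1)) = 2 * k) (hl : finrank F (eig τ 1) = 2 * l) :
    Fintype.card F ^ (2 * k ^ 2 + 2 * l ^ 2) ≤ Nat.card (Subgroup.centralizer ({τ} : Set (Sp B))) := by
  have hfin : Finite (Sp B) := finite_Sp B
  have hc := eig_compl h2 hτ
  have ho := eig_perp (B := B) h2 (τ := τ)
  have h1 := le_card_Sp (fun x : eig τ (-1) => hB x.1) (nd_restrict1 hc ho hnd) hk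
  have h3 := le_card_Sp (fun x : eig τ 1 => hB x.1) (nd_restrict2 hB hc ho hnd) hl
  rw [pow_add]
  refine (Nat.mul_le_mul h1 h3).trans ?_
  rw [← Nat.card_prod, Nat.card_congr (MonoidHom.ofInjective (glue_injective hB hc ho)).toEquiv]
  exact Nat.card_le_card_of_injective (fun x => (⟨x.1, glue_le_cent h2 hB hτ x.2⟩ :
    Subgroup.centralizer ({τ} : Set (Sp B)))) (fun x y hxy => Subtype.ext
      (congrArg (fun t : Subgroup.centralizer ({τ} : Set (Sp B)) => t.1) hxy))

section Kill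

variable {F : Type} [Field F] [Fintype F] {m : ℕ}

/-- the class of an involution of type `(k, l)` -/
theorem index_cent_le (h2 : (2 : F) ≠ 0) {τ : Matrix.symplecticGroup (Fin m) F} (hτ : τ * τ = 1) {k l : ℕ}
    (hk : finrank F (eigM τ (-1)) = 2 * k) (hl : finrank F (eigM τ 1) = 2 * l) (hkl : k + l = m) :
    (Subgroup.centralizer ({τ} : Set (Matrix.symplecticGroup (Fin m) F))).index ≤ Fintype.card F ^ (4 * k * l + m) := by
  have : Finite (Matrix.symplecticGroup (Fin m) F) := Subtype.finite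
  have hq : 0 < Fintype.card F := Fintype.card_pos
  have h1 := le_card_cent h2 sb_alt sb_nd (τ := spMat τ) (by rw [← map_mul, hτ, map_one]) hk hl
  have h3 : Nat.card (Subgroup.centralizer ({spMat τ} : Set (Sp (sympBilin m F)))) =
      Nat.card (Subgroup.centralizer ({τ} : Set (Matrix.symplecticGroup (Fin m) F))) := by
    symm
    refine Nat.card_congr
      { toFun := fun x => ⟨spMat x.1, ?_⟩
        invFun := fun y => ⟨spMat.symm y.1, ?_⟩
        left_inv := fun x => Subtype.ext (spMat.symm_apply_apply x.1)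
        right_inv := fun y => Subtype.ext (spMat.apply_symm_apply y.1) }
    · have hx := x.2
      rw [Subgroup.mem_centralizer_iff] at hx ⊢
      intro w hw
      rw [Set.mem_singleton_iff.1 hw, ← map_mul, ← map_mul, hx _ rfl]
    · have hy := y.2
      rw [Subgroup.mem_centralizer_iff] at hy ⊢
      intro w hw
      rw [Set.mem_singleton_iff.1 hw]
      apply spMat.injective
      rw [map_mul, map_mul, MulEquiv.apply_symm_apply]
      exact hy _ rfl
  rw [h3] at h1
  have h4 := (Subgroup.centralizer ({τ} : Set (Matrix.symplecticGroup (Fin m) F))).index_mul_card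
  have h5 := Cfsg.Agent.H500.IFSp.card_sp_le (F := F) (m := m)
  rw [← h4] at h5
  have h6 : Fintype.card F ^ (2 * m ^ 2 + m) =
      Fintype.card F ^ (4 * k * l + m) * Fintype.card F ^ (2 * k ^ 2 + 2 * l ^ 2) := by
    rw [← pow_add]
    congr 1
    subst hkl
    ring
  rw [h6] at h5
  exact Nat.le_of_mul_le_mul_right ((Nat.mul_le_mul_left _ h1).trans h5) (pow_pos hq _)

/-- **no involution of type `(k, l)`, `k, l ≥ 1`, without a fundamental one.** -/
theorem kill_kl (h2 : (2 : F) ≠ 0) {H : Subgroup (Matrix.symplecticGroup (Fin m) F)}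
    (hH : ∀ z ∈ H, ¬ FundM z) {τ : Matrix.symplecticGroup (Fin m) F} (hτ : τ * τ = 1) {k l : ℕ}
    (hk : finrank F (eigM τ (-1)) = 2 * k) (hl : finrank F (eigM τ 1) = 2 * l) (hkl : k + l = m)
    (hE : H.relIndex (Subgroup.centralizer ({τ} : Set (Matrix.symplecticGroup (Fin m) F))) ^ 5 <
      (Subgroup.centralizer ({τ} : Set (Matrix.symplecticGroup (Fin m) F))).index) : False := by
  have hq : 1 < Fintype.card F := Fintype.one_lt_card
  have h1 := phi_mat_cent' h2 hτ hk hl H hH
  rw [Nat.card_eq_fintype_card] at h1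
  have h3 := index_cent_le h2 hτ hk hl hkl
  have h4 : Fintype.card F ^ (5 * (k * (k + 1) / 2 + l * (l + 1) / 2)) < Fintype.card F ^ (4 * k * l + m) := by
    rw [mul_comm 5, pow_mul]
    exact lt_of_le_of_lt (Nat.pow_le_pow_left h1 5) (lt_of_lt_of_le hE h3)
  have h5 := (Nat.pow_lt_pow_iff_right hq).1 h4
  have h6 : 2 * (k * (k + 1) / 2) = k * (k + 1) := Nat.mul_div_cancel' (Nat.even_mul_succ_self k).two_dvd
  have h7 : 2 * (l * (l + 1) / 2) = l * (l + 1) := Nat.mul_div_cancel' (Nat.even_mul_succ_self l).two_dvd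
  generalize k * (k + 1) / 2 = a at *
  generalize l * (l + 1) / 2 = b at *
  subst hkl
  rcases le_total k l with h | h
  · obtain ⟨t, rfl⟩ := Nat.exists_eq_add_of_le h
    nlinarith only [h6, h7, h5]
  · obtain ⟨t, rfl⟩ := Nat.exists_eq_add_of_le h
    nlinarith only [h7, h6, h5]

end Kill

end Cfsg.Agent.H17.IFSp
end
end
end
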